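import Cfsg.Agent.H912.BdOrth
import Cfsg.Agent.H175.BdSU
import Cfsg.Agent.H175.BdSp
import Cfsg.Agent.H203.BdSL2
import Cfsg.Agent.H203.LSE6
import Cfsg.Agent.H203.LSE7
import Cfsg.Agent.H203.LSE8
import Cfsg.Agent.H203.LSF4even
import Cfsg.Agent.H203.LSF4odd
import Cfsg.Agent.H203.LSG2
import Cfsg.Agent.H203.LSTwD4
import Cfsg.Agent.H203.LSTwE6
import Cfsg.Agent.H203.LSTwF4
import Cfsg.Agent.H203.LSSz
import Cfsg.Agent.H340.F4Two
import Cfsg.Agent.H340.ExcDeg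
import Cfsg.Agent.H902.Names

/-!
# TEAM ELUSIVE, exceptional rows: degrees of faithful representations in cross characteristic (helper290)

`lb X q`: a lower bound (with the cap 249) for the degree of a faithful representation, in characteristic different
from that of `q`, of a simple group of shape `X` over the field of `q` elements; `lb_le`.
-/

set_option autoImplicit false

namespace Cfsg.Agent.H290.ElReg

open scoped commutatorElement
open Cfsg Cfsg.Agent.OrdDiv Cfsg.Agent.H902 Cfsg.Agent.H902.Names Cfsg.Agent.H912.Bd Cfsg.Agent.H203.LS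

/-- the lower bounds -/
def lb : Art.Sh → ℕ → ℕ
  | .L n, q => if n = 2 then (q - 1) / Nat.gcd 2 (q - 1) else q ^ (n - 1) - 1
  | .C m, q => if q % 2 = 0 then q ^ m - 1 else if m ≤ 3 then (q ^ m - 1) / 2 else q ^ (m - 1) - 1
  | .U n, q => (q - 1) * q ^ (n - 2)
  | .D m, q => q ^ (m - 1) - 1
  | .DD m, q => q ^ (max 3 (m - 2)) - 1
  | .G2, q => if q = 4 then 0 else (q - 1) * q
  | .F4, q => if q = 2 then 249 else (q - 1) * q ^ 4
  | .E6, q => (q - 1) * q ^ 10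
  | .E7, q => (q - 1) * q ^ 16
  | .E8, q => (q - 1) * q ^ 28
  | .TE6, q => if q = 2 then 249 else (q - 1) * q ^ 6
  | .TD4, q => (q - 1) * q ^ 4
  | .Sz, q => q - 1
  | .Ree, q => q - 1
  | .TF4, q => (q - 1) * q ^ 2

/-- `S` has a faithful representation of degree `n` over `F` -/
def Fth (n : ℕ) (F : Type) [Field F] (S : Type) [Group S] : Prop :=
  ∃ ρ : S →* Matrix.GeneralLinearGroup (Fin n) F, Function.Injective ρ

/-- reindexing -/
def re {ι : Type} [Fintype ι] [DecidableEq ι] (F : Type) [Field F] {n : ℕ} (e : ι ≃ Fin n) :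
    Matrix.GeneralLinearGroup ι F ≃* Matrix.GeneralLinearGroup (Fin n) F :=
  Units.mapEquiv (Matrix.reindexAlgEquiv F F e).toMulEquiv

theorem Fth.of {ι : Type} [Fintype ι] [DecidableEq ι] {F : Type} [Field F] {S : Type} [Group S]
    {ρ : S →* Matrix.GeneralLinearGroup ι F} (hρ : Function.Injective ρ) : Fth (Fintype.card ι) F S :=
  ⟨(re F (Fintype.equivFin ι)).toMonoidHom.comp ρ, (re F (Fintype.equivFin ι)).injective.comp hρ⟩

theorem Fth.congr {n : ℕ} {F : Type} [Field F] {S S' : Type} [Group S] [Group S'] (h : Fth n F S) (e : S ≃* S') :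
    Fth n F S' := by
  obtain ⟨ρ, hρ⟩ := h
  exact ⟨ρ.comp e.symm.toMonoidHom, hρ.comp e.symm.injective⟩

theorem Fth.sub {n : ℕ} {F : Type} [Field F] {S S' : Type} [Group S] [Group S'] (h : Fth n F S) (f : S' →* S)
    (hf : Function.Injective f) : Fth n F S' := by
  obtain ⟨ρ, hρ⟩ := h
  exact ⟨ρ.comp f, hρ.comp hf⟩

theorem Fth.pr {n : ℕ} {F : Type} [Field F] {S : Type} [Group S] (h : Fth n F S) (r : ℕ) : PR F n r S := by
  obtain ⟨ρ, hρ⟩ := h
  refine ⟨S, inferInstance, MonoidHom.id S, ρ, Function.surjective_id, fun x hx y => ?_, ?_, ?_⟩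
  · have h1 : x = 1 := hx
    rw [h1, one_mul, mul_one]
  · have h1 : (MonoidHom.id S).ker = ⊥ := (MonoidHom.ker_eq_bot_iff _).2 Function.injective_id
    rw [h1, Subgroup.card_bot]
    exact Nat.coprime_one_left r
  · rw [(MonoidHom.ker_eq_bot_iff ρ).2 hρ]
    exact bot_le

theorem Fth.hasRep {n : ℕ} {F : Type} [Field F] {S : Type} [Group S] (h : Fth n F S) (hn : n ≤ 248)
    (h2 : (2 : F) ≠ 0) : H340.HasRep 248 S := by
  obtain ⟨ρ, hρ⟩ := h
  have h1 := H340.hasRep_GL (ι := Fin n) h2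
  rw [Fintype.card_fin] at h1
  exact (h1.mono hn).comp ρ hρ

theorem commutator_eq_top {S : Type} [Group S] [IsSimpleGroup S] (hna : ¬ ∀ a b : S, a * b = b * a) :
    commutator S = ⊤ := by
  rcases IsSimpleGroup.eq_bot_or_eq_top_of_normal (commutator S) inferInstance with h | h
  · exfalso
    apply hna
    intro a b
    have h1 : ⁅a, b⁆ ∈ commutator S := Subgroup.commutator_mem_commutator (Subgroup.mem_top a) (Subgroup.mem_top b)
    rw [h, Subgroup.mem_bot, commutatorElement_eq_one_iff_mul_comm] at h1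
    exact h1
  · exact h

theorem ls_le {n : ℕ} {F : Type} [Field F] {S : Type} [Group S] [Finite S] [IsSimpleGroup S]
    (hna : ¬ ∀ a b : S, a * b = b * a) {r d : ℕ} (h : LS.{0, 0, 0} r d S) (hf : Fth n F S) (hr : (r : F) ≠ 0) :
    d ≤ n := by
  obtain ⟨ρ, hρ⟩ := hf
  refine h S (MonoidHom.id S) Function.surjective_id ?_ (commutator_eq_top hna) F hr n ρ ?_
  · rw [(MonoidHom.ker_eq_bot_iff (MonoidHom.id S)).2 Function.injective_id]
    exact bot_le
  · rintro rfl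
    apply hna
    intro a b
    exact hρ rfl

/-- the characteristic from the order of the field -/
theorem charP_of_pow {K : Type} [Field K] [Fintype K] {l a : ℕ} (hl : l.Prime) (h : Fintype.card K = l ^ a) :
    CharP K l := by
  obtain ⟨c, hc⟩ := CharP.exists K
  obtain ⟨m, hm, hcard⟩ := FiniteField.card K c
  rw [h] at hcard
  have h1 : c ∣ l ^ a := by rw [hcard]; exact dvd_pow_self c m.ne_zero
  have h3 : c = l := (Nat.prime_dvd_prime_iff_eq hm hl).1 (hm.dvd_of_dvd_pow h1)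
  rw [← h3]
  exact hc

section

variable {n : ℕ} {F : Type} [Field F] {S : Type} [Group S] {l a : ℕ}

theorem le_psl (hf : Fth n F S) (hl : l.Prime) (hlF : (l : F) ≠ 0) {m : ℕ} {K : Type} [Field K] [Fintype K]
    (hK : Fintype.card K = l ^ a) (hm : 2 ≤ m) (e : S ≃* Matrix.ProjectiveSpecialLinearGroup (Fin m) K) :
    lb (.L m) (l ^ a) ≤ n := by
  have := charP_of_pow hl hK
  by_cases h2 : m = 2
  · subst h2
    show (if 2 = 2 then (l ^ a - 1) / Nat.gcd 2 (l ^ a - 1) else (l ^ a) ^ (2 - 1) - 1) ≤ n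
    rw [if_pos rfl]
    refine H203.BdSL2.bd_of_sl2 hl hK hlF (e.symm.toMonoidHom.comp (QuotientGroup.mk' _)) ?_ n (hf.pr l)
    intro x hx
    have h1 : e.symm (QuotientGroup.mk' _ x) = 1 := hx
    rw [MulEquiv.map_eq_one_iff, QuotientGroup.mk'_apply, QuotientGroup.eq_one_iff] at h1
    exact h1
  · show (if m = 2 then (l ^ a - 1) / Nat.gcd 2 (l ^ a - 1) else (l ^ a) ^ (m - 1) - 1) ≤ n
    rw [if_neg h2, ← hK]
    exact (bd_psl (F := F) hl hlF (by omega) inferInstance).congr e n (hf.pr l)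

theorem le_psu (hf : Fth n F S) (hl : l.Prime) (hlF : (l : F) ≠ 0) {m : ℕ} {K : Type} [Field K] [Fintype K]
    (hK : Fintype.card K = (l ^ a) ^ 2) (hm : 3 ≤ m) (e : S ≃* PSU m K (l ^ a)) : lb (.U m) (l ^ a) ≤ n := by
  have := charP_of_pow hl (a := a * 2) (by rw [hK, pow_mul])
  exact H175.BdSU.bd_psu (F := F) hl hK hm hlF e n (hf.pr l)

theorem half_le {q m : ℕ} (hq : 3 ≤ q) (hm : 4 ≤ m) : q ^ (m - 1) - 1 ≤ (q ^ m - 1) / 2 := by
  obtain ⟨k, rfl⟩ := Nat.exists_eq_add_of_le' (show 1 ≤ m by omega)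
  rw [Nat.add_sub_cancel]
  have h1 : 1 ≤ q ^ k := Nat.one_le_pow _ _ (by omega)
  have h2 : q ^ (k + 1) = q ^ k * q := pow_succ q k
  have h3 : q ^ k * 3 ≤ q ^ k * q := Nat.mul_le_mul_left _ hq
  omega

theorem le_psp (hf : Fth n F S) (hl : l.Prime) (hlF : (l : F) ≠ 0) (ha : 1 ≤ a) {m : ℕ} {K : Type} [Field K]
    [Fintype K] (hK : Fintype.card K = l ^ a) (hm : 2 ≤ m) (e : S ≃* PSp m K) : lb (.C m) (l ^ a) ≤ n := by
  have := charP_of_pow hl hK
  show (if l ^ a % 2 = 0 then (l ^ a) ^ m - 1 else if m ≤ 3 then ((l ^ a) ^ m - 1) / 2 else (l ^ a) ^ (m - 1) - 1) ≤ n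
  have h1 : ((l ^ a) ^ m - 1) / 2 ≤ n := H175.BdSp.bd_psp (F := F) hl hK (by omega) hlF e n (hf.pr l)
  split_ifs with h2 h3
  · have h4 : l = 2 := by
      have h5 : 2 ∣ l ^ a := Nat.dvd_of_mod_eq_zero h2
      exact ((Nat.prime_dvd_prime_iff_eq Nat.prime_two hl).1 (Nat.prime_two.dvd_of_dvd_pow h5)).symm
    subst h4
    exact H175.BdSp.bd_psp_even (F := F) hK (by omega) (by exact_mod_cast hlF) e n (hf.pr 2)
  · exact h1
  · refine (half_le ?_ (by omega)).trans h1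
    have h4 : l ^ 1 ≤ l ^ a := Nat.pow_le_pow_right hl.pos ha
    have h5 := hl.two_le
    rw [pow_one] at h4
    omega

theorem le_oodd (hf : Fth n F S) (hl : l.Prime) (hlF : (l : F) ≠ 0) {m : ℕ} {K : Type} [Field K] [Fintype K]
    (hK : Fintype.card K = l ^ a) (hm : 3 ≤ m) (ho : Odd (l ^ a)) (e : S ≃* POmega K (quadFormOdd m K)) :
    lb (.C m) (l ^ a) ≤ n := by
  have hc := charP_of_pow hl hK
  show (if l ^ a % 2 = 0 then (l ^ a) ^ m - 1 else if m ≤ 3 then ((l ^ a) ^ m - 1) / 2 else (l ^ a) ^ (m - 1) - 1) ≤ n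
  rw [if_neg (by rw [Nat.odd_iff.1 ho]; norm_num)]
  split_ifs with h3
  · have h4 : m = 3 := by omega
    subst h4
    have h5 := (bd_pomega_odd_cube (F := F) hl hlF hc (m := 3) le_rfl).congr e n (hf.pr l)
    rw [hK] at h5
    omega
  · have h5 := (bd_pomega_odd_sl (F := F) hl hlF hc (m := m) hm).congr e n (hf.pr l)
    rwa [hK] at h5

theorem le_oplus (hf : Fth n F S) (hl : l.Prime) (hlF : (l : F) ≠ 0) {m : ℕ} {K : Type} [Field K] [Fintype K]
    (hK : Fintype.card K = l ^ a) (hm : 4 ≤ m) (e : S ≃* POmega K (quadFormPlus m K)) :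
    lb (.D m) (l ^ a) ≤ n := by
  have hc := charP_of_pow hl hK
  have h5 := (bd_pomega_plus_sl (F := F) hl hlF hc (m := m) (by omega)).congr e n (hf.pr l)
  rwa [hK] at h5

theorem le_ominus (hf : Fth n F S) (hl : l.Prime) (hlF : (l : F) ≠ 0) {m : ℕ} {K : Type} [Field K] [Fintype K]
    (hK : Fintype.card K = l ^ a) (hm : 4 ≤ m) (b c : K) (e : S ≃* POmega K (quadFormMinus (m - 1) K b c)) :
    lb (.DD m) (l ^ a) ≤ n := by
  have hc := charP_of_pow hl hK
  have h4 := (bd_pomega_minus_cube (F := F) hl hlF hc (m := m - 1) (by omega) b c).congr e n (hf.pr l)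
  have h5 := (bd_pomega_minus_sl (F := F) hl hlF hc (m := m - 1) (by omega) b c).congr e n (hf.pr l)
  rw [hK] at h4 h5
  show (l ^ a) ^ (max 3 (m - 2)) - 1 ≤ n
  rcases le_total 3 (m - 2) with h | h
  · rw [max_eq_right h]
    exact h5
  · rw [max_eq_left h]
    exact h4

end

section Exc

variable {n : ℕ} {F : Type} [Field F] {S : Type} [Group S] [Finite S] [IsSimpleGroup S] {l a : ℕ}

omit [Finite S] [IsSimpleGroup S] in
theorem fth_absurd {S' : Type} [Group S'] (hn : n ≤ 248) (hf : Fth n F S) (h2 : (2 : F) ≠ 0) (e : S ≃* S')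
    (hB : H340.Big S') : False := by
  obtain ⟨T, -, hT⟩ := hB
  exact hT ((hf.congr e).hasRep hn h2 |>.comp T.subtype Subtype.val_injective)

theorem le_g2 (hna : ¬ ∀ a b : S, a * b = b * a) (hf : Fth n F S) (hl : l.Prime) (hlF : (l : F) ≠ 0)
    {K : Type} [Field K] [Fintype K] (hK : Fintype.card K = l ^ a) (h3 : 3 ≤ l ^ a)
    (e : S ≃* ↥(Lie.chevG2.group K)) : lb .G2 (l ^ a) ≤ n := by
  have hc := charP_of_pow hl hK
  show (if l ^ a = 4 then 0 else (l ^ a - 1) * l ^ a) ≤ n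
  split_ifs with h4
  · exact Nat.zero_le _
  · have h5 := ls_le hna (r := l) ((H203.LS.G2.ls K (by rw [Nat.card_eq_fintype_card, hK]; omega)
      (by rw [Nat.card_eq_fintype_card, hK]; exact h4)).congr e.symm) hf hlF
    rwa [Nat.card_eq_fintype_card, hK] at h5

theorem le_f4 (hna : ¬ ∀ a b : S, a * b = b * a) (hn : n ≤ 248) (hf : Fth n F S) (hl : l.Prime) (hlF : (l : F) ≠ 0)
    {K : Type} [Field K] [Fintype K] (hK : Fintype.card K = l ^ a) (ha : 1 ≤ a)
    (e : S ≃* ↥(Lie.chevF4.group K)) : lb .F4 (l ^ a) ≤ n := by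
  have hc := charP_of_pow hl hK
  show (if l ^ a = 2 then 249 else (l ^ a - 1) * (l ^ a) ^ 4) ≤ n
  by_cases h2 : (2 : K) = 0
  · have h4 : l = 2 := by
      have h5 : l ∣ 2 := (CharP.cast_eq_zero_iff K l 2).1 (by exact_mod_cast h2)
      exact (Nat.prime_dvd_prime_iff_eq hl Nat.prime_two).1 h5
    subst h4
    split_ifs with h4
    · exfalso
      have h6 : ¬ H340.HasRep 248 (↥(Lie.chevF4.group K)) := H340.F4Two.not_hasRep (MonoidHom.id _)
        Function.surjective_id (by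
          rw [(MonoidHom.ker_eq_bot_iff (MonoidHom.id _)).2 Function.injective_id]; exact bot_le) (by
          rw [(MonoidHom.ker_eq_bot_iff (MonoidHom.id _)).2 Function.injective_id, Subgroup.card_bot]; exact odd_one)
      exact h6 ((hf.congr e).hasRep hn (by exact_mod_cast hlF))
    · have h7 : 2 < Nat.card K := by
        rw [Nat.card_eq_fintype_card, hK]
        have h8 : 2 ^ 1 ≤ 2 ^ a := Nat.pow_le_pow_right (by norm_num) ha
        omega
      have h5 := ls_le hna (r := 2) ((H203.LS.F4even.ls_even K h2 h7).congr e.symm) hf hlF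
      rwa [Nat.card_eq_fintype_card, hK] at h5
  · rw [if_neg]
    · have h5 := ls_le hna (r := l) ((H203.LS.F4odd.ls_odd K h2).congr e.symm) hf hlF
      rwa [Nat.card_eq_fintype_card, hK] at h5
    · intro h4
      apply h2
      have h5 : l ∣ 2 := by rw [← h4]; exact dvd_pow_self l (by omega)
      have h6 := (Nat.prime_dvd_prime_iff_eq hl Nat.prime_two).1 h5
      subst h6
      exact_mod_cast CharP.cast_eq_zero K 2

theorem le_e6 (hna : ¬ ∀ a b : S, a * b = b * a) (hf : Fth n F S) (hl : l.Prime) (hlF : (l : F) ≠ 0)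
    {K : Type} [Field K] [Fintype K] (hK : Fintype.card K = l ^ a)
    (e : S ≃* ↥(Lie.chevE6.group K)) : lb .E6 (l ^ a) ≤ n := by
  have hc := charP_of_pow hl hK
  have h5 := ls_le hna (r := l) ((H203.LS.E6.ls K).congr e.symm) hf hlF
  rwa [Nat.card_eq_fintype_card, hK] at h5

theorem le_e7 (hna : ¬ ∀ a b : S, a * b = b * a) (hf : Fth n F S) (hl : l.Prime) (hlF : (l : F) ≠ 0)
    {K : Type} [Field K] [Fintype K] (hK : Fintype.card K = l ^ a)
    (e : S ≃* ↥(Lie.chevE7.group K)) : lb .E7 (l ^ a) ≤ n := by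
  have hc := charP_of_pow hl hK
  have h5 := ls_le hna (r := l) ((H203.LS.E7.ls K).congr e.symm) hf hlF
  rwa [Nat.card_eq_fintype_card, hK] at h5

theorem le_e8 (hna : ¬ ∀ a b : S, a * b = b * a) (hf : Fth n F S) (hl : l.Prime) (hlF : (l : F) ≠ 0)
    {K : Type} [Field K] [Fintype K] (hK : Fintype.card K = l ^ a)
    (e : S ≃* ↥(Lie.chevE8.group K)) : lb .E8 (l ^ a) ≤ n := by
  have hc := charP_of_pow hl hK
  have h5 := ls_le hna (r := l) ((H203.LS.E8.ls K).congr e.symm) hf hlF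
  rwa [Nat.card_eq_fintype_card, hK] at h5

theorem le_te6 (hna : ¬ ∀ a b : S, a * b = b * a) (hn : n ≤ 248) (hf : Fth n F S) (hl : l.Prime) (hlF : (l : F) ≠ 0)
    (ha : 1 ≤ a) {K : Type} [Field K] [Fintype K] (hK : Fintype.card K = (l ^ a) ^ 2)
    (e : S ≃* ↥(Lie.twistedE6 K (l ^ a))) : lb .TE6 (l ^ a) ≤ n := by
  have hc := charP_of_pow hl (a := a * 2) (by rw [hK, pow_mul])
  have hq : IsPrimePow (l ^ a) := hl.isPrimePow.pow (by omega)
  show (if l ^ a = 2 then 249 else (l ^ a - 1) * (l ^ a) ^ 6) ≤ n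
  split_ifs with h2
  · exfalso
    have h5 : l ∣ 2 := by rw [← h2]; exact dvd_pow_self l (by omega)
    have h6 := (Nat.prime_dvd_prime_iff_eq hl Nat.prime_two).1 h5
    subst h6
    exact fth_absurd hn hf (by exact_mod_cast hlF) e (H340.ExcDeg.big_2E6 hq hK)
  · exact ls_le hna (r := l) ((H203.LS.TwE6.ls hq hK).congr e.symm) hf hlF

theorem le_td4 (hna : ¬ ∀ a b : S, a * b = b * a) (hf : Fth n F S) (hl : l.Prime) (hlF : (l : F) ≠ 0)
    (ha : 1 ≤ a) {K : Type} [Field K] [Fintype K] (hK : Fintype.card K = (l ^ a) ^ 3)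
    (e : S ≃* ↥(Lie.twistedD4 K (l ^ a))) : lb .TD4 (l ^ a) ≤ n := by
  have hc := charP_of_pow hl (a := a * 3) (by rw [hK, pow_mul])
  have hq : IsPrimePow (l ^ a) := hl.isPrimePow.pow (by omega)
  exact ls_le hna (r := l) ((H203.LS.TwD4.ls hq hK).congr e.symm) hf hlF

theorem le_sz (hna : ¬ ∀ a b : S, a * b = b * a) (hf : Fth n F S) (hlF : (2 : F) ≠ 0) {m : ℕ} (hm : 1 ≤ m)
    {K : Type} [Field K] [Fintype K] (hK : Fintype.card K = 2 ^ (2 * m + 1))
    (e : S ≃* ↥(Lie.Sz K (2 ^ (m + 1)))) : lb .Sz (2 ^ (2 * m + 1)) ≤ n := by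
  have h5 := ls_le hna (r := 2) ((LS.sz hm hK).congr e.symm) hf (by exact_mod_cast hlF)
  rwa [Nat.card_eq_fintype_card, hK] at h5

theorem le_ree (hna : ¬ ∀ a b : S, a * b = b * a) (hf : Fth n F S) (hlF : (3 : F) ≠ 0) {m : ℕ} (hm : 1 ≤ m)
    {K : Type} [Field K] [Fintype K] (hK : Fintype.card K = 3 ^ (2 * m + 1))
    (e : S ≃* ↥(Lie.twistedG2 K (3 ^ m))) : lb .Ree (3 ^ (2 * m + 1)) ≤ n := by
  have h5 := ls_le hna (r := 3) ((LS.ree hm hK).congr e.symm) hf (by exact_mod_cast hlF)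
  rwa [Nat.card_eq_fintype_card, hK] at h5

theorem le_tf4 (hna : ¬ ∀ a b : S, a * b = b * a) (hf : Fth n F S) (hlF : (2 : F) ≠ 0) {m : ℕ} (hm : 1 ≤ m)
    {K : Type} [Field K] [Fintype K] (hK : Fintype.card K = 2 ^ (2 * m + 1))
    (e : S ≃* ↥(Lie.twistedF4 K (2 ^ m))) : lb .TF4 (2 ^ (2 * m + 1)) ≤ n := by
  have h5 := ls_le hna (r := 2) ((H203.LS.TwF4.ls hm hK).congr e.symm) hf (by exact_mod_cast hlF)
  rwa [Nat.card_eq_fintype_card, hK] at h5

/-- **The degree bound.** -/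
theorem lb_le (hna : ¬ ∀ a b : S, a * b = b * a) (hn : n ≤ 248) (hf : Fth n F S) {g : Grp} {X : Art.Sh}
    (hg : IsLie g X l a) (h : OrdDiv.Real g S) (hr : Art.Real X l a (Nat.card S)) (hlF : (l : F) ≠ 0) :
    lb X (l ^ a) ≤ n := by
  obtain ⟨hl, ha, hok, -⟩ := hr
  cases hg with
  | psl m p f =>
    obtain ⟨K, _, _, hK, ⟨e⟩⟩ := h
    exact le_psl hf hl hlF hK hok.1 e
  | psp m p f =>
    obtain ⟨K, _, _, hK, ⟨e⟩⟩ := h
    exact le_psp hf hl hlF ha hK hok.1 e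
  | oodd m p f hm ho =>
    obtain ⟨K, _, _, hK, ⟨e⟩⟩ := h
    exact le_oodd hf hl hlF hK hm ho e
  | psu m p f =>
    obtain ⟨K, _, _, hK, ⟨e⟩⟩ := h
    exact le_psu hf hl hlF hK hok.1 e
  | oplus m p f =>
    obtain ⟨K, _, _, hK, ⟨e⟩⟩ := h
    exact le_oplus hf hl hlF hK hok e
  | ominus m p f =>
    obtain ⟨K, _, _, b, c, hK, hab, ⟨e⟩⟩ := h
    exact le_ominus hf hl hlF hK hok b c e
  | g2 p f =>
    obtain ⟨K, _, _, hK, ⟨e⟩⟩ := h
    exact le_g2 hna hf hl hlF hK hok e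
  | f4 p f =>
    obtain ⟨K, _, _, hK, ⟨e⟩⟩ := h
    exact le_f4 hna hn hf hl hlF hK ha e
  | e6 p f =>
    obtain ⟨K, _, _, hK, ⟨e⟩⟩ := h
    exact le_e6 hna hf hl hlF hK e
  | e7 p f =>
    obtain ⟨K, _, _, hK, ⟨e⟩⟩ := h
    exact le_e7 hna hf hl hlF hK e
  | e8 p f =>
    obtain ⟨K, _, _, hK, ⟨e⟩⟩ := h
    exact le_e8 hna hf hl hlF hK e
  | te6 p f =>
    obtain ⟨K, _, _, hK, ⟨e⟩⟩ := h
    exact le_te6 hna hn hf hl hlF ha hK e
  | td4 p f =>
    obtain ⟨K, _, _, hK, ⟨e⟩⟩ := h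
    exact le_td4 hna hf hl hlF ha hK e
  | sz p f =>
    obtain ⟨K, _, _, m, hm, hK, hq, ⟨e⟩⟩ := h
    obtain ⟨rfl, -, -⟩ := hok
    rw [hq] at hK ⊢
    exact le_sz hna hf (by exact_mod_cast hlF) hm hK e
  | ree p f =>
    obtain ⟨K, _, _, m, hm, hK, hq, ⟨e⟩⟩ := h
    obtain ⟨rfl, -, -⟩ := hok
    rw [hq] at hK ⊢
    exact le_ree hna hf (by exact_mod_cast hlF) hm hK e
  | tf4 p f =>
    obtain ⟨K, _, _, m, hm, hK, hq, ⟨e⟩⟩ := h
    obtain ⟨rfl, -, -⟩ := hok
    rw [hq] at hK ⊢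
    exact le_tf4 hna hf (by exact_mod_cast hlF) hm hK e

end Exc

end Cfsg.Agent.H290.ElReg
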