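import Cfsg.Agent.H290.ElEng
import Cfsg.Agent.Lib.NilpotentCoprime

/-!
# TEAM ELUSIVE, exceptional rows: the socle contains the primes with nilpotent centralisers (helper290)

* `RichFix`: coprime groups of automorphisms of nonsolvable groups have non-nilpotent fixed points (H566.rich_sub);
* `dvd_socle_rich`: a prime `r` divides the order of the socle if the centralisers of the elements of order `r` are
  nilpotent;
* `alt_le`: in `A_m` this happens only for `m ≤ r + 3`.
-/

set_option autoImplicit false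

namespace Cfsg.Agent.H290.ElRich

universe u

/-- fixed points of coprime automorphisms (a hypothesis) -/
def RichFix : Prop :=
  ∀ (X : Type u) [Group X] [Finite X] (A G : Subgroup X), A ≤ Subgroup.normalizer (G : Set X) →
    (Nat.card A).Coprime (Nat.card G) → ¬ Group.IsSolvable G →
      ¬ Group.IsNilpotent ↥(G ⊓ Subgroup.centralizer (A : Set X))

theorem nilp_of_le {G : Type*} [Group G] {H K : Subgroup G} (h : H ≤ K) (hK : Group.IsNilpotent K) :
    Group.IsNilpotent H :=
  Group.nilpotent_of_mulEquiv (MonoidHom.ofInjective (Subgroup.inclusion_injective h)).symm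

theorem dvd_socle_rich (hrf : RichFix.{u}) {R : Type u} [Group R] [Finite R] {S : Subgroup R} (hSn : S.Normal)
    (hSs : IsSimpleGroup S) (hna : ¬ IsMulCommutative S) {r : ℕ} (hr : r.Prime) (hrR : r ∣ Nat.card R)
    (hcen : ∀ x : R, orderOf x = r → Group.IsNilpotent (Subgroup.centralizer ({x} : Set R))) : r ∣ Nat.card S := by
  by_contra hnd
  have := Fact.mk hr
  obtain ⟨x, hx⟩ := exists_prime_orderOf_dvd_card' r hrR
  have hns : ¬ Group.IsSolvable S := fun hs => hna ⟨⟨IsSimpleGroup.comm_iff_isSolvable.2 hs⟩⟩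
  refine hrf R (Subgroup.zpowers x) S ?_ ?_ hns ?_
  · rw [Subgroup.normalizer_eq_top_iff.2 hSn]
    exact le_top
  · rw [Nat.card_zpowers, hx]
    exact (Nat.Prime.coprime_iff_not_dvd hr).2 hnd
  · refine nilp_of_le (fun y hy => ?_) (hcen x hx)
    rw [Subgroup.mem_centralizer_iff]
    intro z hz
    rw [Set.mem_singleton_iff] at hz
    rw [hz]
    exact Subgroup.mem_centralizer_iff.1 hy.2 _ (Subgroup.mem_zpowers x)

section Alt

open Equiv

/-- a cycle of length 3 -/
def c3 : Perm (Fin 4) := swap 0 1 * swap 1 2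

/-- a double transposition -/
def d2 : Perm (Fin 4) := swap 0 1 * swap 2 3

theorem c3_d2 : c3 * d2 ≠ d2 * c3 := by decide
theorem c3_pow : c3 ^ 3 = 1 := by decide
theorem d2_pow : d2 ^ 2 = 1 := by decide
theorem sign_c3 : Perm.sign c3 = 1 := by decide
theorem sign_d2 : Perm.sign d2 = 1 := by decide

/-- the embedding of the permutation groups -/
noncomputable def emb {r m : ℕ} (f : Fin r ⊕ Fin 4 ↪ Fin m) : Perm (Fin r) × Perm (Fin 4) →* Perm (Fin m) :=
  (Equiv.Perm.extendDomainHom f.toEquivRange).comp (Equiv.Perm.sumCongrHom (Fin r) (Fin 4))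

theorem emb_inj {r m : ℕ} (f : Fin r ⊕ Fin 4 ↪ Fin m) : Function.Injective (emb f) :=
  (Equiv.Perm.extendDomainHom_injective _).comp Equiv.Perm.sumCongrHom_injective

theorem emb_sign {r m : ℕ} (f : Fin r ⊕ Fin 4 ↪ Fin m) (x : Perm (Fin r) × Perm (Fin 4)) :
    Perm.sign (emb f x) = Perm.sign x.1 * Perm.sign x.2 := by
  unfold emb
  rw [MonoidHom.comp_apply, Equiv.Perm.extendDomainHom_apply, Equiv.Perm.sign_extendDomain]
  exact Equiv.Perm.sign_sumCongr x.1 x.2

theorem alt_le {m r : ℕ} (hr : r.Prime) (h5 : 5 ≤ r) {S : Type*} [Group S] (e : S ≃* alternatingGroup (Fin m))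
    (hrm : r ∣ Nat.card S) (hcen : ∀ x : S, orderOf x = r → Group.IsNilpotent (Subgroup.centralizer ({x} : Set S))) :
    m ≤ r + 3 := by
  by_contra hcon
  have hf : Nonempty (Fin r ⊕ Fin 4 ↪ Fin m) := by
    rw [Function.Embedding.nonempty_iff_card_le]
    simp only [Fintype.card_sum, Fintype.card_fin]
    omega
  obtain ⟨f⟩ := hf
  have hodd : Odd r := hr.odd_of_ne_two (by omega)
  let A := alternatingGroup (Fin m)
  have hs : Perm.sign (finRotate r) = 1 := by
    obtain ⟨k, rfl⟩ : ∃ k, r = k + 1 := ⟨r - 1, by omega⟩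
    rw [sign_finRotate]
    obtain ⟨j, hj⟩ := hodd
    exact Even.neg_one_pow ⟨j, by omega⟩
  let x : A := ⟨emb f (finRotate r, 1), by rw [Equiv.Perm.mem_alternatingGroup, emb_sign, hs, map_one, one_mul]⟩
  let a : A := ⟨emb f (1, c3), by rw [Equiv.Perm.mem_alternatingGroup, emb_sign, sign_c3, map_one, one_mul]⟩
  let b : A := ⟨emb f (1, d2), by rw [Equiv.Perm.mem_alternatingGroup, emb_sign, sign_d2, map_one, one_mul]⟩
  have hxo : orderOf x = r := by
    have h1 : orderOf (x : Perm (Fin m)) = orderOf (finRotate r, (1 : Perm (Fin 4))) :=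
      orderOf_injective (emb f) (emb_inj f) _
    rw [Subgroup.orderOf_coe] at h1
    rw [h1, Prod.orderOf]
    simp only [orderOf_one, Nat.lcm_one_right]
    obtain ⟨k, rfl⟩ : ∃ k, r = k + 2 := ⟨r - 2, by omega⟩
    have h2 := (isCycle_finRotate (n := k)).orderOf
    rw [h2, support_finRotate, Finset.card_univ, Fintype.card_fin]
  have hao : a ^ 3 = 1 := by
    apply Subtype.ext
    show (emb f (1, c3)) ^ 3 = 1
    rw [← map_pow, Prod.pow_mk, c3_pow, one_pow]
    exact map_one _
  have hbo : b ^ 2 = 1 := by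
    apply Subtype.ext
    show (emb f (1, d2)) ^ 2 = 1
    rw [← map_pow, Prod.pow_mk, d2_pow, one_pow]
    exact map_one _
  have hax : x * a = a * x := by
    apply Subtype.ext
    show emb f (finRotate r, 1) * emb f (1, c3) = emb f (1, c3) * emb f (finRotate r, 1)
    rw [← map_mul, ← map_mul, Prod.mk_mul_mk, Prod.mk_mul_mk, one_mul, mul_one, one_mul, mul_one]
  have hbx : x * b = b * x := by
    apply Subtype.ext
    show emb f (finRotate r, 1) * emb f (1, d2) = emb f (1, d2) * emb f (finRotate r, 1)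
    rw [← map_mul, ← map_mul, Prod.mk_mul_mk, Prod.mk_mul_mk, one_mul, mul_one, one_mul, mul_one]
  have hab : a * b ≠ b * a := by
    intro h
    have h1 : emb f (1, c3) * emb f (1, d2) = emb f (1, d2) * emb f (1, c3) := congrArg Subtype.val h
    rw [← map_mul, ← map_mul] at h1
    have h2 := congrArg Prod.snd (emb_inj f h1)
    exact c3_d2 h2
  have hnil := hcen (e.symm x) (by rw [← hxo]; exact orderOf_injective e.symm.toMonoidHom e.symm.injective x)
  let a' : Subgroup.centralizer ({e.symm x} : Set S) := ⟨e.symm a, by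
    rw [Subgroup.mem_centralizer_iff]
    rintro _ rfl
    rw [← map_mul, ← map_mul, hax]⟩
  let b' : Subgroup.centralizer ({e.symm x} : Set S) := ⟨e.symm b, by
    rw [Subgroup.mem_centralizer_iff]
    rintro _ rfl
    rw [← map_mul, ← map_mul, hbx]⟩
  have hc : Commute a' b' := Cfsg.Agent.Lib.NilpotentCoprime.commute_of_pow_eq_one (m := 3) (n := 2) (by norm_num)
    (Subtype.ext (by show (e.symm a) ^ 3 = 1; rw [← map_pow, hao, map_one]))
    (Subtype.ext (by show (e.symm b) ^ 2 = 1; rw [← map_pow, hbo, map_one]))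
  apply hab
  apply e.symm.injective
  rw [map_mul, map_mul]
  exact congrArg Subtype.val hc.eq

/-- a prime dividing the order of `A_m` is at most `m` -/
theorem le_of_dvd_alt {m r : ℕ} (hr : r.Prime) {S : Type*} [Group S] (hm : 2 ≤ m) (e : S ≃* alternatingGroup (Fin m))
    (hrm : r ∣ Nat.card S) : r ≤ m := by
  have : Nontrivial (Fin m) := Fin.nontrivial_iff_two_le.2 hm
  have h1 : 2 * Nat.card S = m.factorial := by
    rw [Nat.card_congr e.toEquiv, Nat.card_eq_fintype_card, two_mul_card_alternatingGroup, Fintype.card_perm,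
      Fintype.card_fin]
  have h2 : r ∣ m.factorial := by
    rw [← h1]
    exact hrm.mul_left _
  exact (Nat.Prime.dvd_factorial hr).1 h2

/-- two primes with nilpotent centralisers at distance at least 4 exclude the alternating groups -/
theorem not_alt {m r s : ℕ} (hr : r.Prime) (hs : s.Prime) (h5 : 5 ≤ r) (hrs : r + 4 ≤ s) {S : Type*} [Group S]
    (hm : 2 ≤ m) (e : S ≃* alternatingGroup (Fin m)) (hrm : r ∣ Nat.card S) (hsm : s ∣ Nat.card S)
    (hcen : ∀ x : S, orderOf x = r → Group.IsNilpotent (Subgroup.centralizer ({x} : Set S))) : False := by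
  have h1 := alt_le hr h5 e hrm hcen
  have h2 := le_of_dvd_alt hs hm e hsm
  omega

end Alt

end Cfsg.Agent.H290.ElRich
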