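import Cfsg.Agent.H290.KTF4a
import Cfsg.Agent.H563.KG.Elim
import Cfsg.Agent.H563.KG.RedW
import Cfsg.Agent.H56.Exc.FacTF4
import Cfsg.Agent.H56.Exc.Full
import Cfsg.Agent.H264.FKS.Rows
import Cfsg.Agent.H325.Iso2F4
import Cfsg.Agent.H127.PSUThreeEx

/-!
# Subgroups of `²F₄(q)` of index prime to `q⁴ - q² + 1` (helper290)

`kfull_tf4` : no proper subgroup has index prime to both factors of `Φ₁₂(q)`.
-/

set_option autoImplicit false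

namespace Cfsg.Agent.H290.KTF4

open Cfsg Cfsg.Lie Cfsg.Agent Cfsg.Agent.OrdDiv Cfsg.Agent.H436 Cfsg.Agent.H902 Cfsg.Agent.H290.ElReg Cfsg.Agent.H290.ElTab
  Cfsg.Agent.H563.KG Cfsg.Agent.H915.GN Cfsg.Agent.H264.GN Cfsg.Agent.H264.FKS Cfsg.Agent.H325.Same Cfsg.Agent.H325.Loc
  Cfsg.Agent.H56.Exc

/-! ### numbers -/

section num

variable {m : ℕ}

theorem hx (hm : 1 ≤ m) : 2 ≤ 2 ^ m := Nat.le_self_pow (by omega) 2

theorem hq8 (hm : 1 ≤ m) : 8 ≤ 2 ^ (2 * m + 1) := by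
  calc 8 = 2 ^ 3 := by norm_num
    _ ≤ 2 ^ (2 * m + 1) := Nat.pow_le_pow_right (by norm_num) (by omega)

theorem prod_eq (hm : 1 ≤ m) : mP (2 ^ m) * mM (2 ^ m) = Ph 12 (2 ^ (2 * m + 1)) := by
  have h := mP_mul_mM (hx hm)
  have h8 := hq8 hm
  have h1 : ((Ph 12 (2 ^ (2 * m + 1)) : ℕ) : ℤ) = ((mP (2 ^ m) * mM (2 ^ m) : ℕ) : ℤ) := by
    rw [cast_Ph12 _ (by omega), Nat.cast_mul, h, ← q_TF]
    push_cast
    ring
  exact_mod_cast h1.symm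

theorem cop (hm : 1 ≤ m) : (mP (2 ^ m)).Coprime (mM (2 ^ m)) := by
  by_contra hcon
  obtain ⟨r, hr, h1, h2⟩ := Nat.Prime.not_coprime_iff_dvd.1 hcon
  exact not_dvd_both hm hr h1 h2

theorem prim0 {r : ℕ} (hm : 1 ≤ m) (h : clTF (2 ^ m) 0 r) : Prim (2 ^ (2 * m + 1)) 12 r := by
  rw [← q_TF]
  exact prim_of_mP hm h.1 h.2

theorem prim1 {r : ℕ} (hm : 1 ≤ m) (h : clTF (2 ^ m) 1 r) : Prim (2 ^ (2 * m + 1)) 12 r := by
  rw [← q_TF]
  exact prim_of_mM hm h.1 h.2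

theorem cl_of_dvd {r : ℕ} (hm : 1 ≤ m) (hr : r.Prime) (h : r ∣ Ph 12 (2 ^ (2 * m + 1))) :
    clTF (2 ^ m) 0 r ∨ clTF (2 ^ m) 1 r := by
  rw [← prod_eq hm] at h
  exact (hr.dvd_mul.1 h).imp (fun h => ⟨hr, h⟩) fun h => ⟨hr, h⟩

/-- the classes are the primitive prime divisors of `q¹² - 1` -/
theorem cl_iff {r : ℕ} (hm : 1 ≤ m) : (clTF (2 ^ m) 0 r ∨ clTF (2 ^ m) 1 r) ↔ Prim (2 ^ (2 * m + 1)) 12 r :=
  ⟨fun h => h.elim (prim0 hm) (prim1 hm), fun h => cl_of_dvd hm h.prime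
    (dvd_Ph cls12 (by have := hq8 hm; omega) h)⟩

theorem lt12 {r : ℕ} (hm : 1 ≤ m) (h : clTF (2 ^ m) 0 r ∨ clTF (2 ^ m) 1 r) : 12 < r :=
  prim_lt ((cl_iff hm).1 h) (by norm_num)

theorem mod12 {r : ℕ} (hm : 1 ≤ m) (h : clTF (2 ^ m) 0 r ∨ clTF (2 ^ m) 1 r) : 12 ∣ r - 1 :=
  Nat.dvd_of_mod_eq_zero (mod_of_prim (by have := hq8 hm; omega) (by norm_num) ((cl_iff hm).1 h))

theorem mP_gt (hm : 1 ≤ m) : 52 < mP (2 ^ m) := by
  have h := hx hm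
  have h1 : 2 ^ 2 ≤ (2 ^ m) ^ 2 := Nat.pow_le_pow_left h 2
  have h2 : 2 ^ 3 ≤ (2 ^ m) ^ 3 := Nat.pow_le_pow_left h 3
  have h3 : 2 ^ 4 ≤ (2 ^ m) ^ 4 := Nat.pow_le_pow_left h 4
  unfold mP
  omega

theorem exists_mM (hm : 1 ≤ m) : ∃ r, clTF (2 ^ m) 1 r := by
  have hx := hx hm
  apply Nat.exists_prime_and_dvd (n := mM (2 ^ m))
  intro h
  have h1 := cast_mM hx
  rw [h] at h1
  obtain ⟨t, ht⟩ := Nat.exists_eq_add_of_le hx
  rw [ht] at h1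
  push_cast at h1
  have e : 1 - 2 * (2 + (t : ℤ)) + 2 * (2 + (t : ℤ)) ^ 2 - 4 * (2 + (t : ℤ)) ^ 3 + 4 * (2 + (t : ℤ)) ^ 4 =
    37 + 86 * t + 74 * t ^ 2 + 28 * t ^ 3 + 4 * t ^ 4 := by ring
  rw [e] at h1
  have h2 : (0 : ℤ) ≤ 86 * t + 74 * t ^ 2 + 28 * t ^ 3 + 4 * t ^ 4 := by positivity
  omega

theorem exists_mP (hm : 1 ≤ m) : ∃ r, clTF (2 ^ m) 0 r :=
  Nat.exists_prime_and_dvd (n := mP (2 ^ m)) (by have := mP_gt hm; omega)

theorem Ph_gt (hm : 1 ≤ m) : 2701 < Ph 12 (2 ^ (2 * m + 1)) := by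
  have h8 := hq8 hm
  generalize 2 ^ (2 * m + 1) = q at *
  have h1 : ((Ph 12 q : ℕ) : ℤ) = (q : ℤ) ^ 4 - (q : ℤ) ^ 2 + 1 := cast_Ph12 _ (by omega)
  have h2 : (8 : ℤ) ≤ q := by exact_mod_cast h8
  have h3 : (64 : ℤ) ≤ (q : ℤ) ^ 2 := by nlinarith
  have h4 : (4032 : ℤ) ≤ (q : ℤ) ^ 4 - (q : ℤ) ^ 2 := by
    have : (q : ℤ) ^ 4 - (q : ℤ) ^ 2 = (q : ℤ) ^ 2 * ((q : ℤ) ^ 2 - 1) := by ring
    rw [this]
    nlinarith
  have h5 : (2701 : ℤ) < (Ph 12 q : ℕ) := by rw [h1]; omega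
  exact_mod_cast h5

theorem ncl12 (q : ℕ) : ncl 12 q = Ph 12 q := by
  have h := ncl_mul 12 q
  rwa [show cc 12 = 1 from rfl, Nat.gcd_one_left, mul_one] at h

end num

/-! ### the group -/

section group

variable {F : Type} [Field F] [Fintype F] {m : ℕ}

theorem dvd_card (hF : Fintype.card F = 2 ^ (2 * m + 1)) (hm : 1 ≤ m) :
    mP (2 ^ m) * mM (2 ^ m) ∣ Nat.card ↥(twistedF4 F (2 ^ m)) := by
  rw [← Int.natCast_dvd_natCast, Nat.cast_mul, mP_mul_mM (hx hm), ord_TF4 hF]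
  exact ⟨(2 * ((2 ^ m : ℕ) : ℤ) ^ 2) ^ 12 * (2 * ((2 ^ m : ℕ) : ℤ) ^ 2 - 1) *
      ((2 * ((2 ^ m : ℕ) : ℤ) ^ 2) ^ 3 + 1) * ((2 * ((2 ^ m : ℕ) : ℤ) ^ 2) ^ 4 - 1) *
      ((2 * ((2 ^ m : ℕ) : ℤ) ^ 2) ^ 2 + 1), by ring⟩

theorem big_of (hF : Fintype.card F = 2 ^ (2 * m + 1)) (hm : 1 ≤ m) {r k e : ℕ}
    (h : e = 12 ∧ ((clTF (2 ^ m) 0 r ∧ k = mP (2 ^ m)) ∨ (clTF (2 ^ m) 1 r ∧ k = mM (2 ^ m)))) :
    Big ↥(twistedF4 F (2 ^ m)) r k e := by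
  obtain ⟨rfl, ⟨h, rfl⟩ | ⟨h, rfl⟩⟩ := h
  · exact big_TF4_plus hF hm h.1 h.2
  · exact big_TF4_minus hF hm h.1 h.2

/-- the family of big primes -/
def BF (x r k e : ℕ) : Prop := e = 12 ∧ ((clTF x 0 r ∧ k = mP x) ∨ (clTF x 1 r ∧ k = mM x))

theorem pr_iff {x r : ℕ} : Pr (BF x) r ↔ clTF x 0 r ∨ clTF x 1 r := by
  constructor
  · rintro ⟨k, e, -, ⟨h, -⟩ | ⟨h, -⟩⟩
    · exact Or.inl h
    · exact Or.inr h
  · rintro (h | h)
    · exact ⟨mP x, 12, rfl, Or.inl ⟨h, rfl⟩⟩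
    · exact ⟨mM x, 12, rfl, Or.inr ⟨h, rfl⟩⟩

theorem cop_index {G : Type*} [Group G] {H : Subgroup G}
    (h : ∀ r, clTF (2 ^ m) 0 r ∨ clTF (2 ^ m) 1 r → ¬ r ∣ H.index) : (mP (2 ^ m) * mM (2 ^ m)).Coprime H.index := by
  by_contra hcon
  obtain ⟨r, hr, h1, h2⟩ := Nat.Prime.not_coprime_iff_dvd.1 hcon
  exact h r ((hr.dvd_mul.1 h1).imp (fun h => ⟨hr, h⟩) fun h => ⟨hr, h⟩) h2

theorem dvd_sub {G : Type*} [Group G] {H : Subgroup G} (hG : mP (2 ^ m) * mM (2 ^ m) ∣ Nat.card G)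
    (h : ∀ r, clTF (2 ^ m) 0 r ∨ clTF (2 ^ m) 1 r → ¬ r ∣ H.index) : mP (2 ^ m) * mM (2 ^ m) ∣ Nat.card H := by
  rw [← H.index_mul_card] at hG
  exact (cop_index h).dvd_of_dvd_mul_left hG

theorem rfam (hF : Fintype.card F = 2 ^ (2 * m + 1)) (hm : 1 ≤ m) {M : Subgroup ↥(twistedF4 F (2 ^ m))}
    (hM : mP (2 ^ m) * mM (2 ^ m) ∣ Nat.card M) : RFam ↥M (BF (2 ^ m)) where
  big r k e h := (big_of hF hm h).subgroup M
  dvd r k e h := by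
    obtain ⟨-, ⟨h, -⟩ | ⟨h, -⟩⟩ := h
    · exact (h.2.mul_right _).trans hM
    · exact (h.2.mul_left _).trans hM
  sep r k e h hcon := by
    obtain ⟨rfl, ⟨h, rfl⟩ | ⟨h, rfl⟩⟩ := h
    · obtain ⟨s, hs⟩ := exists_mM hm
      have h1 := ((hs.2.mul_left _).trans hM).trans hcon
      rcases hs.1.dvd_mul.1 h1 with h2 | h2
      · have := Nat.le_of_dvd (by norm_num) h2
        have := lt12 hm (Or.inr hs)
        omega
      · exact not_dvd_both hm hs.1 h2 hs.2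
    · obtain ⟨s, hs⟩ := exists_mP hm
      have h1 := ((hs.2.mul_right _).trans hM).trans hcon
      rcases hs.1.dvd_mul.1 h1 with h2 | h2
      · have := Nat.le_of_dvd (by norm_num) h2
        have := lt12 hm (Or.inl hs)
        omega
      · exact not_dvd_both hm hs.1 hs.2 h2

theorem card_idx : Fintype.card chevF4.Idx = 52 := by decide +kernel

omit [Fintype F] in
theorem fth (x : ℕ) : Fth 52 F ↥(twistedF4 F x) := by
  have h := Fth.of (ρ := (twistedF4 F x).subtype) (twistedF4 F x).subtype_injective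
  rwa [card_idx] at h

theorem named (tb : OrderTable.{0}) (hF : Fintype.card F = 2 ^ (2 * m + 1)) (hm : 1 ≤ m) :
    IsNamed (.tf4 (2 ^ (2 * m + 1))) ↥(twistedF4 F (2 ^ m)) := by
  refine .mk' ⟨F, inferInstance, inferInstance, m, hm, hF, rfl, ⟨MulEquiv.refl _⟩⟩ ⟨m, hm, rfl⟩ ?_
  change 1 * _ = _ ^ 12 * _
  rw [tb.tf4 F m hm hF]; ring

/-- `U₃(q²)` is no section of the right kind: its torus of order `Φ₁₂(q)` is cyclic -/
theorem kill_psu3 {S : Type} [Group S] [Finite S] (hm : 1 ≤ m) (hS : IsNamed (.psu 3 (2 ^ ((2 * m + 1) * 2))) S)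
    {r : ℕ} (hr : clTF (2 ^ m) 0 r) (hb : Big S r (mP (2 ^ m)) 12) : False := by
  obtain ⟨K, _, _, hK, ⟨e⟩⟩ := hS.real
  have hp2 : Fact (Nat.Prime 2) := ⟨Nat.prime_two⟩
  have hK' : Fintype.card K = 2 ^ ((2 * m + 1) * 2 * 2) := by rw [hK]; ring
  have : CharP K 2 := charP_of_card_eq_prime_pow hK'
  have h8 := hq8 hm
  have hQ : 2 ^ ((2 * m + 1) * 2) = (2 ^ (2 * m + 1)) ^ 2 := by rw [← pow_mul]
  have hg : Nat.gcd 3 (2 ^ ((2 * m + 1) * 2) + 1) = 1 := by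
    have h1 : 2 ^ ((2 * m + 1) * 2) % 3 = 1 := by
      rw [mul_comm, pow_mul, Nat.pow_mod]
      norm_num
    refine (Nat.Prime.coprime_iff_not_dvd Nat.prime_three).2 fun h => ?_
    omega
  have hn : (2 ^ ((2 * m + 1) * 2)) ^ 2 - 2 ^ ((2 * m + 1) * 2) + 1 = mP (2 ^ m) * mM (2 ^ m) := by
    rw [prod_eq hm, hQ]
    generalize 2 ^ (2 * m + 1) = q at *
    show (q ^ 2) ^ 2 - q ^ 2 + 1 = q ^ 4 - q ^ 2 + 1
    rw [← pow_mul]
  have hz := Cfsg.Agent.H127.PSUThreeEx.ex_four 2 hK (mP (2 ^ m) * mM (2 ^ m)) (by rw [hg, Nat.div_one, hn])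
  obtain ⟨z, hz⟩ := hz
  have hP0 : 0 < mP (2 ^ m) := by have := mP_gt hm; omega
  obtain ⟨k, hk⟩ := hr.2
  have hk0 : k ≠ 0 := by
    rintro rfl
    omega
  -- the element of order `r`
  have hx : orderOf (z ^ (k * mM (2 ^ m))) = r := by
    have h1 : mP (2 ^ m) * mM (2 ^ m) = r * (k * mM (2 ^ m)) := by rw [hk, mul_assoc]
    have hM0 : mM (2 ^ m) ≠ 0 := by
      obtain ⟨s, hs⟩ := exists_mM hm
      intro h0
      have := prod_eq hm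
      have h2 := Ph_gt hm
      rw [← this, h0, mul_zero] at h2
      omega
    have h2 : k * mM (2 ^ m) ≠ 0 := Nat.mul_ne_zero hk0 hM0
    rw [orderOf_pow_of_dvd h2 (by rw [hz, h1]; exact Dvd.intro_left _ rfl), hz, h1,
      Nat.mul_div_cancel _ (Nat.pos_of_ne_zero h2)]
  have h3 := hb.card (e.symm (z ^ (k * mM (2 ^ m)))) (by rw [MulEquiv.orderOf_eq, hx])
  have h4 : e.symm z ∈ Subgroup.centralizer ({e.symm (z ^ (k * mM (2 ^ m)))} : Set S) := by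
    rw [Subgroup.mem_centralizer_singleton_iff, ← map_mul, ← map_mul, ← pow_succ, ← pow_succ']
  have h5 : orderOf (e.symm z) ∣ mP (2 ^ m) := by
    have h6 : orderOf (⟨e.symm z, h4⟩ : ↥(Subgroup.centralizer ({e.symm (z ^ (k * mM (2 ^ m)))} : Set S))) =
        orderOf (e.symm z) := by
      rw [← Subgroup.orderOf_coe]
    rw [← h6]
    exact (orderOf_dvd_natCard _).trans h3
  rw [MulEquiv.orderOf_eq, hz] at h5
  obtain ⟨s, hs⟩ := exists_mM hm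
  exact not_dvd_both hm hs.1 ((hs.2.mul_left _).trans h5) hs.2

/-- **The theorem.** -/
theorem kfull_tf4 (tb : OrderTable.{0}) (hcyc : CycFixSolv.{0})
    (hcf : ∀ (S : Type) [Group S] [Finite S] [IsSimpleGroup S], IsKnownSimple' S)
    (hF : Fintype.card F = 2 ^ (2 * m + 1)) (hm : 1 ≤ m) :
    KFull ↥(twistedF4 F (2 ^ m)) fun r => clTF (2 ^ m) 0 r ∨ clTF (2 ^ m) 1 r := by
  intro M hM
  have hp2 : Fact (Nat.Prime 2) := ⟨Nat.prime_two⟩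
  have : CharP F 2 := charP_of_card_eq_prime_pow hF
  have hx := hx hm
  have h8 := hq8 hm
  have hT := named tb hF hm
  have hMd := dvd_sub (dvd_card hF hm) hM
  have hrf := rfam hF hm hMd
  obtain ⟨r₀, hr₀⟩ := exists_mP hm
  obtain ⟨s₀, hs₀⟩ := exists_mM hm
  have hr₀M : r₀ ∣ Nat.card M := (hr₀.2.mul_right _).trans hMd
  -- reducedness
  obtain ⟨u, hu⟩ := Cfsg.Agent.H436.exists_prim (q := 2) (e := 12 * (2 * m + 1)) le_rfl (by omega) (by omega)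
  have huq : Prim (2 ^ (2 * m + 1)) 12 u := prim_pow (by omega) (by rwa [mul_comm (2 * m + 1)])
  have huM : u ∣ Nat.card M := by
    rw [prod_eq hm] at hMd
    exact (dvd_Ph cls12 (by omega) huq).trans hMd
  have hcore : ∀ A : Subgroup M, A.Normal → IsPGroup 2 A → A = ⊥ := fun A hA hAp =>
    pcore_of_piso ((Cfsg.Agent.H325.IsoTwF4.piso_twF4 hm hF hu).sub M) huM A hA hAp
  obtain ⟨τ, hτ⟩ := (fth (F := F) (2 ^ m)).sub M.subtype M.subtype_injective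
  have hbM : ∀ r, clTF (2 ^ m) 0 r → Big ↥M r (mP (2 ^ m)) 12 := fun r hr =>
    (big_TF4_plus hF hm hr.1 hr.2).subgroup M
  have hred : Red ↥M (Pr (BF (2 ^ m))) := by
    refine red_of hcyc hτ hcore (pr_iff.2 (Or.inl hr₀)) hr₀.1 hr₀M (fun x hx => (hbM r₀ hr₀).cyc x hx)
      fun t ht ht2 htn htM => ?_
    rw [Fintype.card_fin]
    refine ⟨mP (2 ^ m), (Dvd.intro _ rfl).trans hMd, ?_, Or.inl (mP_gt hm)⟩
    intro x hx hxm a hat hc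
    have h1 := (hbM (orderOf x) ⟨hx, hxm⟩).card x rfl
    have h2 : a ∈ Subgroup.centralizer ({x} : Set ↥M) := Subgroup.mem_centralizer_singleton_iff.2 hc.symm
    have h3 : orderOf a ∣ mP (2 ^ m) := by
      have h6 : orderOf (⟨a, h2⟩ : ↥(Subgroup.centralizer ({x} : Set ↥M))) = orderOf a := by
        rw [← Subgroup.orderOf_coe]
      rw [← h6]
      exact (orderOf_dvd_natCard _).trans h1
    rcases (Nat.dvd_prime ht).1 (orderOf_dvd_of_pow_eq_one hat) with h4 | h4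
    · exact orderOf_eq_one_iff.1 h4
    · exfalso
      rw [h4] at h3
      exact htn (pr_iff.2 (Or.inl ⟨ht, h3⟩))
  obtain ⟨S, hSn, hSs, hSna, hS⟩ :=
    hrf.exists_full hcyc hred (r₁ := r₀) (m₁ := mP (2 ^ m)) (e₁ := 12) ⟨rfl, Or.inl ⟨hr₀, rfl⟩⟩
  have hSs' : IsSimpleGroup S := hSs
  have hS0 : ∀ r, clTF (2 ^ m) 0 r → Big ↥S r (mP (2 ^ m)) 12 ∧ r ∣ Nat.card S ∧ ¬ r ∣ S.index := fun r hr => by
    obtain ⟨h1, h2, h3, -⟩ := hS r (mP (2 ^ m)) 12 ⟨rfl, Or.inl ⟨hr, rfl⟩⟩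
    exact ⟨h1, h2, h3⟩
  have hS1 : ∀ r, clTF (2 ^ m) 1 r → Big ↥S r (mM (2 ^ m)) 12 ∧ r ∣ Nat.card S ∧ ¬ r ∣ S.index := fun r hr => by
    obtain ⟨h1, h2, h3, -⟩ := hS r (mM (2 ^ m)) 12 ⟨rfl, Or.inr ⟨hr, rfl⟩⟩
    exact ⟨h1, h2, h3⟩
  have hSd : mP (2 ^ m) * mM (2 ^ m) ∣ Nat.card S :=
    dvd_sub hMd fun r hr => hr.elim (fun h => (hS0 r h).2.2) fun h => (hS1 r h).2.2
  have hna' : ¬ ∀ a b : S, a * b = b * a := fun h => hSna ⟨⟨h⟩⟩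
  have hphS : ncl 12 (2 ^ (2 * m + 1)) ∣ Nat.card S := by rwa [ncl12, ← prod_eq hm]
  have hrepS : Fth 52 F S := ((fth (F := F) (2 ^ m)).sub M.subtype M.subtype_injective).sub S.subtype S.subtype_injective
  obtain ⟨g, hg⟩ := exists_named tb (hcf S) hna'
  rcases Cfsg.Agent.H192.Singer.cases_name hg.cond with ⟨k, rfl⟩ | hsp | ⟨l, hl, hch⟩
  · exfalso
    obtain ⟨Φ⟩ : Nonempty (S ≃* alternatingGroup (Fin k)) := hg.real
    have hk : 5 ≤ k := hg.cond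
    have hnil : ∀ (r : ℕ) {j : ℕ}, Big ↥S r j 12 → ∀ x : S, orderOf x = r →
        Group.IsNilpotent (Subgroup.centralizer ({x} : Set S)) := by
      intro r j hb x hx
      have := hb.cyc x hx
      let _ := IsCyclic.commGroup (α := ↥(Subgroup.centralizer ({x} : Set S)))
      infer_instance
    have h1 := lt12 hm (Or.inl hr₀)
    have h2 := lt12 hm (Or.inr hs₀)
    have a1 := Cfsg.Agent.H290.ElRich.le_of_dvd_alt hr₀.1 (by omega) Φ (hS0 r₀ hr₀).2.1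
    have a2 := Cfsg.Agent.H290.ElRich.alt_le hr₀.1 (by omega) Φ (hS0 r₀ hr₀).2.1 (hnil r₀ (hS0 r₀ hr₀).1)
    have a3 := Cfsg.Agent.H290.ElRich.le_of_dvd_alt hs₀.1 (by omega) Φ (hS1 s₀ hs₀).2.1
    have a4 := Cfsg.Agent.H290.ElRich.alt_le hs₀.1 (by omega) Φ (hS1 s₀ hs₀).2.1 (hnil s₀ (hS1 s₀ hs₀).1)
    have b1 := mod12 hm (Or.inl hr₀)
    have b2 := mod12 hm (Or.inr hs₀)
    have hne : r₀ ≠ s₀ := fun h => not_dvd_both hm hr₀.1 hr₀.2 (h ▸ hs₀.2)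
    omega
  · exfalso
    have h1 := Cfsg.Agent.H192.Singer.spor_mem hsp
    have h2 : Nat.card S = ordN g := hg.ord
    have h3 := le_spor (q := 2 ^ (2 * m + 1)) bndS_12 cls12 (by omega) h1 (by rw [← h2]; exact hphS)
    rw [ncl12] at h3
    have := Ph_gt hm
    omega
  · by_cases hpl : l = 2
    · subst hpl
      have hdS : Nat.card S ∣ num (.tf4 (2 ^ (2 * m + 1))) := IsNamed.card_dvd hT S
      rcases charp_tf4_12 Nat.prime_two (by omega) hT.cond hg.cond hch hg.eq hdS (fun s hs _ => by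
        rcases (cl_iff hm).2 hs with h | h
        · exact (hS0 s h).2.1
        · exact (hS1 s h).2.1) with rfl | rfl
      · exact eq_top_of_name hT hg
      · exact (kill_psu3 hm hg hr₀ (hS0 r₀ hr₀).1).elim
    · exfalso
      obtain ⟨X, f₁, h1, h2, -⟩ := exists_lie hl hg hch
      have hlF : (l : F) ≠ 0 := by
        intro h
        exact hpl ((Nat.prime_dvd_prime_iff_eq Nat.prime_two hl).1 ((CharP.cast_eq_zero_iff F 2 l).1 h)).symm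
      have h3 := Cfsg.Agent.H290.ElReg.lb_le hna' (by norm_num) hrepS h1 hg.real h2 hlF
      have h4 := le_cross (by norm_num) bndR_52_12 cls12 (by omega) h2 h3 hphS
      rw [ncl12] at h4
      have := Ph_gt hm
      omega

/-- the same with primitive prime divisors -/
theorem K_TF4 (tb : OrderTable.{0}) (hcyc : CycFixSolv.{0})
    (hcf : ∀ (S : Type) [Group S] [Finite S] [IsSimpleGroup S], IsKnownSimple' S)
    (hF : Fintype.card F = 2 ^ (2 * m + 1)) (hm : 1 ≤ m) (M : Subgroup ↥(twistedF4 F (2 ^ m)))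
    (hM : ∀ r, Prim (2 ^ (2 * m + 1)) 12 r → ¬ r ∣ M.index) : M = ⊤ :=
  kfull_tf4 tb hcyc hcf hF hm M fun r hr => hM r ((cl_iff hm).1 hr)

end group

end Cfsg.Agent.H290.KTF4
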