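import Cfsg.Agent.H129.CycRow
import Cfsg.Agent.H436.Ppd

/-!
# TEAM ELUSIVE, exceptional rows: classes of regular elements (helper290)

* `Ab T r`: the centralisers of the elements of prime order `r` are abelian; `Tc T r m`: and of order dividing `m`;
* `Ab.of_at`, `Tc.of_exact`: from the cyclic tori of H129.
-/

set_option autoImplicit false

namespace Cfsg.Agent.H290.ElMain

open Cfsg.Agent.H436 (Prim)
open Cfsg.Agent.H129.CycT

/-! ### classes with abelian centralisers -/

/-- the centralisers of the elements of prime order `r` are abelian -/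
structure Ab (T : Type*) [Group T] (r : ℕ) : Prop where
  prime : r.Prime
  dvd : r ∣ Nat.card T
  ab : ∀ x : T, orderOf x = r → ∀ a b : T, Commute a x → Commute b x → Commute a b

/-- moreover the orders of these centralisers divide `m` -/
structure Tc (T : Type*) [Group T] (r m : ℕ) : Prop extends Ab T r where
  cd : ∀ x : T, orderOf x = r → Nat.card (Subgroup.centralizer ({x} : Set T)) ∣ m

variable {T : Type*} [Group T]

theorem Ab.congr {T' : Type*} [Group T'] (e : T ≃* T') {r : ℕ} (h : Ab T r) : Ab T' r := by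
  refine ⟨h.prime, by rw [← Nat.card_congr e.toEquiv]; exact h.dvd, fun x hx a b ha hb => ?_⟩
  have h1 := h.ab (e.symm x) (by rw [← hx]; exact orderOf_injective e.symm.toMonoidHom e.symm.injective x)
    (e.symm a) (e.symm b) (ha.map e.symm) (hb.map e.symm)
  have h2 := h1.map e
  simpa using h2

theorem Ab.nilp {r : ℕ} (h : Ab T r) {H : Type*} [Group H] (f : H →* T) (hf : Function.Injective f) (x : H)
    (hx : orderOf x = r) : Group.IsNilpotent (Subgroup.centralizer ({x} : Set H)) := by
  have hc : ∀ a b : Subgroup.centralizer ({x} : Set H), a * b = b * a := by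
    intro a b
    have h1 := h.ab (f x) (by rw [orderOf_injective f hf, hx]) (f a) (f b)
      (Commute.map (Subgroup.mem_centralizer_singleton_iff.1 a.2) f)
      (Commute.map (Subgroup.mem_centralizer_singleton_iff.1 b.2) f)
    apply Subtype.ext
    apply hf
    rw [Subgroup.coe_mul, Subgroup.coe_mul, map_mul, map_mul]
    exact h1
  let _ : CommGroup (Subgroup.centralizer ({x} : Set H)) :=
    { (inferInstance : Group (Subgroup.centralizer ({x} : Set H))) with mul_comm := hc }
  exact CommGroup.isNilpotent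

/-- no element of order `t` commutes with an element of order `r` -/
theorem Tc.free [Finite T] {r m : ℕ} (h : Tc T r m) {t : ℕ} (ht : t.Prime) (htm : ¬ t ∣ m) {H : Type*} [Group H]
    (f : H →* T) (hf : Function.Injective f) {x a : H} (hx : orderOf x = r) (ha : a ^ t = 1) (hxa : x * a = a * x) :
    a = 1 := by
  by_contra h1
  have hat : orderOf a = t := by
    have := Fact.mk ht
    exact orderOf_eq_prime ha h1
  apply htm
  refine dvd_trans ?_ (h.cd (f x) (by rw [orderOf_injective f hf, hx]))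
  have h2 : f a ∈ Subgroup.centralizer ({f x} : Set T) := by
    rw [Subgroup.mem_centralizer_singleton_iff, ← map_mul, ← map_mul, hxa]
  have h3 := orderOf_dvd_natCard (⟨f a, h2⟩ : Subgroup.centralizer ({f x} : Set T))
  rwa [Subgroup.orderOf_mk, orderOf_injective f hf, hat] at h3

theorem Tc.dvd_m [Finite T] {r m : ℕ} (h : Tc T r m) : r ∣ m := by
  have := Fact.mk h.prime
  obtain ⟨x, hx⟩ := exists_prime_orderOf_dvd_card' r h.dvd
  refine dvd_trans ?_ (h.cd x hx)
  have h2 : x ∈ Subgroup.centralizer ({x} : Set T) := by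
    rw [Subgroup.mem_centralizer_singleton_iff]
  have h3 := orderOf_dvd_natCard (⟨x, h2⟩ : Subgroup.centralizer ({x} : Set T))
  rwa [Subgroup.orderOf_mk, hx] at h3

theorem Ab.of_at [Finite T] {r : ℕ} (hr : r.Prime) (h : CycAt T r) : Ab T r := by
  refine ⟨hr, ?_, fun x hx a b ha hb => ?_⟩
  · obtain ⟨S, -, h2, -⟩ := h
    exact h2.trans (Subgroup.card_subgroup_dvd_card S)
  · have hc := h.isCyclic hr hx
    have h1 := (IsCyclic.commGroup (α := Subgroup.centralizer ({x} : Set T))).mul_comm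
      ⟨a, Subgroup.mem_centralizer_singleton_iff.2 ha⟩ ⟨b, Subgroup.mem_centralizer_singleton_iff.2 hb⟩
    exact congrArg Subtype.val h1

theorem Tc.of_cyc [Finite T] {C : Subgroup T} (hc : IsCyclic C) {r : ℕ} (hr : r.Prime)
    (hrC : r ∣ Nat.card C) (hcent : ∀ y ∈ C, orderOf y = r → Subgroup.centralizer {y} ≤ C) : Tc T r (Nat.card C) := by
  refine ⟨Ab.of_at hr ⟨C, hc, hrC, hcent⟩, fun x hx => ?_⟩
  obtain ⟨f, hf⟩ := exists_hom hc hr hrC hcent hx
  rw [Nat.card_congr (Equiv.ofBijective f hf)]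

theorem Tc.of_exact [Finite T] {r N : ℕ} (h : CycExact T N) (hr : r.Prime) (hrN : r ∣ N) : Tc T r N :=
  ⟨Ab.of_at hr (h.cycAt hr hrN), fun _ hx => (CycExact.card_centralizer hr hrN h hx).dvd⟩

theorem Tc.congr {T' : Type*} [Group T'] (e : T ≃* T') {r m : ℕ} (h : Tc T r m) : Tc T' r m := by
  refine ⟨h.toAb.congr e, fun x hx => ?_⟩
  have h1 := h.cd (e.symm x) (by rw [← hx]; exact orderOf_injective e.symm.toMonoidHom e.symm.injective x)
  have h3 : (Subgroup.centralizer ({e.symm x} : Set T)).map e.toMonoidHom = Subgroup.centralizer ({x} : Set T') := by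
    ext y
    constructor
    · rintro ⟨z, hz, rfl⟩
      have hz' := Subgroup.mem_centralizer_singleton_iff.1 hz
      rw [Subgroup.mem_centralizer_singleton_iff]
      have := congrArg e hz'
      simpa using this
    · intro hy
      rw [Subgroup.mem_centralizer_singleton_iff] at hy
      refine ⟨e.symm y, ?_, by simp⟩
      show e.symm y ∈ Subgroup.centralizer ({e.symm x} : Set T)
      rw [Subgroup.mem_centralizer_singleton_iff, ← map_mul, ← map_mul, hy]
  rw [← h3]
  rwa [← Nat.card_congr ((Subgroup.centralizer ({e.symm x} : Set T)).equivMapOfInjective e.toMonoidHom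
    e.injective).toEquiv]

/-- a primitive divisor of `q ^ e - 1` divides the last factor -/
theorem dvd_of_id {q e r N : ℕ} (h : Prim q e r) (hq : 1 ≤ q) {a b c : ℕ} (ha : ¬ e ∣ a) (hb : ¬ e ∣ b) (hc : ¬ e ∣ c)
    (hid : ((q : ℤ) ^ e - 1) ∣ ((q : ℤ) ^ a - 1) * ((q : ℤ) ^ b - 1) * ((q : ℤ) ^ c - 1) * N) : r ∣ N := by
  have hcast : ∀ k : ℕ, (((q ^ k - 1 : ℕ)) : ℤ) = (q : ℤ) ^ k - 1 := fun k => by
    rw [Nat.cast_sub (Nat.one_le_pow _ _ hq)]
    push_cast
    rfl
  rw [← hcast, ← hcast, ← hcast, ← hcast, ← Nat.cast_mul, ← Nat.cast_mul, ← Nat.cast_mul,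
    Int.natCast_dvd_natCast] at hid
  have h1 := (h.dvd dvd_rfl).trans hid
  have hp := h.prime
  rcases hp.dvd_mul.1 h1 with h1 | h1
  · rcases hp.dvd_mul.1 h1 with h1 | h1
    · rcases hp.dvd_mul.1 h1 with h1 | h1
      · exact absurd h1 (h.not_dvd_sub ha)
      · exact absurd h1 (h.not_dvd_sub hb)
    · exact absurd h1 (h.not_dvd_sub hc)
  · exact h1

theorem mod_of_prim {q e r : ℕ} (h : Prim q e r) (hq : 1 ≤ q) : e ∣ r - 1 := by
  refine (h.dvd_iff _).1 ?_
  have hc : Nat.Coprime q r := ((Nat.Prime.coprime_iff_not_dvd h.prime).2 h.not_dvd).symm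
  have h1 := Nat.ModEq.pow_totient hc
  rw [Nat.totient_prime h.prime] at h1
  exact (Nat.modEq_iff_dvd' (Nat.one_le_pow _ _ hq)).1 h1.symm

theorem not_dvd_both {m n t : ℕ} (ht : t.Prime) {u v : ℤ} (h : u * m + v * n = 1) (h1 : t ∣ m) (h2 : t ∣ n) :
    False := by
  have h3 : (t : ℤ) ∣ 1 := by
    rw [← h]
    exact dvd_add ((Int.natCast_dvd_natCast.2 h1).mul_left _) ((Int.natCast_dvd_natCast.2 h2).mul_left _)
  have h4 : t ∣ 1 := by exact_mod_cast h3
  exact ht.one_lt.ne' (Nat.dvd_one.1 h4)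

theorem two_dvd_qq {q : ℕ} : 2 ∣ q * (q ^ 2 - 1) := by
  rcases Nat.eq_zero_or_pos q with rfl | h
  · simp
  · have h1 : 2 ∣ q * (q - 1) := (Nat.even_mul_pred_self q).two_dvd
    exact h1.trans (mul_dvd_mul_left q (by simpa using Nat.sub_dvd_pow_sub_pow q 1 2))

end Cfsg.Agent.H290.ElMain
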