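import Cfsg.Agent.H290.ElE7t
import Cfsg.Agent.H290.ElMain
import Cfsg.Agent.H325.IsoExc
import Cfsg.Agent.H325.Same.ExcRow
import Cfsg.Agent.H171.EqF.ER

/-!
# TEAM ELUSIVE, exceptional rows: `E₇(q)` (helper290)

`full_E7` : `T ≅ E₇(q)`, `R ≤ T`, `π(R) = π(T)`: `R = T`.
-/

set_option autoImplicit false

namespace Cfsg.Agent.H290.ElE7

open Cfsg Cfsg.Lie Cfsg.Agent.OrdDiv Cfsg.Agent.H290.ElReg Cfsg.Agent.H290.ElTab
  Cfsg.Agent.H290.ElCross Cfsg.Agent.H290.ElEng Cfsg.Agent.H290.ElRich Cfsg.Agent.H290.ElMain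
open Cfsg.Agent.H436 (Prim IsNamed Cond exists_prim)
open Cfsg.Agent.H264.FKS (Full)

theorem dvd_OT7 {q g r : ℕ} {p f : ℕ} (hq : q = p ^ f) (hr : r.Prime) (hg : g = Nat.gcd 2 (q - 1)) (h2 : 2 ≤ q) {c : ℕ}
    (hc : g * c = OT .E7 p f) (hd : r ∣ OT .E7 p f) : r ∣ c := by
  subst hq
  rw [← hc] at hd
  rcases hr.dvd_mul.1 hd with h | h
  · -- `r = 2`, `q` odd: `8 ∣ (q² - 1)(q² - 1)`
    have h3 : r ∣ 2 := h.trans (hg ▸ Nat.gcd_dvd_left _ _)
    obtain rfl := (Nat.prime_dvd_prime_iff_eq hr Nat.prime_two).1 h3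
    have h4 : 2 ∣ p ^ f - 1 := h.trans (hg ▸ Nat.gcd_dvd_right _ _)
    have hg2 : g = 2 := hg.trans (Nat.gcd_eq_left h4)
    have h5 : 2 * 2 ∣ OT .E7 p f := by
      have h6 : ∀ k : ℕ, 2 ∣ (p ^ f) ^ k - 1 := fun k => h4.trans (by simpa using Nat.sub_dvd_pow_sub_pow (p ^ f) 1 k)
      refine Dvd.dvd.mul_left ?_ _
      exact (((((mul_dvd_mul (h6 2) (h6 6)).mul_right _).mul_right _).mul_right _).mul_right _).mul_right _
    rw [← hc, hg2] at h5
    exact Nat.dvd_of_mul_dvd_mul_left (by norm_num) h5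
  · exact h

/-- **`E₇(q)`.** -/
theorem full_E7 (has : ASThm.{0}) (hrf : RichFix.{0})
    (hnm : ∀ (S : Type) [Group S] [Finite S] [IsSimpleGroup S], ¬ IsMulCommutative S → ∃ g, IsNamed g S)
    {p f : ℕ} (hp : p.Prime) (hf : 1 ≤ f) {T : Type} [Group T] [Finite T] (hT : IsNamed (.e7 (p ^ f)) T)
    {R : Subgroup T} (hfull : Full T R) : R = ⊤ := by
  obtain ⟨F, _, _, hF, ⟨e⟩⟩ := hT.real
  have hpF := Fact.mk hp
  have hch : CharP F p := charP_of_pow hp hF
  have h2q : 2 ≤ p ^ f := hF ▸ Fintype.one_lt_card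
  have hcard : Nat.gcd 2 (p ^ f - 1) * Nat.card T = OT .E7 p f := hT.eq
  obtain ⟨w, hw⟩ := exists_prim (q := p ^ f) (e := 14) h2q (by norm_num) (by norm_num)
  have hwab : Ab T w := by
    obtain ⟨N, -, h⟩ := tc14 hF
    exact (h w hw).toAb.congr e.symm
  have hall : ∀ r, r.Prime → r ∣ OT .E7 p f → r ∣ Nat.card T := fun r hr hd =>
    dvd_OT7 rfl hr rfl h2q hcard hd
  obtain ⟨S, h1, h2, h3, h4, g, h5, h6⟩ := main has hrf hnm (Y := .E7) (n := 133) (by decide) (by norm_num) surv_E7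
    survS_E7 hp hf (by trivial) (F := F) (T := T)
    (((card_idx ▸ Fth.of (ι := chevE7.Idx) (F := F) (ρ := (chevE7.group F).subtype)
      (Subgroup.subtype_injective _)) : Fth 133 F ↥(chevE7.group F)).congr e.symm)
    ⟨_, by rw [mul_comm]; exact hcard.symm⟩ (fun r hr hd => Or.inr (hall r hr hd)) (hall 2 Nat.prime_two (by
      refine two_dvd_qq.trans (mul_dvd_mul (dvd_pow_self _ (by decide)) ?_)
      simp only [H902.Art.num, mul_assoc]
      exact Nat.dvd_mul_right _ _)) hw.prime hwab.dvd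
    ((H325.IsoExc.piso_E7 (hF.symm ▸ hw)).congr e.symm)
    (fun t ht _ => by
      obtain ⟨r, r', m, m', h1, h2, h3⟩ := free_E7 hF ht
      exact ⟨r, r', m, m', h1.congr e.symm, h2.congr e.symm, h3⟩)
    (by
      obtain ⟨r, r', m, m', h1, h2, -, -, h3, -⟩ := free_E7 hF Nat.prime_two
      exact ⟨r, m, h1.congr e.symm, h3⟩)
    (fun e' he r hr => by
      have hr' := Prim.powBase hf hr
      have he : e' = 18 ∨ e' = 14 ∨ e' = 9 ∨ e' = 7 := by simpa [ER] using he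
      rcases he with rfl | rfl | rfl | rfl
      · obtain ⟨N, -, h⟩ := tc18 hF
        exact (h r hr').toAb.congr e.symm
      · obtain ⟨N, -, h⟩ := tc14 hF
        exact (h r hr').toAb.congr e.symm
      · obtain ⟨N, -, h⟩ := tc9 hF
        exact (h r hr').toAb.congr e.symm
      · obtain ⟨N, -, h⟩ := tc7 hF
        exact (h r hr').toAb.congr e.symm)
    (by
      obtain ⟨r9, p9⟩ := exists_prim (q := p ^ f) (e := 9) h2q (by norm_num) (by norm_num)
      obtain ⟨r18, p18⟩ := exists_prim (q := p ^ f) (e := 18) h2q (by norm_num) (by norm_num)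
      obtain ⟨_, -, t9⟩ := tc9 hF
      obtain ⟨_, -, t18⟩ := tc18 hF
      have a9 := (t9 _ p9).toAb.congr e.symm
      have a18 := (t18 _ p18).toAb.congr e.symm
      obtain ⟨k, hk⟩ := mod_of_prim p9 (by omega)
      obtain ⟨k', hk'⟩ := mod_of_prim p18 (by omega)
      have := p9.prime.two_le
      have := p18.prime.two_le
      have := p9.odd (by norm_num)
      have hne : r9 ≠ r18 := fun h => by have := (h ▸ p9).unique p18; omega
      rcases Nat.lt_or_gt_of_ne hne with h | h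
      · exact ⟨r9, r18, a9, a18, by omega, by omega⟩
      · exact ⟨r18, r9, a18, a9, by omega, by omega⟩)
    hfull
  exact H325.Same.row_e7 hT hp hf hfull S h3 h4 h5 h6

end Cfsg.Agent.H290.ElE7
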