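import Cfsg.Agent.H290.ElE8t
import Cfsg.Agent.H290.ElMain
import Cfsg.Agent.H325.IsoExc
import Cfsg.Agent.H325.Same.ExcRow
import Cfsg.Agent.H171.EqF.ER

/-!
# TEAM ELUSIVE, exceptional rows: `E₈(q)` (helper290)

`full_E8` : `T ≅ E₈(q)`, `R ≤ T`, `π(R) = π(T)`: `R = T`.
-/

set_option autoImplicit false

namespace Cfsg.Agent.H290.ElE8

open Cfsg Cfsg.Lie Cfsg.Agent.OrdDiv Cfsg.Agent.H290.ElReg Cfsg.Agent.H290.ElTab
  Cfsg.Agent.H290.ElCross Cfsg.Agent.H290.ElEng Cfsg.Agent.H290.ElRich Cfsg.Agent.H290.ElMain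
open Cfsg.Agent.H436 (Prim IsNamed Cond exists_prim)
open Cfsg.Agent.H264.FKS (Full)

/-- **`E₈(q)`.** -/
theorem full_E8 (has : ASThm.{0}) (hrf : RichFix.{0})
    (hnm : ∀ (S : Type) [Group S] [Finite S] [IsSimpleGroup S], ¬ IsMulCommutative S → ∃ g, IsNamed g S)
    {p f : ℕ} (hp : p.Prime) (hf : 1 ≤ f) {T : Type} [Group T] [Finite T] (hT : IsNamed (.e8 (p ^ f)) T)
    {R : Subgroup T} (hfull : Full T R) : R = ⊤ := by
  obtain ⟨F, _, _, hF, ⟨e⟩⟩ := hT.real
  have hpF := Fact.mk hp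
  have hch : CharP F p := charP_of_pow hp hF
  have h2q : 2 ≤ p ^ f := hF ▸ Fintype.one_lt_card
  have hcard : Nat.card T = OT .E8 p f := by
    have h := hT.eq
    change 1 * Nat.card T = OT .E8 p f at h
    rwa [one_mul] at h
  obtain ⟨w, hw⟩ := exists_prim (q := p ^ f) (e := 24) h2q (by norm_num) (by norm_num)
  have hwab : Ab T w := by
    obtain ⟨N, -, h⟩ := tc24 hF
    exact (h w hw).toAb.congr e.symm
  obtain ⟨S, h1, h2, h3, h4, g, h5, h6⟩ := main has hrf hnm (Y := .E8) (n := 248) (by decide) le_rfl surv_E8 survS_E8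
    hp hf (by trivial) (F := F) (T := T)
    (((card_idx ▸ Fth.of (ι := chevE8.Idx) (F := F) (ρ := (chevE8.group F).subtype)
      (Subgroup.subtype_injective _)) : Fth 248 F ↥(chevE8.group F)).congr e.symm)
    hcard.dvd (fun r _ hr => Or.inr (hcard ▸ hr)) (by
      rw [hcard]
      refine two_dvd_qq.trans (mul_dvd_mul (dvd_pow_self _ (by decide)) ?_)
      simp only [H902.Art.num, mul_assoc]
      exact Nat.dvd_mul_right _ _) hw.prime hwab.dvd
    ((H325.IsoExc.piso_E8 (Or.inr rfl) (hF.symm ▸ hw)).congr e.symm)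
    (fun t ht _ => by
      obtain ⟨r, r', m, m', h1, h2, h3⟩ := free_E8 hF ht
      exact ⟨r, r', m, m', h1.congr e.symm, h2.congr e.symm, h3⟩)
    (by
      obtain ⟨r, r', m, m', h1, h2, -, -, h3, -⟩ := free_E8 hF Nat.prime_two
      exact ⟨r, m, h1.congr e.symm, h3⟩)
    (fun e' he r hr => by
      have hr' := Prim.powBase hf hr
      have he : e' = 30 ∨ e' = 24 ∨ e' = 20 ∨ e' = 15 := by simpa [ER] using he
      rcases he with rfl | rfl | rfl | rfl
      · obtain ⟨N, -, h⟩ := tc30 hF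
        exact (h r hr').toAb.congr e.symm
      · obtain ⟨N, -, h⟩ := tc24 hF
        exact (h r hr').toAb.congr e.symm
      · exact (ab20 hF r hr').congr e.symm
      · obtain ⟨N, -, h⟩ := tc15 hF
        exact (h r hr').toAb.congr e.symm)
    (by
      obtain ⟨r15, p15⟩ := exists_prim (q := p ^ f) (e := 15) h2q (by norm_num) (by norm_num)
      obtain ⟨r30, p30⟩ := exists_prim (q := p ^ f) (e := 30) h2q (by norm_num) (by norm_num)
      obtain ⟨_, -, t15⟩ := tc15 hF
      obtain ⟨_, -, t30⟩ := tc30 hF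
      have a15 := (t15 _ p15).toAb.congr e.symm
      have a30 := (t30 _ p30).toAb.congr e.symm
      obtain ⟨k, hk⟩ := mod_of_prim p15 (by omega)
      obtain ⟨k', hk'⟩ := mod_of_prim p30 (by omega)
      have := p15.prime.two_le
      have := p30.prime.two_le
      have := p15.odd (by norm_num)
      have hne : r15 ≠ r30 := fun h => by have := (h ▸ p15).unique p30; omega
      rcases Nat.lt_or_gt_of_ne hne with h | h
      · exact ⟨r15, r30, a15, a30, by omega, by omega⟩
      · exact ⟨r30, r15, a30, a15, by omega, by omega⟩)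
    hfull
  exact H325.Same.row_e8 hT hp hf hfull S h3 h4 h5 h6

end Cfsg.Agent.H290.ElE8
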