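import Cfsg.Agent.H290.ElTor

/-!
# TEAM ELUSIVE, exceptional rows: the tori of `E₈(q)` (helper290)

`tc15`, `tc24`, `tc30`, `ab20`: the regular classes; `free_E8`: for every prime `t` two of them are free of `t`.
-/

set_option autoImplicit false

namespace Cfsg.Agent.H290.ElE8

open Cfsg Cfsg.Lie Cfsg.Agent.H290.ElMain
open Cfsg.Agent.H436 (Prim exists_prim)
open Cfsg.Agent.H129.CycT

theorem card_idx : Fintype.card chevE8.Idx = 248 := by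
  show Fintype.card (Fin 8 ⊕ Fin 240) = 248
  rw [Fintype.card_sum, Fintype.card_fin, Fintype.card_fin]

variable {F : Type} [Field F] [Fintype F] {q : ℕ}

theorem tc15 (hq : Fintype.card F = q) : ∃ N : ℕ,
    (N : ℤ) = 1 - (q : ℤ) + (q : ℤ) ^ 3 - (q : ℤ) ^ 4 + (q : ℤ) ^ 5 - (q : ℤ) ^ 7 + (q : ℤ) ^ 8 ∧
      ∀ r, Prim q 15 r → Tc ↥(chevE8.group F) r N := by
  have h2 : 2 ≤ q := hq ▸ Fintype.one_lt_card
  have hpos : (0 : ℤ) ≤ 1 - (q : ℤ) + (q : ℤ) ^ 3 - (q : ℤ) ^ 4 + (q : ℤ) ^ 5 - (q : ℤ) ^ 7 + (q : ℤ) ^ 8 := by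
    obtain ⟨a, rfl⟩ := Nat.exists_eq_add_of_le' h2
    push_cast
    ring_nf
    positivity
  have hN := Int.toNat_of_nonneg hpos
  refine ⟨_, hN, fun r hr => Tc.of_exact (exact_E8_15 hq hN) hr.prime ?_⟩
  refine dvd_of_id hr (by omega) (a := 5) (b := 3) (c := 1) (by decide) (by decide) (by decide) ?_
  rw [hN]
  exact ⟨(q - 1) ^ 2, by ring⟩

theorem tc24 (hq : Fintype.card F = q) : ∃ N : ℕ,
    (N : ℤ) = 1 - (q : ℤ) ^ 4 + (q : ℤ) ^ 8 ∧ ∀ r, Prim q 24 r → Tc ↥(chevE8.group F) r N := by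
  have h2 : 2 ≤ q := hq ▸ Fintype.one_lt_card
  have hpos : (0 : ℤ) ≤ 1 - (q : ℤ) ^ 4 + (q : ℤ) ^ 8 := by
    obtain ⟨a, rfl⟩ := Nat.exists_eq_add_of_le' h2
    push_cast
    ring_nf
    positivity
  have hN := Int.toNat_of_nonneg hpos
  refine ⟨_, hN, fun r hr => Tc.of_exact (exact_E8_24 hq hN) hr.prime ?_⟩
  refine dvd_of_id hr (by omega) (a := 12) (b := 8) (c := 1) (by decide) (by decide) (by decide) ?_
  rw [hN]
  exact ⟨((q : ℤ) ^ 4 - 1) * (q - 1), by ring⟩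

theorem tc30 (hq : Fintype.card F = q) : ∃ N : ℕ,
    (N : ℤ) = 1 + (q : ℤ) - (q : ℤ) ^ 3 - (q : ℤ) ^ 4 - (q : ℤ) ^ 5 + (q : ℤ) ^ 7 + (q : ℤ) ^ 8 ∧
      ∀ r, Prim q 30 r → Tc ↥(chevE8.group F) r N := by
  have h2 : 2 ≤ q := hq ▸ Fintype.one_lt_card
  have hpos : (0 : ℤ) ≤ 1 + (q : ℤ) - (q : ℤ) ^ 3 - (q : ℤ) ^ 4 - (q : ℤ) ^ 5 + (q : ℤ) ^ 7 + (q : ℤ) ^ 8 := by
    obtain ⟨a, rfl⟩ := Nat.exists_eq_add_of_le' h2
    push_cast
    ring_nf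
    positivity
  have hN := Int.toNat_of_nonneg hpos
  refine ⟨_, hN, fun r hr => Tc.of_exact (exact_E8_30 hq hN) hr.prime ?_⟩
  refine dvd_of_id hr (by omega) (a := 15) (b := 10) (c := 6) (by decide) (by decide) (by decide) ?_
  rw [hN]
  exact ⟨((q : ℤ) ^ 5 - 1) * (((q : ℤ) ^ 3 - 1) * (q + 1)), by ring⟩

theorem ab20 (hq : Fintype.card F = q) (r : ℕ) (hr : Prim q 20 r) : Ab ↥(chevE8.group F) r := by
  have h2 : 2 ≤ q := hq ▸ Fintype.one_lt_card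
  have hpos : (0 : ℤ) ≤ 1 - (q : ℤ) ^ 2 + (q : ℤ) ^ 4 - (q : ℤ) ^ 6 + (q : ℤ) ^ 8 := by
    obtain ⟨a, rfl⟩ := Nat.exists_eq_add_of_le' h2
    push_cast
    ring_nf
    positivity
  have hN := Int.toNat_of_nonneg hpos
  have hm := mod_of_prim hr (by omega)
  refine Ab.of_at hr.prime (at_E8_20 hq hN hr.prime ?_ (by rintro rfl; revert hm; decide))
  refine dvd_of_id hr (by omega) (a := 10) (b := 4) (c := 1) (by decide) (by decide) (by decide) ?_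
  rw [hN]
  exact ⟨((q : ℤ) ^ 2 - 1) * (q - 1), by ring⟩

/-- **For every prime `t` there are two classes of regular elements free of `t`.** -/
theorem free_E8 (hq : Fintype.card F = q) {t : ℕ} (ht : t.Prime) : ∃ r r' m m', Tc ↥(chevE8.group F) r m ∧
    Tc ↥(chevE8.group F) r' m' ∧ r ≠ r' ∧ 248 < r * r' ∧ ¬ t ∣ m ∧ ¬ t ∣ m' := by
  have h2 : 2 ≤ q := hq ▸ Fintype.one_lt_card
  obtain ⟨N15, e15, h15⟩ := tc15 hq
  obtain ⟨N24, e24, h24⟩ := tc24 hq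
  obtain ⟨N30, e30, h30⟩ := tc30 hq
  obtain ⟨r15, p15⟩ := exists_prim (q := q) (e := 15) h2 (by norm_num) (by norm_num)
  obtain ⟨r24, p24⟩ := exists_prim (q := q) (e := 24) h2 (by norm_num) (by norm_num)
  obtain ⟨r30, p30⟩ := exists_prim (q := q) (e := 30) h2 (by norm_num) (by norm_num)
  have g15 : 31 ≤ r15 := by
    obtain ⟨k, hk⟩ := mod_of_prim p15 (by omega)
    have := p15.prime.two_le
    have := p15.odd (by norm_num)
    omega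
  have g24 : 25 ≤ r24 := by
    obtain ⟨k, hk⟩ := mod_of_prim p24 (by omega)
    have := p24.prime.two_le
    omega
  have g30 : 31 ≤ r30 := by
    obtain ⟨k, hk⟩ := mod_of_prim p30 (by omega)
    have := p30.prime.two_le
    omega
  have n1 : r15 ≠ r24 := fun h => by have := (h ▸ p15).unique p24; omega
  have n2 : r15 ≠ r30 := fun h => by have := (h ▸ p15).unique p30; omega
  have n3 : r24 ≠ r30 := fun h => by have := (h ▸ p24).unique p30; omega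
  have b1 : t ∣ N15 → ¬ t ∣ N24 := fun h h' => not_dvd_both ht (u := (q : ℤ) - (q : ℤ) ^ 5 - (q : ℤ) ^ 7)
    (v := 1 - (q : ℤ) + (q : ℤ) ^ 2 + (q : ℤ) ^ 5 - (q : ℤ) ^ 6 + (q : ℤ) ^ 7) (by rw [e15, e24]; ring) h h'
  have b2 : t ∣ N24 → ¬ t ∣ N30 := fun h h' => not_dvd_both ht
    (u := 1 + (q : ℤ) + (q : ℤ) ^ 2 - (q : ℤ) ^ 5 - (q : ℤ) ^ 6 - (q : ℤ) ^ 7)
    (v := -(q : ℤ) + (q : ℤ) ^ 5 + (q : ℤ) ^ 7) (by rw [e24, e30]; ring) h h'
  have b3 : t ∣ N15 → ¬ t ∣ N30 := fun h h' => by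
    have h1 : (t : ℤ) ∣ 2 := by
      have e : (1 + (q : ℤ) + (q : ℤ) ^ 2 - (q : ℤ) ^ 5 - (q : ℤ) ^ 6 - (q : ℤ) ^ 7) * N15 +
          (1 - (q : ℤ) + (q : ℤ) ^ 2 + (q : ℤ) ^ 5 - (q : ℤ) ^ 6 + (q : ℤ) ^ 7) * N30 = 2 := by
        rw [e15, e30]; ring
      rw [← e]
      exact dvd_add ((Int.natCast_dvd_natCast.2 h).mul_left _) ((Int.natCast_dvd_natCast.2 h').mul_left _)
    have h3 : t ∣ 2 := by exact_mod_cast h1
    obtain rfl := (Nat.prime_dvd_prime_iff_eq ht Nat.prime_two).1 h3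
    have h4 : ((2 : ℕ) : ℤ) ∣ (N15 : ℤ) := Int.natCast_dvd_natCast.2 h
    rw [e15, ← ZMod.intCast_zmod_eq_zero_iff_dvd] at h4
    push_cast at h4
    generalize (q : ZMod 2) = x at h4
    revert h4
    revert x
    decide
  by_cases c15 : t ∣ N15
  · exact ⟨r24, r30, N24, N30, h24 _ p24, h30 _ p30, n3, by nlinarith, b1 c15, b3 c15⟩
  · by_cases c24 : t ∣ N24
    · exact ⟨r15, r30, N15, N30, h15 _ p15, h30 _ p30, n2, by nlinarith, c15, b2 c24⟩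
    · exact ⟨r15, r24, N15, N24, h15 _ p15, h24 _ p24, n1, by nlinarith, c15, c24⟩

end Cfsg.Agent.H290.ElE8
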