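import Mathlib
/-!
Blocks of `p`-subgroups of symmetric groups: the supports of the `p`-cycles.
-/

set_option autoImplicit false
set_option linter.unusedSectionVars false

open Equiv Equiv.Perm Subgroup

namespace Cfsg.Agent.H290.AltBlk

variable {α : Type*} [Fintype α] [DecidableEq α] {p : ℕ} [hp : Fact p.Prime]

/-- `T` is the support of a `p`-cycle of `B`. -/
def Blk (B : Subgroup (Perm α)) (p : ℕ) (T : Finset α) : Prop :=
  ∃ v ∈ B, v.IsCycle ∧ v.support = T ∧ T.card = p

omit [Fintype α] [DecidableEq α] in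
/-- A `p`-group acts trivially on an invariant set with less than `p` points. -/
theorem fix_of_lt {M : Subgroup (Perm α)} (hM : IsPGroup p M) {A : Finset α}
    (hA : ∀ m ∈ M, ∀ i ∈ A, m i ∈ A) (hc : A.card < p) : ∀ m ∈ M, ∀ i ∈ A, m i = i := by
  intro m hm i hi
  have hsub : MulAction.orbit M i ⊆ (A : Set α) := by
    rintro _ ⟨g, rfl⟩
    exact hA g g.2 i hi
  have hfin : Finite (MulAction.orbit M i) := (A.finite_toSet.subset hsub)
  obtain ⟨n, hn⟩ := hM.card_orbit i
  have h1 : Nat.card (MulAction.orbit M i) ≤ A.card := by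
    have := Set.ncard_le_ncard hsub A.finite_toSet
    rwa [Set.ncard_coe_finset] at this
  have h2 : n = 0 := by
    by_contra h0
    have : p ^ 1 ≤ p ^ n := Nat.pow_le_pow_right hp.out.pos (by omega)
    rw [pow_one] at this
    omega
  rw [h2, pow_zero] at hn
  have h3 : Subsingleton (MulAction.orbit M i) := (Nat.card_eq_one_iff_unique.1 hn).1
  have h4 : (⟨m i, ⟨⟨m, hm⟩, rfl⟩⟩ : MulAction.orbit M i) = ⟨i, MulAction.mem_orbit_self i⟩ :=
    Subsingleton.elim _ _
  exact congrArg Subtype.val h4

omit [Fintype α] [DecidableEq α] in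
theorem isPGroup_zpowers {M : Subgroup (Perm α)} (hM : IsPGroup p M) {y : Perm α} (hy : y ∈ M) :
    IsPGroup p (zpowers y) := hM.to_le ((zpowers_le).2 hy)

theorem exists_zpow {v : Perm α} (hv : v.IsCycle) {i j : α} (hi : i ∈ v.support)
    (hj : j ∈ v.support) : ∃ n : ℤ, (v ^ n) i = j :=
  hv.sameCycle (mem_support.1 hi) (mem_support.1 hj)

theorem zpow_mem_support {v : Perm α} {i : α} (hi : i ∈ v.support) (n : ℤ) :
    (v ^ n) i ∈ v.support := Equiv.Perm.zpow_apply_mem_support.2 hi

omit [Fintype α] in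
theorem apply_mem_map {y : Perm α} {T : Finset α} {i : α} :
    y i ∈ T.map y.toEmbedding ↔ i ∈ T := by
  simp

/-- Two blocks of a `p`-group are equal or disjoint. -/
theorem disj {B : Subgroup (Perm α)} (hB : IsPGroup p B) {T U : Finset α} (hT : Blk B p T)
    (hU : Blk B p U) {i : α} (hi : i ∈ T) (hi' : i ∈ U) : T = U := by
  classical
  obtain ⟨v, hv, hvc, hvs, hT1⟩ := hT
  obtain ⟨w, hw, hwc, hws, hU1⟩ := hU
  by_contra hne
  set M : Subgroup (Perm α) := closure {v, w} with hM
  have hMB : M ≤ B := by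
    rw [hM, closure_le]
    rintro x (rfl | rfl)
    · exact hv
    · exact hw
  have hvM : v ∈ M := subset_closure (by simp)
  have hwM : w ∈ M := subset_closure (by simp)
  have hMp : IsPGroup p M := hB.to_le hMB
  have horb : MulAction.orbit M i = ((T ∪ U : Finset α) : Set α) := by
    apply Set.Subset.antisymm
    · rintro _ ⟨g, rfl⟩
      have key : ∀ g ∈ M, ∀ j ∈ T ∪ U, g j ∈ T ∪ U := by
        intro g hg
        refine closure_induction (p := fun g _ => ∀ j ∈ T ∪ U, g j ∈ T ∪ U) ?_ ?_ ?_ ?_ hg
        · rintro x hx j hj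
          have hT' : ∀ j ∈ T ∪ U, v j ∈ T ∪ U := by
            intro j hj
            by_cases h : j ∈ T
            · rw [← hvs] at h
              exact Finset.mem_union_left _ (hvs ▸ apply_mem_support.2 h)
            · rw [← hvs, notMem_support] at h
              rw [h]; exact hj
          have hU' : ∀ j ∈ T ∪ U, w j ∈ T ∪ U := by
            intro j hj
            by_cases h : j ∈ U
            · rw [← hws] at h
              exact Finset.mem_union_right _ (hws ▸ apply_mem_support.2 h)
            · rw [← hws, notMem_support] at h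
              rw [h]; exact hj
          rcases hx with rfl | rfl
          · exact hT' j hj
          · exact hU' j hj
        · intro j hj; exact hj
        · intro a b _ _ ha hb j hj
          exact ha _ (hb _ hj)
        · intro a _ ha j hj
          have h1 : Set.MapsTo a ((T ∪ U : Finset α) : Set α) ((T ∪ U : Finset α) : Set α) :=
            fun x hx => ha x hx
          have h2 : Set.SurjOn a ((T ∪ U : Finset α) : Set α) ((T ∪ U : Finset α) : Set α) :=
            Finset.surjOn_of_injOn_of_card_le _ h1 (a.injective.injOn) le_rfl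
          obtain ⟨k, hk, hk'⟩ := h2 hj
          have e : a⁻¹ j = k := by rw [← hk']; exact a.symm_apply_apply k
          rw [e]
          exact hk
      exact key g g.2 i (Finset.mem_union_left _ hi)
    · intro j hj
      rw [Finset.mem_coe, Finset.mem_union] at hj
      rcases hj with hj | hj
      · obtain ⟨n, hn⟩ := exists_zpow hvc (hvs ▸ hi) (hvs ▸ hj)
        exact ⟨⟨v ^ n, zpow_mem hvM n⟩, hn⟩
      · obtain ⟨n, hn⟩ := exists_zpow hwc (hws ▸ hi') (hws ▸ hj)
        exact ⟨⟨w ^ n, zpow_mem hwM n⟩, hn⟩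
  have hfin : Finite (MulAction.orbit M i) := by rw [horb]; infer_instance
  obtain ⟨n, hn⟩ := hMp.card_orbit i
  rw [horb] at hn
  have hn' : (T ∪ U).card = p ^ n := by
    rw [← hn]
    simp
  have h1 := Finset.card_union_add_card_inter T U
  have h2 : 0 < (T ∩ U).card := Finset.card_pos.2 ⟨i, Finset.mem_inter.2 ⟨hi, hi'⟩⟩
  have h3 : p < (T ∪ U).card := by
    rw [← hT1]
    refine Finset.card_lt_card ⟨Finset.subset_union_left, fun h => hne ?_⟩
    have h4 : U ⊆ T := (Finset.subset_union_right).trans h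
    exact (Finset.eq_of_subset_of_card_le h4 (by omega)).symm
  have hp2 := hp.out.two_le
  rcases Nat.lt_or_ge n 2 with h | h
  · have : p ^ n ≤ p ^ 1 := Nat.pow_le_pow_right (by omega) (by omega)
    rw [pow_one] at this
    omega
  · have : p ^ 2 ≤ p ^ n := Nat.pow_le_pow_right (by omega) h
    nlinarith

theorem blk_conj {B : Subgroup (Perm α)} {T : Finset α} (hT : Blk B p T) {y : Perm α}
    (hy : y ∈ B) : Blk B p (T.map y.toEmbedding) := by
  obtain ⟨v, hv, hvc, hvs, hT1⟩ := hT
  refine ⟨y * v * y⁻¹, mul_mem (mul_mem hy hv) (inv_mem hy), hvc.conj, ?_, ?_⟩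
  · rw [support_conj, hvs]
  · rw [Finset.card_map, hT1]

/-- An element of a `p`-group either fixes a block or moves it to a disjoint one. -/
theorem map_eq_of_mem {B : Subgroup (Perm α)} (hB : IsPGroup p B) {T : Finset α} (hT : Blk B p T)
    {y : Perm α} (hy : y ∈ B) {i : α} (hi : i ∈ T) (hyi : y i ∈ T) : T.map y.toEmbedding = T :=
  disj hB (blk_conj hT hy) hT (apply_mem_map.2 hi) hyi

/-- `B` fixes the points outside of its blocks. -/
def Cov (B : Subgroup (Perm α)) (p : ℕ) : Prop :=
  ∀ y ∈ B, ∀ i, y i ≠ i → ∃ T, Blk B p T ∧ i ∈ T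

omit [Fintype α] in
theorem map_zpow {y : Perm α} {T : Finset α} (h : T.map y.toEmbedding = T) (n : ℤ) {i : α}
    (hi : i ∈ T) : (y ^ n) i ∈ T := by
  have h1 : ∀ i, y i ∈ T ↔ i ∈ T := by
    intro i
    conv_lhs => rw [← h]
    exact apply_mem_map
  have h2 : ∀ n : ℕ, ∀ i, (y ^ n) i ∈ T ↔ i ∈ T := by
    intro n
    induction n with
    | zero => intro i; simp
    | succ n ih => intro i; rw [pow_succ', Perm.mul_apply, h1, ih]
  obtain ⟨m, rfl | rfl⟩ := n.eq_nat_or_neg
  · rw [zpow_natCast, h2]; exact hi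
  · rw [zpow_neg, zpow_natCast, ← h2 m, ← Perm.mul_apply, mul_inv_cancel, Perm.one_apply]
    exact hi

/-- A `p`-element moving a point of an invariant set with at most `p` points is transitive on it. -/
theorem subset_of_move {B : Subgroup (Perm α)} (hB : IsPGroup p B) {y : Perm α} (hy : y ∈ B)
    {A : Finset α} (hA : ∀ i ∈ A, y i ∈ A) {i : α} (hi : i ∈ A) (hyi : y i ≠ i) :
    p ≤ A.card := by
  by_contra hlt
  push Not at hlt
  have hz := isPGroup_zpowers hB hy
  have hA' : ∀ m ∈ zpowers y, ∀ i ∈ A, m i ∈ A := by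
    have h1 : A.map y.toEmbedding = A := by
      refine Finset.eq_of_subset_of_card_le ?_ (by rw [Finset.card_map])
      intro j hj
      rw [Finset.mem_map] at hj
      obtain ⟨k, hk, rfl⟩ := hj
      exact hA k hk
    rintro m ⟨n, rfl⟩ i hi
    exact map_zpow h1 n hi
  exact hyi (fix_of_lt hz hA' hlt y (mem_zpowers y) i hi)

/-- the support of a non trivial `p`-element has at least `p` points -/
theorem eq_one_of_support_lt {B : Subgroup (Perm α)} (hB : IsPGroup p B) {y : Perm α} (hy : y ∈ B)
    {A : Finset α} (hA : y.support ⊆ A) (hc : A.card < p) : y = 1 := by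
  by_contra hne
  obtain ⟨i, hi⟩ : y.support.Nonempty := by
    rw [Finset.nonempty_iff_ne_empty, Ne, support_eq_empty_iff]
    exact hne
  have h1 := subset_of_move hB hy (A := y.support) (fun j hj => apply_mem_support.2 hj) hi
    (mem_support.1 hi)
  have h2 := Finset.card_le_card hA
  omega

end Cfsg.Agent.H290.AltBlk
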