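import Mathlib
import Cfsg.Agent.H290.AltBlk
/-!
There is no panel system on the Sylow `p`-subgroups of an alternating group of degree at least `8`,
`p ≥ 5`.
-/

set_option autoImplicit false
set_option linter.unusedSectionVars false

open Equiv Equiv.Perm Subgroup
open scoped Pointwise

namespace Cfsg.Agent.H290.AltPan

open AltBlk

/-- A panel system on the Sylow `p`-subgroups. -/
structure PS {G : Type*} [Group G] {p : ℕ} (Pa : Set (Set (Sylow p G))) : Prop where
  self : ∀ S ∈ Pa, ∀ a ∈ S, ∀ u ∈ a, ∀ b ∈ S, u • b ∈ S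
  inter : ∀ S ∈ Pa, ∀ b ∈ S, ∀ c ∈ S, b ≠ c → ∀ e : Sylow p G,
    ((∀ u, u ∈ b → u ∈ c → u ∈ e) ↔ e ∈ S)
  tr : ∀ S ∈ Pa, ∀ b ∈ S, ∀ c ∈ S, ∀ c' ∈ S, c ≠ b → c' ≠ b → ∃ u ∈ b, u • c = c'
  conn : ∀ Q : Sylow p G → Prop, (∀ S ∈ Pa, ∀ b ∈ S, ∀ c ∈ S, Q c → Q b) → ∀ a b, Q a → Q b

theorem mem_smul_iff {G : Type*} [Group G] {p : ℕ} {c x : G} {a : Sylow p G} :
    x ∈ (c • a : Sylow p G) ↔ c⁻¹ * x * c ∈ a := by
  change x ∈ ((c • a : Sylow p G) : Subgroup G) ↔ c⁻¹ * x * c ∈ (a : Subgroup G)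
  rw [Sylow.coe_subgroup_smul, Subgroup.mem_pointwise_smul_iff_inv_smul_mem]
  have h : (MulAut.conj c)⁻¹ • x = c⁻¹ * x * c := by
    rw [← map_inv, MulAut.smul_def, MulAut.conj_apply, inv_inv]
  rw [h]

theorem conj_mem_smul {G : Type*} [Group G] {p : ℕ} {c x : G} {a : Sylow p G} (h : x ∈ a) :
    c * x * c⁻¹ ∈ (c • a : Sylow p G) := by
  rw [mem_smul_iff]
  have e : c⁻¹ * (c * x * c⁻¹) * c = x := by group
  rwa [e]

section Exists

variable {α : Type*} [Fintype α] [DecidableEq α] {p : ℕ} [hp : Fact p.Prime]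

/-- a cycle with given support -/
theorem exists_cycle {T : Finset α} (hT : 2 ≤ T.card) : ∃ v : Perm α, v.IsCycle ∧ v.support = T := by
  have hl : T.toList.Nodup := T.nodup_toList
  have hn : 2 ≤ T.toList.length := by rw [Finset.length_toList]; exact hT
  refine ⟨T.toList.formPerm, List.isCycle_formPerm hl hn, ?_⟩
  rw [List.support_formPerm_of_nodup _ hl, Finset.toList_toFinset]
  intro x h
  rw [h] at hn
  simp at hn

omit [Fintype α] [DecidableEq α] hp in
/-- the permutations fixing the points outside of `A` -/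
def FixOut (A : Finset α) : Subgroup (Perm α) where
  carrier := {y | ∀ i, i ∉ A → y i = i}
  one_mem' := fun _ _ => rfl
  mul_mem' := fun {a b} ha hb i hi => by
    change a (b i) = i
    rw [hb i hi, ha i hi]
  inv_mem' := fun {a} ha i hi => by
    have h := ha i hi
    change a⁻¹ i = i
    conv_lhs => rw [← h]
    exact a.symm_apply_apply i

theorem exists_E (hp2 : p ≠ 2) : ∀ n (A : Finset α), A.card = n → ∃ E : Subgroup (Perm α),
    IsPGroup p E ∧ (∀ y ∈ E, sign y = 1) ∧ E ≤ FixOut A ∧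
      ∃ U ⊆ A, U.card < p ∧ ∀ i ∈ A, i ∉ U → ∃ T, Blk E p T ∧ i ∈ T := by
  intro n
  induction n using Nat.strong_induction_on with
  | _ n ih =>
    intro A hA
    by_cases hlt : A.card < p
    · refine ⟨⊥, IsPGroup.of_bot, ?_, bot_le, A, subset_rfl, hlt, fun i hi hi' => absurd hi hi'⟩
      intro y hy
      rw [mem_bot.1 hy, map_one]
    push Not at hlt
    obtain ⟨T, hTA, hTc⟩ := Finset.exists_subset_card_eq hlt
    have hp0 := hp.out.pos
    obtain ⟨E, hE, hs, hf, U, hUA, hUc, hUb⟩ := ih (A \ T).card (by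
      rw [Finset.card_sdiff_of_subset hTA]
      omega) (A \ T) rfl
    obtain ⟨v, hvc, hvs⟩ := exists_cycle (T := T) (by rw [hTc]; exact hp.out.two_le)
    have hord : orderOf v = p := by rw [hvc.orderOf, hvs, hTc]
    have hcomm : ∀ y ∈ E, Commute y v := by
      intro y hy
      refine (Perm.Disjoint.commute fun i => ?_)
      by_cases hi : i ∈ T
      · left
        exact hf hy i (fun h => (Finset.mem_sdiff.1 h).2 hi)
      · right
        rw [← hvs, notMem_support] at hi
        exact hi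
    have hEv : E ≤ normalizer (zpowers v : Set (Perm α)) := by
      intro y hy
      rw [Subgroup.mem_normalizer_iff]
      intro h
      have e : ∀ g ∈ E, ∀ h, h ∈ zpowers v → g * h * g⁻¹ ∈ zpowers v := by
        rintro g hg _ ⟨m, rfl⟩
        have h1 : g * v ^ m * g⁻¹ = v ^ m := by
          rw [((hcomm g hg).zpow_right m).eq, mul_inv_cancel_right]
        change g * v ^ m * g⁻¹ ∈ zpowers v
        rw [h1]
        exact zpow_mem (mem_zpowers v) m
      refine ⟨e y hy h, fun h' => ?_⟩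
      have h2 := e y⁻¹ (inv_mem hy) _ h'
      have h3 : y⁻¹ * (y * h * y⁻¹) * y⁻¹⁻¹ = h := by group
      rwa [h3] at h2
    refine ⟨E ⊔ zpowers v, hE.to_sup_of_normal_right' ?_ hEv, ?_, ?_, U, ?_, hUc, ?_⟩
    · refine IsPGroup.of_card (n := 1) ?_
      rw [Nat.card_zpowers, hord, pow_one]
    · have h1 : E ⊔ zpowers v ≤ (sign : Perm α →* ℤˣ).ker := by
        refine sup_le (fun y hy => hs y hy) ?_
        rw [zpowers_le, MonoidHom.mem_ker, hvc.sign, hvs, hTc]
        have : Odd p := hp.out.odd_of_ne_two hp2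
        rw [this.neg_one_pow]
        rfl
      exact fun y hy => h1 hy
    · refine sup_le ?_ ?_
      · intro y hy i hi
        exact hf hy i (fun h => hi (Finset.mem_sdiff.1 h).1)
      · rw [zpowers_le]
        intro i hi
        by_contra h
        rw [← Ne, ← mem_support, hvs] at h
        exact hi (hTA h)
    · exact hUA.trans Finset.sdiff_subset
    · intro i hi hiU
      by_cases hiT : i ∈ T
      · exact ⟨T, ⟨v, mem_sup_right (mem_zpowers v), hvc, hvs, hTc⟩, hiT⟩
      · obtain ⟨T', ⟨w, hw, hwc, hws, hwT⟩, hi'⟩ := hUb i (Finset.mem_sdiff.2 ⟨hi, hiT⟩) hiU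
        exact ⟨T', ⟨w, mem_sup_left hw, hwc, hws, hwT⟩, hi'⟩

end Exists

variable {α : Type*} [Fintype α] [DecidableEq α] {p : ℕ} [hp : Fact p.Prime]
variable {G : Type*} [Group G] [Finite G] (f : G →* Perm α)

/-- the image of a Sylow subgroup -/
def Im (b : Sylow p G) : Subgroup (Perm α) := (b : Subgroup G).map f

variable {f}

theorem im_isP (b : Sylow p G) : IsPGroup p (Im f b) := b.isPGroup'.map f

theorem mem_im {b : Sylow p G} {x : G} (h : x ∈ b) : f x ∈ Im f b := ⟨x, h, rfl⟩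

theorem blk_smul {b : Sylow p G} {T : Finset α} (hT : Blk (Im f b) p T) (g : G) :
    Blk (Im f (g • b)) p (T.map (f g).toEmbedding) := by
  obtain ⟨_, ⟨v, hv, rfl⟩, hvc, hvs, hT1⟩ := hT
  refine ⟨f (g * v * g⁻¹), ⟨_, conj_mem_smul hv, rfl⟩, ?_, ?_, ?_⟩
  · rw [map_mul, map_mul, map_inv]; exact hvc.conj
  · rw [map_mul, map_mul, map_inv, support_conj, hvs]
  · rw [Finset.card_map, hT1]

theorem cov (hp2 : p ≠ 2) (hf : Function.Injective f) (hr : ∀ σ : Perm α, sign σ = 1 → σ ∈ f.range)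
    (b : Sylow p G) : Cov (Im f b) p := by
  classical
  obtain ⟨E, hE, hs, -, U, -, hUc, hUb⟩ := exists_E (α := α) (p := p) hp2 _ Finset.univ rfl
  have hE0 : IsPGroup p (E.comap f) := hE.comap_of_injective f hf
  obtain ⟨b', hb'⟩ := hE0.exists_le_sylow
  have hE' : E ≤ Im f b' := by
    intro y hy
    obtain ⟨x, rfl⟩ := hr y (hs y hy)
    exact ⟨x, hb' hy, rfl⟩
  obtain ⟨g, rfl⟩ := MulAction.exists_smul_eq G b' b
  have key : ∀ i, (f g)⁻¹ i ∉ U → ∃ T, Blk (Im f (g • b')) p T ∧ i ∈ T := by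
    intro i hi
    obtain ⟨T, ⟨v, hv, hvc, hvs, hvT⟩, hiT⟩ := hUb _ (Finset.mem_univ _) hi
    refine ⟨T.map (f g).toEmbedding, blk_smul ⟨v, hE' hv, hvc, hvs, hvT⟩ g, ?_⟩
    have : f g ((f g)⁻¹ i) = i := (f g).apply_symm_apply i
    rw [← this]
    exact apply_mem_map.2 hiT
  set A : Finset α := Finset.univ.filter fun i => ¬ ∃ T, Blk (Im f (g • b')) p T ∧ i ∈ T with hAdef
  have hA : A ⊆ U.map (f g).toEmbedding := by
    intro i hi
    rw [hAdef, Finset.mem_filter] at hi
    by_contra h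
    apply hi.2
    apply key
    intro h'
    apply h
    have : f g ((f g)⁻¹ i) = i := (f g).apply_symm_apply i
    rw [← this]
    exact apply_mem_map.2 h'
  have hAc : A.card < p := by
    have := Finset.card_le_card hA
    rw [Finset.card_map] at this
    omega
  intro y hy i hyi
  by_contra h
  have hiA : i ∈ A := by rw [hAdef, Finset.mem_filter]; exact ⟨Finset.mem_univ _, h⟩
  have hyA : ∀ j ∈ A, y j ∈ A := by
    intro j hj
    rw [hAdef, Finset.mem_filter] at hj ⊢
    refine ⟨Finset.mem_univ _, ?_⟩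
    rintro ⟨T, hT, hjT⟩
    apply hj.2
    refine ⟨T.map (y⁻¹).toEmbedding, blk_conj hT (inv_mem hy), ?_⟩
    have e : (y⁻¹ : Perm α) (y j) = j := y.symm_apply_apply j
    rw [← e]
    exact apply_mem_map.2 hjT
  have := subset_of_move (im_isP (g • b')) hy hyA hiA hyi
  omega

variable {Pa : Set (Set (Sylow p G))}

theorem PS.conj_mem (hP : PS Pa) {S : Set (Sylow p G)} (hS : S ∈ Pa) {b c : Sylow p G} (hb : b ∈ S)
    (hc : c ∈ S) (hbc : b ≠ c) {u y : G} (hu : u ∈ b) (hyb : y ∈ b) (hyc : y ∈ c) :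
    u * y * u⁻¹ ∈ b ∧ u * y * u⁻¹ ∈ c := by
  refine ⟨mul_mem (mul_mem hu hyb) (inv_mem hu), ?_⟩
  have h1 := hP.self S hS b hb u⁻¹ (inv_mem hu) c hc
  have h2 := (hP.inter S hS b hb c hc hbc (u⁻¹ • c)).2 h1 y hyb hyc
  rw [mem_smul_iff, inv_inv] at h2
  exact h2

/-- In a panel, the intersection of two members preserves the blocks which are not common. -/
theorem PS.map_eq (hP : PS Pa) (hp3 : 3 ≤ p) {S : Set (Sylow p G)} (hS : S ∈ Pa) {b c : Sylow p G}
    (hb : b ∈ S) (hc : c ∈ S) (hbc : b ≠ c) (hcov : Cov (Im f c) p) {T : Finset α}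
    (hT : Blk (Im f b) p T) (hTc : ¬ Blk (Im f c) p T) {y : G} (hyb : y ∈ b) (hyc : y ∈ c) :
    T.map (f y).toEmbedding = T := by
  classical
  by_contra hne
  have hT0 := hT
  obtain ⟨_, ⟨v, hv, rfl⟩, hvc, hvs, hT1⟩ := hT
  set T' := T.map (f y).toEmbedding with hT'
  have hTT' : ∀ i ∈ T, i ∉ T' := fun i hi hi' =>
    hne (disj (im_isP b) (blk_conj hT0 (mem_im hyb)) hT0 hi' hi)
  -- `z = v⁻¹ (y v y⁻¹)`
  obtain ⟨z, hz⟩ : ∃ z, z = v⁻¹ * (y * v * y⁻¹) := ⟨_, rfl⟩
  have hzbc : z ∈ b ∧ z ∈ c := by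
    have h1 := hP.conj_mem hS hb hc hbc (inv_mem hv) hyb hyc
    have h2 : z = (v⁻¹ * y * v⁻¹⁻¹) * y⁻¹ := by rw [hz]; group
    rw [h2]
    exact ⟨mul_mem h1.1 (inv_mem hyb), mul_mem h1.2 (inv_mem hyc)⟩
  have hs' : (f (y * v * y⁻¹)).support = T' := by
    rw [map_mul, map_mul, map_inv, support_conj, hvs]
  have hc' : (f (y * v * y⁻¹)).IsCycle := by
    rw [map_mul, map_mul, map_inv]
    exact hvc.conj
  have hdis : (f v)⁻¹.Disjoint (f (y * v * y⁻¹)) := by
    intro i
    by_cases hi : i ∈ T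
    · right
      have := hTT' i hi
      rw [← hs', notMem_support] at this
      exact this
    · left
      rw [← hvs, ← support_inv, notMem_support] at hi
      exact hi
  have hfz : f z = (f v)⁻¹ * f (y * v * y⁻¹) := by rw [hz, map_mul, map_inv]
  have hpow : ∀ n : ℤ, f z ^ n = (f v)⁻¹ ^ n * f (y * v * y⁻¹) ^ n := by
    intro n
    rw [hfz, hdis.commute.mul_zpow]
  have hT'c : T'.card = p := by rw [hT', Finset.card_map, hT1]
  have hzp : f z ^ (p : ℤ) = 1 := by
    rw [hpow]
    have h1 : orderOf (f v) = p := by rw [hvc.orderOf, hvs, hT1]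
    have h2 : orderOf (f (y * v * y⁻¹)) = p := by rw [hc'.orderOf, hs', hT'c]
    rw [zpow_natCast, zpow_natCast, inv_pow]
    have h3 : f v ^ p = 1 := by rw [← h1]; exact pow_orderOf_eq_one _
    have h4 : f (y * v * y⁻¹) ^ p = 1 := by
      have := pow_orderOf_eq_one (f (y * v * y⁻¹))
      rwa [h2] at this
    rw [h3, h4, inv_one, one_mul]
  have hzT : ∀ n : ℤ, ∀ i ∈ T, (f z ^ n) i = ((f v)⁻¹ ^ n) i := by
    intro n i hi
    rw [hpow, Perm.mul_apply]
    have : (f (y * v * y⁻¹) ^ n) i = i := by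
      have h1 := hTT' i hi
      rw [← hs', notMem_support] at h1
      exact zpow_apply_eq_self_of_apply_eq_self h1 n
    rw [this]
  have hzT' : ∀ n : ℤ, ∀ i ∈ T', (f z ^ n) i = (f (y * v * y⁻¹) ^ n) i := by
    intro n i hi
    rw [hpow, Perm.mul_apply]
    have h2 : (f (y * v * y⁻¹) ^ n) i ∈ T' := by
      rw [← hs'] at hi ⊢
      exact zpow_mem_support hi n
    have h3 : (f (y * v * y⁻¹) ^ n) i ∉ T := fun h => hTT' _ h h2
    rw [← hvs, ← support_inv, notMem_support] at h3
    exact zpow_apply_eq_self_of_apply_eq_self h3 n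
  have hzout : ∀ i, i ∉ T → i ∉ T' → f z i = i := by
    intro i hi hi'
    rw [hfz, Perm.mul_apply]
    rw [← hs', notMem_support] at hi'
    rw [hi']
    rw [← hvs, ← support_inv, notMem_support] at hi
    exact hi
  have hinvc : (f v)⁻¹.IsCycle := hvc.inv
  have trT : ∀ i ∈ T, ∀ j ∈ T, ∃ n : ℤ, (f z ^ n) i = j := by
    intro i hi j hj
    obtain ⟨n, hn⟩ := exists_zpow hinvc (i := i) (j := j) (by rw [support_inv, hvs]; exact hi)
      (by rw [support_inv, hvs]; exact hj)
    exact ⟨n, by rw [hzT n i hi, hn]⟩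
  have trT' : ∀ i ∈ T', ∀ j ∈ T', ∃ n : ℤ, (f z ^ n) i = j := by
    intro i hi j hj
    obtain ⟨n, hn⟩ := exists_zpow hc' (i := i) (j := j) (by rw [hs']; exact hi) (by rw [hs']; exact hj)
    exact ⟨n, by rw [hzT' n i hi, hn]⟩
  -- a point of `T`
  obtain ⟨i, hi⟩ : T.Nonempty := by rw [← Finset.card_pos, hT1]; omega
  have hzi : f z i ≠ i := by
    have h1 := hzT 1 i hi
    rw [zpow_one, zpow_one] at h1
    rw [h1]
    have : i ∈ (f v)⁻¹.support := by rw [support_inv, hvs]; exact hi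
    exact mem_support.1 this
  obtain ⟨Ψ, hΨ, hiΨ⟩ := hcov (f z) (mem_im hzbc.2) i hzi
  have hΨc : Ψ.card = p := by obtain ⟨_, _, _, _, h⟩ := hΨ; exact h
  have hmapz : ∀ n : ℤ, ∀ j ∈ Ψ, (f z ^ n) j ∈ Ψ → Ψ.map (f z ^ n).toEmbedding = Ψ := by
    intro n j hj hj'
    exact map_eq_of_mem (im_isP c) hΨ (zpow_mem (mem_im hzbc.2) n) hj hj'
  have hzΨ : Ψ.map (f z).toEmbedding = Ψ := by
    by_contra hmv
    have hsub : Ψ ⊆ T ∪ T' := by
      intro j hj
      by_contra hj'
      rw [Finset.mem_union, not_or] at hj'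
      apply hmv
      have h1 := hzout j hj'.1 hj'.2
      have := hmapz 1 j hj (by rw [zpow_one, h1]; exact hj)
      rwa [zpow_one] at this
    -- two points of `Ψ` in `T` or in `T'`
    have hone : ∀ R : Finset α, (∀ i ∈ R, ∀ j ∈ R, ∃ n : ℤ, (f z ^ n) i = j) →
        (Ψ ∩ R).card ≤ 1 := by
      intro R hR
      rw [Finset.card_le_one]
      intro a ha b' hb'
      rw [Finset.mem_inter] at ha hb'
      by_contra hab
      obtain ⟨n, hn⟩ := hR a ha.2 b' hb'.2
      have h1 := hmapz n a ha.1 (by rw [hn]; exact hb'.1)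
      -- `z` is a power of `z ^ n`
      have h2 : ¬ ((p : ℤ) ∣ n) := by
        rintro ⟨m, rfl⟩
        apply hab
        rw [← hn, zpow_mul, hzp, one_zpow, Perm.one_apply]
      have h3 : IsCoprime n (p : ℤ) :=
        (((Nat.prime_iff_prime_int.1 hp.out).coprime_iff_not_dvd).2 h2).symm
      obtain ⟨r, s, hrs⟩ := h3
      apply hmv
      have h4 : f z = (f z ^ n) ^ r := by
        rw [← zpow_mul]
        conv_lhs => rw [← zpow_one (f z), ← hrs, zpow_add, mul_comm s, zpow_mul _ (p : ℤ), hzp,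
          one_zpow, mul_one, mul_comm r]
      ext j
      rw [h4]
      constructor
      · intro hj
        rw [Finset.mem_map] at hj
        obtain ⟨k, hk, rfl⟩ := hj
        exact map_zpow h1 r hk
      · intro hj
        rw [Finset.mem_map]
        refine ⟨((f z ^ n) ^ (-r)) j, map_zpow h1 _ hj, ?_⟩
        change ((f z ^ n) ^ r) (((f z ^ n) ^ (-r)) j) = j
        rw [← Perm.mul_apply, ← zpow_add, add_neg_cancel, zpow_zero, Perm.one_apply]
    have h1 := hone T trT
    have h2 := hone T' trT'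
    have h3 : Ψ.card ≤ (Ψ ∩ T).card + (Ψ ∩ T').card := by
      have : Ψ = (Ψ ∩ T) ∪ (Ψ ∩ T') := by
        rw [← Finset.inter_union_distrib_left, Finset.inter_eq_left.2 hsub]
      conv_lhs => rw [this]
      exact Finset.card_union_le _ _
    omega
  have hsub : T ⊆ Ψ := by
    intro j hj
    obtain ⟨n, rfl⟩ := trT i hi j hj
    exact map_zpow hzΨ n hiΨ
  have := Finset.eq_of_subset_of_card_le hsub (by omega)
  exact hTc (this ▸ hΨ)

/-- In a panel, the intersection of two members fixes pointwise the blocks which are not common. -/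
theorem PS.fix (hP : PS Pa) (hp3 : 3 ≤ p) {S : Set (Sylow p G)} (hS : S ∈ Pa) {b c : Sylow p G}
    (hb : b ∈ S) (hc : c ∈ S) (hbc : b ≠ c) (hcovb : Cov (Im f b) p) (hcov : Cov (Im f c) p)
    {T : Finset α} (hT : Blk (Im f b) p T) (hTc : ¬ Blk (Im f c) p T) {y : G} (hyb : y ∈ b)
    (hyc : y ∈ c) : ∀ i ∈ T, f y i = i := by
  classical
  intro i hi
  by_contra hyi
  obtain ⟨Ψ, hΨ, hiΨ⟩ := hcov (f y) (mem_im hyc) i hyi
  have hΨb : ¬ Blk (Im f b) p Ψ := by
    intro h
    apply hTc
    rw [disj (im_isP b) hT h hi hiΨ]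
    exact hΨ
  have h1 := hP.map_eq hp3 hS hb hc hbc hcov hT hTc hyb hyc
  have h2 := hP.map_eq hp3 hS hc hb hbc.symm hcovb hΨ hΨb hyc hyb
  have hne : T ≠ Ψ := fun h => hTc (h ▸ hΨ)
  have hTc' : T.card = p := by obtain ⟨_, _, _, _, h⟩ := hT; exact h
  have hΨc : Ψ.card = p := by obtain ⟨_, _, _, _, h⟩ := hΨ; exact h
  have h3 := subset_of_move (im_isP b) (mem_im hyb) (A := T ∩ Ψ) (by
    intro j hj
    rw [Finset.mem_inter] at hj ⊢
    refine ⟨?_, ?_⟩
    · have := apply_mem_map (y := f y).2 hj.1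
      rwa [h1] at this
    · have := apply_mem_map (y := f y).2 hj.2
      rwa [h2] at this) (Finset.mem_inter.2 ⟨hi, hiΨ⟩) hyi
  apply hne
  have h4 : T ∩ Ψ = T := Finset.eq_of_subset_of_card_le Finset.inter_subset_left (by omega)
  have h5 : T ∩ Ψ = Ψ := Finset.eq_of_subset_of_card_le Finset.inter_subset_right (by omega)
  rw [← h4]
  conv_rhs => rw [← h5]

/-- a permutation of `T` not normalizing `b` (`p ≥ 5`) -/
theorem exists_mover (hp5 : 5 ≤ p)
    (hr : ∀ σ : Perm α, sign σ = 1 → σ ∈ f.range) {b : Sylow p G} {T : Finset α}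
    (hT : Blk (Im f b) p T) : ∃ x : G, (∀ i, i ∉ T → f x i = i) ∧ x • b ≠ b := by
  classical
  obtain ⟨_, ⟨v, hv, rfl⟩, hvc, hvs, hT1⟩ := hT
  obtain ⟨a, ha⟩ : T.Nonempty := by rw [← Finset.card_pos, hT1]; omega
  have hord : orderOf (f v) = p := by rw [hvc.orderOf, hvs, hT1]
  have ha' : a ∈ (f v).support := by rw [hvs]; exact ha
  have hfix : ∀ n : ℕ, n < p → (f v ^ n) a = a → n = 0 := by
    intro n hn h
    have h1 : (f v ^ n) a = a ↔ f v ^ n = 1 := by
      constructor
      · intro h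
        exact (hvc.pow_eq_one_iff).2 ⟨a, mem_support.1 ha', h⟩
      · intro h; rw [h]; rfl
    have h2 := orderOf_dvd_of_pow_eq_one (h1.1 h)
    rw [hord] at h2
    exact Nat.eq_zero_of_dvd_of_lt h2 hn
  set w := f v with hw
  have e1 : w a ≠ a := fun h => by
    have := hfix 1 (by omega) (by rw [pow_one]; exact h)
    omega
  have e2 : w (w a) ≠ a := fun h => by
    have := hfix 2 (by omega) (by rw [pow_two]; exact h)
    omega
  have e3 : w (w (w a)) ≠ a := fun h => by
    have := hfix 3 (by omega) (by rw [pow_succ, pow_two]; exact h)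
    omega
  have hwT : ∀ i, i ∈ T → w i ∈ T := by
    intro i hi
    rw [← hvs] at hi ⊢
    exact apply_mem_support.2 hi
  -- the three cycle
  obtain ⟨τ, hτ⟩ : ∃ τ : Perm α, τ = swap a (w a) * swap (w a) (w (w a)) := ⟨_, rfl⟩
  have hsg : sign τ = 1 := by
    rw [hτ, Equiv.Perm.sign_mul, sign_swap (Ne.symm e1), sign_swap (fun h => e1 (w.injective h).symm)]
    rfl
  obtain ⟨x, hx⟩ := hr τ hsg
  have hτout : ∀ i, i ≠ a → i ≠ w a → i ≠ w (w a) → τ i = i := by
    intro i h1 h2 h3
    rw [hτ, Perm.mul_apply, swap_apply_of_ne_of_ne h2 h3, swap_apply_of_ne_of_ne h1 h2]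
  refine ⟨x, ?_, ?_⟩
  · intro i hi
    rw [hx]
    refine hτout i ?_ ?_ ?_
    · rintro rfl; exact hi ha
    · rintro rfl; exact hi (hwT _ ha)
    · rintro rfl; exact hi (hwT _ (hwT _ ha))
  · intro h
    have h1 : x * v * x⁻¹ ∈ b := by
      have := conj_mem_smul (c := x) hv
      rwa [h] at this
    have h2 : v⁻¹ * (x * v * x⁻¹) ∈ b := mul_mem (inv_mem hv) h1
    -- it moves at most four points
    have h3 : f (v⁻¹ * (x * v * x⁻¹)) = w⁻¹ * τ * w * τ⁻¹ := by
      simp only [map_mul, map_inv, hx, ← hw]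
      group
    have h4 : (f (v⁻¹ * (x * v * x⁻¹))).support ⊆ {w⁻¹ a, a, w a, w (w a)} := by
      intro i hi
      by_contra hn
      simp only [Finset.mem_insert, Finset.mem_singleton, not_or] at hn
      obtain ⟨n0, n1, n2, n3⟩ := hn
      rw [mem_support] at hi
      apply hi
      rw [h3]
      have k1 : τ⁻¹ i = i := by
        have := hτout i n1 n2 n3
        conv_lhs => rw [← this]
        exact τ.symm_apply_apply i
      have k2 : τ (w i) = w i := by
        refine hτout (w i) ?_ ?_ ?_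
        · intro h
          apply n0
          rw [← h]
          exact (w.symm_apply_apply i).symm
        · intro h; exact n1 (w.injective h)
        · intro h; exact n2 (w.injective h)
      rw [Perm.mul_apply, k1, Perm.mul_apply, Perm.mul_apply, k2]
      exact w.symm_apply_apply i
    have h5 := eq_one_of_support_lt (im_isP b) (mem_im h2) h4 (by
      refine lt_of_le_of_lt (Finset.card_le_four) ?_
      omega)
    have h6 : w⁻¹ * τ * w * τ⁻¹ = 1 := by rw [← h3]; exact h5
    -- evaluate at `w (w a)`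
    have h7 : τ * w = w * τ := by
      have h8 := mul_eq_one_iff_eq_inv.1 h6
      rw [inv_inv] at h8
      calc τ * w = w * (w⁻¹ * τ * w) := by group
        _ = w * τ := by rw [h8]
    have h8 : τ (w (w a)) = a := by
      rw [hτ, Perm.mul_apply, swap_apply_right, swap_apply_right]
    have h9 : τ (w (w (w a))) = w (w (w a)) := by
      refine hτout _ e3 ?_ ?_
      · intro h; exact e2 (w.injective h)
      · intro h; exact e1 (w.injective (w.injective h))
    have h10 := congrArg (fun σ : Perm α => σ (w (w a))) h7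
    simp only [Perm.mul_apply] at h10
    rw [h9, h8] at h10
    exact e2 (w.injective h10)

/-- **The blocks are constant on a panel.** -/
theorem PS.blk (hP : PS Pa) (hp5 : 5 ≤ p) (hf : Function.Injective f)
    (hr : ∀ σ : Perm α, sign σ = 1 → σ ∈ f.range) {S : Set (Sylow p G)} (hS : S ∈ Pa)
    {b c : Sylow p G} (hb : b ∈ S) (hc : c ∈ S) {T : Finset α} (hT : Blk (Im f b) p T) :
    Blk (Im f c) p T := by
  classical
  by_contra hTc
  have hbc : b ≠ c := fun h => hTc (h ▸ hT)
  have hp2 : p ≠ 2 := by omega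
  have hfix : ∀ y, y ∈ b → y ∈ c → ∀ i ∈ T, f y i = i := fun y hyb hyc =>
    hP.fix (by omega) hS hb hc hbc (cov hp2 hf hr b) (cov hp2 hf hr c) hT hTc hyb hyc
  obtain ⟨x, hx, hxb⟩ := exists_mover hp5 hr hT
  have hcomm : ∀ y : G, (∀ i ∈ T, f y i = i) → x⁻¹ * y * x = y := by
    intro y hy
    have h1 : Commute (f x) (f y) := by
      refine Perm.Disjoint.commute fun i => ?_
      by_cases hi : i ∈ T
      · exact Or.inr (hy i hi)
      · exact Or.inl (hx i hi)
    have h2 : x * y = y * x := hf (by rw [map_mul, map_mul]; exact h1)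
    rw [mul_assoc, ← h2, inv_mul_cancel_left]
  have hxS : x • b ∈ S := by
    refine (hP.inter S hS b hb c hc hbc (x • b)).1 fun y hyb hyc => ?_
    rw [mem_smul_iff, hcomm y (hfix y hyb hyc)]
    exact hyb
  obtain ⟨u, hu, huc⟩ := hP.tr S hS b hb (x • b) hxS c hc hxb hbc.symm
  have hT0 := hT
  obtain ⟨_, ⟨v, hv, rfl⟩, hvc, hvs, hT1⟩ := hT
  have huT : T.map (f u).toEmbedding = T := by
    by_contra hne
    have hdis : ∀ i ∈ T, f (u * v * u⁻¹) i = i := by
      intro i hi
      have h1 : i ∉ T.map (f u).toEmbedding := fun h =>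
        hne (disj (im_isP b) (blk_conj hT0 (mem_im hu)) hT0 h hi)
      rw [← hvs, ← support_conj, ← map_inv, ← map_mul, ← map_mul, notMem_support] at h1
      exact h1
    have h2 : u * v * u⁻¹ ∈ b := mul_mem (mul_mem hu hv) (inv_mem hu)
    have h3 : u * v * u⁻¹ ∈ x • b := by
      rw [mem_smul_iff, hcomm _ hdis]
      exact h2
    have h4 : u * v * u⁻¹ ∈ c :=
      (hP.inter S hS b hb (x • b) hxS hxb.symm c).2 hc _ h2 h3
    have h5 := (hP.conj_mem hS hb hc hbc (inv_mem hu) h2 h4).2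
    have h6 : u⁻¹ * (u * v * u⁻¹) * u⁻¹⁻¹ = v := by group
    rw [h6] at h5
    exact hTc ⟨f v, mem_im h5, hvc, hvs, hT1⟩
  have hxT : T.map (f x).toEmbedding = T := by
    refine Finset.eq_of_subset_of_card_le ?_ (by rw [Finset.card_map])
    intro j hj
    rw [Finset.mem_map] at hj
    obtain ⟨i, hi, rfl⟩ := hj
    by_contra hn
    change f x i ∉ T at hn
    have h7 := (f x).injective (hx _ hn)
    rw [h7] at hn
    exact hn hi
  have h7 := blk_smul (blk_smul hT0 x) u
  rw [huc, hxT, huT] at h7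
  exact hTc h7

/-- the conclusion when the degree is not `p` -/
theorem PS.false_of_ne (hP : PS Pa) (hp5 : 5 ≤ p) (hf : Function.Injective f)
    (hr : ∀ σ : Perm α, sign σ = 1 → σ ∈ f.range) (hk : p < Fintype.card α) : False := by
  classical
  have hp2 : p ≠ 2 := by omega
  obtain ⟨a⟩ : Nonempty (Sylow p G) := inferInstance
  -- a block of `a`
  obtain ⟨T, hTc⟩ : ∃ T, Blk (Im f a) p T := by
    obtain ⟨U, -, hUc⟩ := Finset.exists_subset_card_eq (s := (Finset.univ : Finset α)) (n := p)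
      (by rw [Finset.card_univ]; omega)
    obtain ⟨v, hvc, hvs⟩ := exists_cycle (T := U) (by omega)
    have hsg : sign v = 1 := by
      rw [hvc.sign, hvs, hUc, (hp.out.odd_of_ne_two hp2).neg_one_pow]
      rfl
    obtain ⟨x, rfl⟩ := hr v hsg
    have hord : orderOf x = p := by
      rw [← orderOf_injective f hf x, hvc.orderOf, hvs, hUc]
    have hz : IsPGroup p (zpowers x) := by
      refine IsPGroup.of_card (n := 1) ?_
      rw [Nat.card_zpowers, hord, pow_one]
    obtain ⟨b, hb⟩ := hz.exists_le_sylow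
    have h1 : Blk (Im f b) p U := ⟨f x, mem_im (hb (mem_zpowers x)), hvc, hvs, hUc⟩
    obtain ⟨g, rfl⟩ := MulAction.exists_smul_eq G b a
    exact ⟨_, blk_smul h1 g⟩
  have hall : ∀ e : Sylow p G, Blk (Im f e) p T := fun e =>
    hP.conn (fun e => Blk (Im f e) p T) (fun S hS b hb c hc h => hP.blk hp5 hf hr hS hc hb h) a e hTc
  have hT1 : T.card = p := by obtain ⟨_, _, _, _, h⟩ := hTc; exact h
  obtain ⟨j, hj⟩ : ∃ j, j ∉ T := by
    by_contra h
    push Not at h
    have : T = Finset.univ := Finset.eq_univ_iff_forall.2 h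
    rw [this, Finset.card_univ] at hT1
    omega
  obtain ⟨i1, i2, i3, h1, h2, h3, h12, h13, h23⟩ : ∃ i1 i2 i3, i1 ∈ T ∧ i2 ∈ T ∧ i3 ∈ T ∧ i1 ≠ i2 ∧
      i1 ≠ i3 ∧ i2 ≠ i3 := by
    have : 2 < T.card := by omega
    obtain ⟨i1, h1, i2, h2, i3, h3, h12, h13, h23⟩ := Finset.two_lt_card.1 this
    exact ⟨i1, i2, i3, h1, h2, h3, h12, h13, h23⟩
  have hj1 : i1 ≠ j := fun h => hj (h ▸ h1)
  have hj2 : i2 ≠ j := fun h => hj (h ▸ h2)
  have hj3 : i3 ≠ j := fun h => hj (h ▸ h3)
  obtain ⟨x, hx⟩ := hr (swap i1 i2 * swap i1 j) (by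
    rw [Equiv.Perm.sign_mul, sign_swap h12, sign_swap hj1]; rfl)
  have h4 := blk_smul (hall a) x
  have h5 := hall (x • a)
  rw [hx] at h4
  have h6 : i3 ∈ T.map (swap i1 i2 * swap i1 j).toEmbedding := by
    have e : (swap i1 i2 * swap i1 j) i3 = i3 := by
      rw [Perm.mul_apply, swap_apply_of_ne_of_ne h13.symm hj3,
        swap_apply_of_ne_of_ne h13.symm h23.symm]
    rw [← e]
    exact apply_mem_map.2 h3
  have h7 := disj (im_isP (x • a)) h4 h5 h6 h3
  have h8 : j ∈ T := by
    rw [← h7]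
    -- `j` is the image of `i2 ↦ i1`
    have e : (swap i1 i2 * swap i1 j) i1 = j := by
      rw [Perm.mul_apply, swap_apply_left, swap_apply_of_ne_of_ne hj1.symm hj2.symm]
    have h9 := (apply_mem_map (y := swap i1 i2 * swap i1 j)).2 h1
    rwa [e] at h9
  exact hj h8

/-! ### degree `p` -/

theorem exists_blk (hp5 : 5 ≤ p) (hf : Function.Injective f)
    (hr : ∀ σ : Perm α, sign σ = 1 → σ ∈ f.range) (hk : p ≤ Fintype.card α) (a : Sylow p G) :
    ∃ T, Blk (Im f a) p T := by
  have hp2 : p ≠ 2 := by omega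
  obtain ⟨U, -, hUc⟩ := Finset.exists_subset_card_eq (s := (Finset.univ : Finset α)) (n := p)
    (by rw [Finset.card_univ]; omega)
  obtain ⟨v, hvc, hvs⟩ := exists_cycle (T := U) (by omega)
  have hsg : sign v = 1 := by
    rw [hvc.sign, hvs, hUc, (hp.out.odd_of_ne_two hp2).neg_one_pow]
    rfl
  obtain ⟨x, rfl⟩ := hr v hsg
  have hord : orderOf x = p := by
    rw [← orderOf_injective f hf x, hvc.orderOf, hvs, hUc]
  have hz : IsPGroup p (zpowers x) := by
    refine IsPGroup.of_card (n := 1) ?_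
    rw [Nat.card_zpowers, hord, pow_one]
  obtain ⟨b, hb⟩ := hz.exists_le_sylow
  have h1 : Blk (Im f b) p U := ⟨f x, mem_im (hb (mem_zpowers x)), hvc, hvs, hUc⟩
  obtain ⟨g, rfl⟩ := MulAction.exists_smul_eq G b a
  exact ⟨_, blk_smul h1 g⟩

theorem card_im (hp5 : 5 ≤ p) (hf : Function.Injective f)
    (hr : ∀ σ : Perm α, sign σ = 1 → σ ∈ f.range) (hk : Fintype.card α = p) (a : Sylow p G) :
    Nat.card (Im f a) = p := by
  obtain ⟨T, ⟨v, hv, hvc, hvs, hTc⟩⟩ := exists_blk hp5 hf hr hk.ge a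
  have hT : T = Finset.univ := Finset.eq_univ_of_card _ (by omega)
  have h1 : Im f a = zpowers v := by
    apply le_antisymm
    · intro y hy
      obtain ⟨i, hi⟩ : T.Nonempty := by rw [← Finset.card_pos, hTc]; omega
      obtain ⟨n, hn⟩ := exists_zpow hvc (i := i) (j := y i) (hvs ▸ hi)
        (by rw [hvs, hT]; exact Finset.mem_univ _)
      have h2 : (v ^ n)⁻¹ * y ∈ Im f a := mul_mem (inv_mem (zpow_mem hv n)) hy
      have h3 : ((v ^ n)⁻¹ * y).support ⊆ Finset.univ.erase i := by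
        intro j hj
        rw [Finset.mem_erase]
        refine ⟨?_, Finset.mem_univ _⟩
        rintro rfl
        rw [mem_support] at hj
        apply hj
        rw [Perm.mul_apply, ← hn]
        exact (v ^ n).symm_apply_apply j
      have h4 := eq_one_of_support_lt (im_isP a) h2 h3 (by
        rw [Finset.card_erase_of_mem (Finset.mem_univ _), Finset.card_univ, hk]
        omega)
      have h5 := eq_inv_of_mul_eq_one_right h4
      rw [inv_inv] at h5
      rw [h5]
      exact zpow_mem (mem_zpowers v) n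
    · rw [zpowers_le]
      exact hv
  rw [h1, Nat.card_zpowers, hvc.orderOf, hvs, hTc]

theorem card_sylow (hP : PS Pa) (hp5 : 5 ≤ p) (hf : Function.Injective f)
    (hr : ∀ σ : Perm α, sign σ = 1 → σ ∈ f.range) (hk : Fintype.card α = p) :
    Nat.card (Sylow p G) ≤ p + 1 := by
  classical
  have hcard := card_im hp5 hf hr hk
  have hcard' : ∀ a : Sylow p G, Nat.card a = p := fun a =>
    (Nat.card_congr ((a : Subgroup G).equivMapOfInjective f hf).toEquiv).trans (hcard a)
  obtain ⟨a⟩ : Nonempty (Sylow p G) := inferInstance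
  obtain ⟨T, hT⟩ := exists_blk hp5 hf hr hk.ge a
  obtain ⟨x, -, hxa⟩ := exists_mover hp5 hr hT
  obtain ⟨S, hS, b, hb, ha, hba⟩ : ∃ S ∈ Pa, ∃ b ∈ S, a ∈ S ∧ b ≠ a := by
    by_contra hcon
    push Not at hcon
    have := hP.conn (fun e => e = a) (fun S hS b hb c hc h => by
      rw [h] at hc
      exact hcon S hS b hb hc) a (x • a) rfl
    exact hxa this
  have htriv : ∀ u, u ∈ a → u ∈ b → u = 1 := by
    intro u hu hu'
    by_contra hne
    have h1 : zpowers u = (a : Subgroup G) := by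
      refine Subgroup.eq_of_le_of_card_ge ((zpowers_le).2 hu) ?_
      have h2 : Nat.card (zpowers u) ∣ Nat.card (a : Subgroup G) :=
        Subgroup.card_dvd_of_le ((zpowers_le).2 hu)
      have h3 : Nat.card (a : Subgroup G) = p := hcard' a
      rw [h3] at h2 ⊢
      rcases (Nat.dvd_prime hp.out).1 h2 with h4 | h4
      · exfalso
        rw [Nat.card_zpowers, orderOf_eq_one_iff] at h4
        exact hne h4
      · exact h4.ge
    have h2 : zpowers u = (b : Subgroup G) := by
      refine Subgroup.eq_of_le_of_card_ge ((zpowers_le).2 hu') ?_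
      have h3 : Nat.card (b : Subgroup G) = p := hcard' b
      have h4 : Nat.card (a : Subgroup G) = p := hcard' a
      rw [h1, h3, h4]
    exact hba (Sylow.ext (h2.symm.trans h1))
  have hall : ∀ e : Sylow p G, e ∈ S := fun e =>
    (hP.inter S hS a ha b hb hba.symm e).1 fun u hu hu' => by
      rw [htriv u hu hu']
      exact one_mem _
  have hsub : (Set.univ : Set (Sylow p G)) ⊆ insert a (Set.range fun u : a => (u : G) • b) := by
    intro e _
    by_cases he : e = a
    · exact Or.inl he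
    · obtain ⟨u, hu, hue⟩ := hP.tr S hS a ha b hb e (hall e) hba he
      exact Or.inr ⟨⟨u, hu⟩, hue⟩
  have h1 : (Set.univ : Set (Sylow p G)).ncard ≤ (Set.range fun u : a => (u : G) • b).ncard + 1 :=
    (Set.ncard_le_ncard hsub (Set.toFinite _)).trans (Set.ncard_insert_le _ _)
  have h2 : (Set.range fun u : a => (u : G) • b).ncard ≤ p := by
    rw [← Nat.card_coe_set_eq]
    exact (Nat.card_le_card_of_surjective _ Set.rangeFactorization_surjective).trans (hcard' a).le
  rw [Set.ncard_univ] at h1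
  omega

theorem PS.false_of_eq (hP : PS Pa) (hp7 : 7 ≤ p) (hf : Function.Injective f)
    (hr : ∀ σ : Perm α, sign σ = 1 → σ ∈ f.range) (hk : Fintype.card α = p) : False := by
  classical
  have h1 := card_sylow hP (by omega) hf hr hk
  have hcard := card_im (p := p) (G := G) (by omega) hf hr hk
  have hp2 : p ≠ 2 := by omega
  have hFin : Fintype (Sylow p G) := Fintype.ofFinite _
  -- the `p`-cycles
  have h2 := Equiv.Perm.card_of_cycleType_singleton (α := α) (n := p) (by omega) hk.ge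
  rw [hk, Nat.choose_self, mul_one] at h2
  have h3 : (Finset.univ.filter fun g : Perm α => g.cycleType = {p}) ⊆
      Finset.univ.biUnion fun e : Sylow p G => ((Im f e : Set (Perm α)).toFinset.erase 1) := by
    intro σ hσ
    rw [Finset.mem_filter] at hσ
    have hσo : orderOf σ = p := by
      rw [← lcm_cycleType, hσ.2, Multiset.lcm_singleton, normalize_eq]
    have hsg : sign σ = 1 := by
      rw [sign_of_cycleType, hσ.2]
      simp [(hp.out.odd_of_ne_two hp2).add_one.neg_one_pow]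
    obtain ⟨x, rfl⟩ := hr σ hsg
    have hord : orderOf x = p := by rw [← orderOf_injective f hf x, hσo]
    have hz : IsPGroup p (zpowers x) := by
      refine IsPGroup.of_card (n := 1) ?_
      rw [Nat.card_zpowers, hord, pow_one]
    obtain ⟨b, hb⟩ := hz.exists_le_sylow
    rw [Finset.mem_biUnion]
    refine ⟨b, Finset.mem_univ _, ?_⟩
    rw [Finset.mem_erase, Set.mem_toFinset]
    refine ⟨?_, mem_im (hb (mem_zpowers x))⟩
    intro h
    rw [h, orderOf_one] at hσo
    omega
  have h4 := (Finset.card_le_card h3).trans Finset.card_biUnion_le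
  have h5 : ∀ e : Sylow p G, ((Im f e : Set (Perm α)).toFinset.erase 1).card = p - 1 := by
    intro e
    rw [Finset.card_erase_of_mem (by rw [Set.mem_toFinset]; exact one_mem (Im f e))]
    rw [Set.toFinset_card, ← Nat.card_eq_fintype_card]
    exact congrArg (· - 1) (hcard e)
  rw [Finset.sum_congr rfl (fun e _ => h5 e), Finset.sum_const, smul_eq_mul, Finset.card_univ,
    ← Nat.card_eq_fintype_card, h2] at h4
  obtain ⟨q, rfl⟩ : ∃ q, p = q + 4 := ⟨p - 4, by omega⟩
  have e1 : q + 4 - 1 = q + 3 := by omega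
  rw [e1, Nat.factorial_succ, Nat.factorial_succ, Nat.factorial_succ] at h4
  have h6 : 0 < q.factorial := Nat.factorial_pos q
  have h7 : (q + 2 + 1) * ((q + 1 + 1) * ((q + 1) * 1)) ≤
      (q + 2 + 1) * ((q + 1 + 1) * ((q + 1) * q.factorial)) := by gcongr; omega
  have h8 : Nat.card (Sylow (q + 4) G) * (q + 3) ≤ (q + 4 + 1) * (q + 3) := by gcongr
  have h9 : (q + 3) * ((q + 2) * (q + 1)) ≤ (q + 3) * (q + 5) := by
    have e2 : (q + 3) * ((q + 2) * (q + 1)) = (q + 2 + 1) * ((q + 1 + 1) * ((q + 1) * 1)) := by ring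
    have e3 : (q + 3) * (q + 5) = (q + 4 + 1) * (q + 3) := by ring
    rw [e2, e3]
    exact h7.trans (h4.trans h8)
  have h10 := Nat.le_of_mul_le_mul_left h9 (by omega)
  nlinarith

/-- **There is no panel system on the Sylow `p`-subgroups of an alternating group of degree at least
`8`, `p ≥ 5`.** -/
theorem PS.false (hP : PS Pa) (hp5 : 5 ≤ p) (hf : Function.Injective f)
    (hr : ∀ σ : Perm α, sign σ = 1 → σ ∈ f.range) (hk : p ≤ Fintype.card α)
    (h6 : 6 ≤ Fintype.card α) : False := by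
  rcases hk.lt_or_eq with h | h
  · exact hP.false_of_ne hp5 hf hr h
  · refine hP.false_of_eq ?_ hf hr h.symm
    rcases Nat.lt_or_ge p 7 with h7 | h7
    · exfalso
      have : p = 6 := by omega
      rw [this] at hp
      exact absurd hp.out (by norm_num)
    · exact h7

end Cfsg.Agent.H290.AltPan
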