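import Mathlib
/-!
Diagonal subgroups: `J` a subgroup with trivial centre, `P` a finite group such that each element of `P`
centralises `J` or maps `J` to a subgroup commuting with `J`. Then a copy of `J` is centralised by `P`.
-/

set_option autoImplicit false

open Subgroup

namespace Cfsg.Agent.H290.Diag

variable {H : Type*} [Group H] {J P : Subgroup H}

theorem exists_diag [Finite P]
    (hd : ∀ g ∈ P, (∀ x ∈ J, g * x * g⁻¹ = x) ∨ (∀ x ∈ J, ∀ y ∈ J, Commute (g * x * g⁻¹) y))
    (hZ : ∀ x ∈ J, (∀ y ∈ J, x * y = y * x) → x = 1) :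
    ∃ d : J →* H, Function.Injective d ∧ ∀ g ∈ P, ∀ y, g * d y * g⁻¹ = d y := by
  classical
  let N : Subgroup P :=
    { carrier := {g | ∀ x ∈ J, (g : H) * x * (g : H)⁻¹ = x}
      one_mem' := fun x _ => by simp
      mul_mem' := fun {a b} ha hb x hx => by
        have h1 := hb x hx
        have h2 := ha x hx
        calc ((a * b : P) : H) * x * ((a * b : P) : H)⁻¹ = a * (b * x * (b : H)⁻¹) * (a : H)⁻¹ := by
              push_cast; group
          _ = x := by rw [h1, h2]
      inv_mem' := fun {a} ha x hx => by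
        have h1 := ha x hx
        calc ((a⁻¹ : P) : H) * x * ((a⁻¹ : P) : H)⁻¹ = (a : H)⁻¹ * x * a := by push_cast; group
          _ = (a : H)⁻¹ * (a * x * (a : H)⁻¹) * a := by rw [h1]
          _ = x := by group }
  have hNm : ∀ g : P, g ∈ N ↔ ∀ x ∈ J, (g : H) * x * (g : H)⁻¹ = x := fun g => Iff.rfl
  have hfin : Finite (P ⧸ N) := inferInstance
  have : Fintype (P ⧸ N) := Fintype.ofFinite _
  let φ : (P ⧸ N) → (J →* H) := fun i => (MulAut.conj ((i.out : P) : H)).toMonoidHom.comp J.subtype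
  have hφ : ∀ (g : P) (y : J), φ (QuotientGroup.mk g) y = g * y * (g : H)⁻¹ := by
    intro g y
    obtain ⟨n, hn⟩ := QuotientGroup.mk_out_eq_mul N g
    change ((QuotientGroup.mk g : P ⧸ N).out : H) * y * ((QuotientGroup.mk g : P ⧸ N).out : H)⁻¹ = _
    rw [hn]
    have h1 := (hNm n).1 n.2 y y.2
    calc ((g * (n : P) : P) : H) * y * ((g * (n : P) : P) : H)⁻¹
        = g * (((n : P) : H) * y * ((n : P) : H)⁻¹) * (g : H)⁻¹ := by push_cast; group
      _ = g * y * (g : H)⁻¹ := by rw [h1]
  have hcomm : Pairwise fun i j => ∀ x y, Commute (φ i x) (φ j y) := by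
    intro i j hij x y
    obtain ⟨g, rfl⟩ := QuotientGroup.mk_surjective i
    obtain ⟨h, rfl⟩ := QuotientGroup.mk_surjective j
    rw [hφ, hφ]
    have h1 : h⁻¹ * g ∉ N := by
      intro h2
      apply hij
      exact (QuotientGroup.eq.2 h2).symm
    rcases hd ((h⁻¹ * g : P) : H) (h⁻¹ * g).2 with h2 | h2
    · exact absurd ((hNm _).2 h2) h1
    · have h3 := h2 x x.2 y y.2
      have h4 := h3.map (MulAut.conj (h : H)).toMonoidHom
      have e1 : (MulAut.conj (h : H)).toMonoidHom (((h⁻¹ * g : P) : H) * x * ((h⁻¹ * g : P) : H)⁻¹) =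
          g * x * (g : H)⁻¹ := by
        change (h : H) * (((h⁻¹ * g : P) : H) * x * ((h⁻¹ * g : P) : H)⁻¹) * (h : H)⁻¹ = _
        push_cast
        group
      rw [e1] at h4
      exact h4
  let Φ : ((P ⧸ N) → J) →* H := MonoidHom.noncommPiCoprod φ hcomm
  have hΦ : ∀ i (y : J), Φ (Pi.mulSingle i y) = φ i y := fun i y =>
    MonoidHom.noncommPiCoprod_mulSingle φ i y
  let δ : J →* ((P ⧸ N) → J) := Pi.constMonoidHom (P ⧸ N) J
  refine ⟨Φ.comp δ, ?_, ?_⟩
  · rw [injective_iff_map_eq_one]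
    intro y hy
    -- `Φ f` acts on `J` as `f 1`
    have key : ∀ f : (P ⧸ N) → J, ∀ w ∈ J, Φ f * w * (Φ f)⁻¹ =
        (f (QuotientGroup.mk 1) : H) * w * (f (QuotientGroup.mk 1) : H)⁻¹ := by
      let K : Subgroup ((P ⧸ N) → J) :=
        { carrier := {f | ∀ w ∈ J, Φ f * w * (Φ f)⁻¹ =
            (f (QuotientGroup.mk 1) : H) * w * (f (QuotientGroup.mk 1) : H)⁻¹}
          one_mem' := fun w _ => by simp
          mul_mem' := fun {a b} ha hb w hw => by
            have h1 := hb w hw
            have h2 := ha _ (J.mul_mem (J.mul_mem (b (QuotientGroup.mk 1)).2 hw)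
              (J.inv_mem (b (QuotientGroup.mk 1)).2))
            calc Φ (a * b) * w * (Φ (a * b))⁻¹ = Φ a * (Φ b * w * (Φ b)⁻¹) * (Φ a)⁻¹ := by
                  rw [map_mul]; group
              _ = _ := by rw [h1, h2, Pi.mul_apply]; push_cast; group
          inv_mem' := fun {a} ha w hw => by
            have h2 := ha _ (J.mul_mem (J.mul_mem (J.inv_mem (a (QuotientGroup.mk 1)).2) hw)
              ((a (QuotientGroup.mk 1)).2))
            have h3 : (a (QuotientGroup.mk 1) : H) *
                ((a (QuotientGroup.mk 1) : H)⁻¹ * w * (a (QuotientGroup.mk 1) : H)) *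
                (a (QuotientGroup.mk 1) : H)⁻¹ = w := by group
            rw [h3] at h2
            have h4 : (Φ a)⁻¹ * w * Φ a =
                (a (QuotientGroup.mk 1) : H)⁻¹ * w * (a (QuotientGroup.mk 1) : H) := by
              conv_lhs => rw [← h2]
              group
            rw [map_inv, inv_inv, Pi.inv_apply]
            push_cast
            rw [inv_inv]
            exact h4 }
      intro f
      have hf : f ∈ K := by
        refine Subgroup.pi_mem_of_mulSingle_mem f fun i w hw => ?_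
        change Φ (Pi.mulSingle i (f i)) * w * (Φ (Pi.mulSingle i (f i)))⁻¹ = _
        rw [hΦ]
        by_cases hi : i = QuotientGroup.mk 1
        · subst hi
          rw [hφ, Pi.mulSingle_eq_same]
          simp
        · rw [Pi.mulSingle_eq_of_ne (Ne.symm hi)]
          have h1 := hcomm hi (f i) ⟨w, hw⟩
          rw [hφ 1] at h1
          simp only [OneMemClass.coe_one, one_mul, inv_one, mul_one] at h1 ⊢
          rw [h1.eq, mul_inv_cancel_right]
      exact hf
    have h1 : y = (1 : J) := by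
      apply Subtype.ext
      refine hZ y y.2 fun w hw => ?_
      have h2 := key (δ y) w hw
      have h3 : Φ (δ y) = 1 := hy
      rw [h3] at h2
      have h4 : (δ y (QuotientGroup.mk 1) : H) = y := rfl
      rw [h4] at h2
      simp only [one_mul, inv_one, mul_one] at h2
      conv_rhs => rw [h2]
      group
    exact h1
  · intro g hg y
    -- reindexing
    have key : ∀ f : (P ⧸ N) → J, g * Φ f * g⁻¹ = Φ fun i => f ((⟨g, hg⟩ : P)⁻¹ • i) := by
      let K : Subgroup ((P ⧸ N) → J) :=
        { carrier := {f | g * Φ f * g⁻¹ = Φ fun i => f ((⟨g, hg⟩ : P)⁻¹ • i)}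
          one_mem' := by
            change g * Φ 1 * g⁻¹ = Φ (fun i => 1)
            have : (fun i => 1 : (P ⧸ N) → J) = 1 := rfl
            rw [this, map_one, mul_one, mul_inv_cancel]
          mul_mem' := fun {a b} (ha : g * Φ a * g⁻¹ = Φ fun i => a ((⟨g, hg⟩ : P)⁻¹ • i))
              (hb : g * Φ b * g⁻¹ = Φ fun i => b ((⟨g, hg⟩ : P)⁻¹ • i)) => by
            change g * Φ (a * b) * g⁻¹ = Φ fun i => (a * b) ((⟨g, hg⟩ : P)⁻¹ • i)
            have h1 : (fun i => (a * b) ((⟨g, hg⟩ : P)⁻¹ • i)) =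
                (fun i => a ((⟨g, hg⟩ : P)⁻¹ • i)) * fun i => b ((⟨g, hg⟩ : P)⁻¹ • i) := rfl
            rw [h1, map_mul, map_mul, ← ha, ← hb]
            group
          inv_mem' := fun {a} (ha : g * Φ a * g⁻¹ = Φ fun i => a ((⟨g, hg⟩ : P)⁻¹ • i)) => by
            change g * Φ a⁻¹ * g⁻¹ = Φ fun i => a⁻¹ ((⟨g, hg⟩ : P)⁻¹ • i)
            have h1 : (fun i => a⁻¹ ((⟨g, hg⟩ : P)⁻¹ • i)) =
                (fun i => a ((⟨g, hg⟩ : P)⁻¹ • i))⁻¹ := rfl
            rw [h1, map_inv, map_inv, ← ha]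
            group }
      intro f
      have hf : f ∈ K := by
        refine Subgroup.pi_mem_of_mulSingle_mem f fun i => ?_
        change g * Φ (Pi.mulSingle i (f i)) * g⁻¹ =
          Φ fun j => (Pi.mulSingle i (f i) : (P ⧸ N) → J) ((⟨g, hg⟩ : P)⁻¹ • j)
        have h1 : (fun j => (Pi.mulSingle i (f i) : (P ⧸ N) → J) ((⟨g, hg⟩ : P)⁻¹ • j)) =
            Pi.mulSingle ((⟨g, hg⟩ : P) • i) (f i) := by
          funext j
          by_cases hj : j = (⟨g, hg⟩ : P) • i
          · rw [hj, Pi.mulSingle_eq_same, inv_smul_smul, Pi.mulSingle_eq_same]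
          · rw [Pi.mulSingle_eq_of_ne hj, Pi.mulSingle_eq_of_ne]
            intro h
            exact hj (by rw [← h, smul_inv_smul])
        rw [h1, hΦ, hΦ]
        obtain ⟨h, rfl⟩ := QuotientGroup.mk_surjective i
        have h2 : (⟨g, hg⟩ : P) • (QuotientGroup.mk h : P ⧸ N) = QuotientGroup.mk (⟨g, hg⟩ * h) := rfl
        rw [h2, hφ, hφ]
        push_cast
        group
      exact hf
    change g * Φ (δ y) * g⁻¹ = Φ (δ y)
    rw [key]
    rfl

end Cfsg.Agent.H290.Diag
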