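import Cfsg.Agent.H290.ElReg

/-!
# TEAM ELUSIVE, exceptional rows: the numerical tests (helper290)

All names in cross characteristic allowed by the degree bound `lb` are enumerated; for a group `T` of exceptional shape
`Y` over the field of `p ^ f` elements the tests use the primitive prime divisors of `p ^ (e f) - 1`.
-/

set_option autoImplicit false

namespace Cfsg.Agent.H290.ElTab

open Cfsg.Agent.H902 Cfsg.Agent.H290.ElReg Finset

/-- the primes below 620 -/
def prs : List ℕ :=
  [2, 3, 5, 7, 11, 13, 17, 19, 23, 29, 31, 37, 41, 43, 47, 53, 59, 61, 67, 71, 73, 79, 83, 89, 97, 101, 103, 107,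
   109, 113, 127, 131, 137, 139, 149, 151, 157, 163, 167, 173, 179, 181, 191, 193, 197, 199, 211, 223, 227, 229, 233,
   239, 241, 251, 257, 263, 269, 271, 277, 281, 283, 293, 307, 311, 313, 317, 331, 337, 347, 349, 353, 359, 367, 373,
   379, 383, 389, 397, 401, 409, 419, 421, 431, 433, 439, 443, 449, 457, 461, 463, 467, 479, 487, 491, 499, 503, 509,
   521, 523, 541, 547, 557, 563, 569, 571, 577, 587, 593, 599, 601, 607, 613, 617, 619]

/-- the part of the order prime to the characteristic, with lists -/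
def numL : Art.Sh → ℕ → ℕ
  | .L n, q => ((List.range (n - 1)).map fun i => q ^ (i + 2) - 1).prod
  | .C m, q => ((List.range m).map fun i => q ^ (2 * (i + 1)) - 1).prod
  | .U n, q => ((List.range (n - 1)).map fun i => if i % 2 = 0 then q ^ (i + 2) - 1 else q ^ (i + 2) + 1).prod
  | .D m, q => (q ^ m - 1) * ((List.range (m - 1)).map fun i => q ^ (2 * (i + 1)) - 1).prod
  | .DD m, q => (q ^ m + 1) * ((List.range (m - 1)).map fun i => q ^ (2 * (i + 1)) - 1).prod
  | X, q => Art.num X q

theorem numL_eq (X : Art.Sh) (q : ℕ) : numL X q = Art.num X q := by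
  cases X with
  | U n =>
    show ((List.range (n - 1)).map fun i => if i % 2 = 0 then q ^ (i + 2) - 1 else q ^ (i + 2) + 1).prod =
      ∏ i ∈ range (n - 1), (if Even i then q ^ (i + 2) - 1 else q ^ (i + 2) + 1)
    rw [Finset.prod_congr rfl (g := fun i => if i % 2 = 0 then q ^ (i + 2) - 1 else q ^ (i + 2) + 1)
      (fun i _ => by simp only [Nat.even_iff])]
    rfl
  | L n => rfl
  | C m => rfl
  | D m => rfl
  | DD m => rfl
  | _ => rfl

/-- a number with the primes of the simple group -/
def NS (X : Art.Sh) (l a : ℕ) : ℕ := l * numL X (l ^ a)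

/-- a number with the primes of its automorphism group -/
def NA (X : Art.Sh) (l a : ℕ) : ℕ := 24 * Art.dd X (l ^ a) * a * NS X l a

/-- the small prime divisors -/
def pd (N : ℕ) : List ℕ := prs.filter fun r => N % r == 0

/-- all prime divisors are small -/
def smooth (N : ℕ) : Bool := prs.prod ^ 100 % N == 0

/-- a necessary condition for `k` to be the order of `p` modulo `r` -/
def tord (p r k : ℕ) : Bool :=
  (r - 1) % k == 0 && (p ^ k % r == 1 && [2, 3, 5, 7].all fun d => k % d != 0 || p ^ (k / d) % r != 1)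

/-- a primitive prime divisor in the list -/
def pz (ps : List ℕ) (p k : ℕ) : Bool := (p == 2 && k == 6) || ps.any fun r => tord p r k

/-- the exponents `≥ 3` of the primes of the shape -/
def EA : Art.Sh → List ℕ
  | .E8 => [30, 24, 20, 18, 15, 14, 12, 10, 9, 8, 7, 6, 5, 4, 3]
  | .E7 => [18, 14, 12, 10, 9, 8, 7, 6, 5, 4, 3]
  | .E6 => [12, 9, 8, 6, 5, 4, 3]
  | .TE6 => [18, 12, 10, 8, 6, 4, 3]
  | .F4 => [12, 8, 6, 4, 3]
  | .G2 => [6, 3]
  | .TD4 => [12, 6, 3]
  | .TF4 => [12, 6, 4]
  | _ => []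

/-- the exponents of the regular classes -/
def ER : Art.Sh → List ℕ
  | .E8 => [30, 24, 20, 15]
  | .E7 => [18, 14, 9, 7]
  | .E6 => [12, 9, 8]
  | .TE6 => [18, 12, 8]
  | .F4 => [12, 8]
  | .G2 => [6, 3]
  | .TD4 => [12]
  | .TF4 => [12]
  | _ => []

/-- the largest exponent -/
def top : Art.Sh → ℕ
  | .E8 => 30
  | .E7 => 18
  | .E6 => 12
  | .TE6 => 18
  | .F4 => 12
  | .G2 => 6
  | .TD4 => 12
  | .TF4 => 12
  | _ => 1

/-- the test for `T` of shape `Y` over the field of `p ^ f` elements; `ps` and `pa` are the lists of the primes of the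
simple group and of its automorphism group, `M` is a number with the primes of the automorphism group, and `D / d` is
the order of the simple group -/
def tst (Y : Art.Sh) (ps pa : List ℕ) (M d D p f : ℕ) : Bool :=
  (ER Y).all (fun e => pz ps p (e * f)) && ((EA Y).all (fun e => pz pa p (e * f)) && (decide (Art.Ok Y p f) &&
    (d * ((p ^ f) ^ Art.NN Y * numL Y (p ^ f)) % D == 0 && M ^ (Nat.log2 (numL Y (p ^ f)) + 1) % numL Y (p ^ f) == 0)))

/-- the prime powers below 620 -/
def qs : List (ℕ × ℕ) := (prs.flatMap fun l => (List.range 9).map fun a => (l, a + 1)).filter fun x => Nat.blt (x.1 ^ x.2) 620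

/-- the shapes -/
def shs : List Art.Sh :=
  ((List.range 12).flatMap fun m => [.L m, .C m, .U m, .D m, .DD m]) ++ [.G2, .F4, .E6, .E7, .E8, .TE6, .TD4, .Sz, .Ree, .TF4]

/-- the region -/
def reg (n : ℕ) : List (Art.Sh × ℕ × ℕ) :=
  shs.flatMap fun X => (qs.filter fun x => Nat.ble (lb X (x.1 ^ x.2)) n && decide (Art.Ok X x.1 x.2)).map fun x => (X, x)

/-- the survivors, `T` of shape `Y`, degree `n` -/
def surv (n : ℕ) (Y : Art.Sh) : List ((Art.Sh × ℕ × ℕ) × (ℕ × ℕ)) :=
  (reg n).flatMap fun x => (pd (NA x.1 x.2.1 x.2.2)).flatMap fun p =>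
    if p = x.2.1 then [] else ((List.range (618 / top Y)).filter fun f =>
      tst Y (pd (NS x.1 x.2.1 x.2.2)) (pd (NA x.1 x.2.1 x.2.2)) (NA x.1 x.2.1 x.2.2) (Art.dd x.1 (x.2.1 ^ x.2.2))
        ((x.2.1 ^ x.2.2) ^ Art.NN x.1 * numL x.1 (x.2.1 ^ x.2.2)) p (f + 1)).map fun f => (x, (p, f + 1))

/-- the survivors among the sporadic groups -/
def survS (Y : Art.Sh) : List (ℕ × (ℕ × ℕ)) :=
  Cfsg.Agent.OrdDiv.spor.flatMap fun x => (pd x.2).flatMap fun p => ((List.range (618 / top Y)).filter fun f =>
      tst Y (pd x.2) (pd x.2) x.2 1 x.2 p (f + 1)).map fun f => (x.2, (p, f + 1))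

theorem smooth_reg : ((reg 248).all fun x => smooth (NA x.1 x.2.1 x.2.2)) = true := by decide +kernel

theorem surv_E8 : surv 248 .E8 = [] := by decide +kernel

theorem surv_E7 : surv 133 .E7 = [] := by decide +kernel

theorem surv_E6 : surv 78 .E6 = [] := by decide +kernel

theorem surv_TE6 : surv 78 .TE6 = [] := by decide +kernel

theorem surv_F4 : surv 52 .F4 = [] := by decide +kernel

theorem surv_TF4 : surv 52 .TF4 = [] := by decide +kernel

theorem surv_TD4 : surv 28 .TD4 = [((.L 2, 3, 3), 2, 1), ((.L 2, 13, 1), 2, 1)] := by decide +kernel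

theorem surv_G2 : surv 14 .G2 = [((.L 2, 13, 1), 3, 1)] := by decide +kernel

theorem smooth_spor : (Cfsg.Agent.OrdDiv.spor.all fun x => smooth x.2) = true := by decide +kernel

theorem survS_E8 : survS .E8 = [] := by decide +kernel

theorem survS_E7 : survS .E7 = [] := by decide +kernel

theorem survS_E6 : survS .E6 = [] := by decide +kernel

theorem survS_TE6 : survS .TE6 = [] := by decide +kernel

theorem survS_F4 : survS .F4 = [] := by decide +kernel

theorem survS_TF4 : survS .TF4 = [] := by decide +kernel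

theorem survS_TD4 : survS .TD4 = [] := by decide +kernel

theorem survS_G2 : survS .G2 = [] := by decide +kernel

end Cfsg.Agent.H290.ElTab
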