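import Mathlib
import Cfsg.Agent.H912.Bd1

/-!
# Abelian normal subgroups and two elements acting freely on the weights (TEAM ELUSIVE, helper290)

`eq_one_of_free` : `ρ : G → End(V)`, `A` an abelian normal subgroup of `G` of exponent prime to the characteristic,
`x`, `y ∈ G` of different prime orders `ℓ`, `ℓ'` with `C_A(x) = C_A(y) = 1`, `dim V < ℓ ℓ'`. Then `A` acts trivially.
`eq_bot_of_free` : the same for subgroups of a group with a faithful representation over a field of characteristic `p`.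
-/

set_option autoImplicit false

namespace Cfsg.Agent.H290.ElWt

open Module Cfsg.Agent.H912.Bd

section Free

variable {K : Type*} [Field K] {V : Type*} [AddCommGroup V] [Module K V] {G : Type*} [Group G]

/-- the nontrivial weights of `A` -/
def Wts (ρ : G →* Module.End K V) (A : Subgroup G) : Type _ :=
  {χ : A → K // wt ρ A χ ≠ ⊥ ∧ ∃ a, χ a ≠ 1}

/-- the twist of a function by an element of `G` -/
def tw (A : Subgroup G) [A.Normal] (s : G) (χ : A → K) : A → K :=
  fun a => χ ⟨s⁻¹ * a * s, by simpa using (inferInstance : A.Normal).conj_mem a a.2 s⁻¹⟩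

theorem tw_wt (ρ : G →* Module.End K V) (A : Subgroup G) [A.Normal] (s : G) {χ : A → K} (h : wt ρ A χ ≠ ⊥) :
    wt ρ A (tw A s χ) ≠ ⊥ := by
  obtain ⟨v, hv, hv0⟩ := Submodule.exists_mem_ne_zero_of_ne_bot h
  intro hb
  have h1 : ρ s v ∈ wt ρ A (tw A s χ) := by
    have h2 := map_wt_le ρ (A := A) (χ := χ) (s := s⁻¹)
      (fun a ha => by simpa using (inferInstance : A.Normal).conj_mem a ha s⁻¹)
    have h3 : ρ (s⁻¹)⁻¹ v ∈ (wt ρ A χ).map (ρ (s⁻¹)⁻¹) := ⟨v, hv, rfl⟩
    have h4 := h2 h3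
    have h6 : ρ (s⁻¹)⁻¹ v = ρ s v := by rw [inv_inv]
    rw [h6] at h4
    have h5 : (fun a : A => χ ⟨s⁻¹ * a * (s⁻¹)⁻¹, by
        simpa using (inferInstance : A.Normal).conj_mem a a.2 s⁻¹⟩) = tw A s χ := by
      funext a
      exact congrArg χ (Subtype.ext (by simp))
    rw [← h5]
    exact h4
  rw [hb, Submodule.mem_bot] at h1
  exact hv0 (rho_injective ρ s (by rw [h1, map_zero]))

instance actWts (ρ : G →* Module.End K V) (A : Subgroup G) [A.Normal] : MulAction G (Wts ρ A) where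
  smul s χ := ⟨tw A s χ.1, tw_wt ρ A s χ.2.1, by
    obtain ⟨a, ha⟩ := χ.2.2
    refine ⟨⟨s * a * s⁻¹, (inferInstance : A.Normal).conj_mem a a.2 s⟩, ?_⟩
    have : (⟨s⁻¹ * (s * a * s⁻¹) * s, by
        have := (inferInstance : A.Normal).conj_mem _ ((inferInstance : A.Normal).conj_mem a a.2 s) s⁻¹
        simpa using this⟩ : A) = a := Subtype.ext (by simp [mul_assoc])
    unfold tw
    simpa [this] using ha⟩
  one_smul χ := Subtype.ext (by
    funext a
    exact congrArg χ.1 (Subtype.ext (by simp)))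
  mul_smul s t χ := Subtype.ext (by
    funext a
    exact congrArg χ.1 (Subtype.ext (by simp [mul_assoc])))

theorem smul_val (ρ : G →* Module.End K V) (A : Subgroup G) [A.Normal] (s : G) (χ : Wts ρ A) :
    (s • χ).1 = tw A s χ.1 := rfl

variable [FiniteDimensional K V] (ρ : G →* Module.End K V) {A : Subgroup G} [A.Normal]
  (hA : ∀ a ∈ A, ∀ b ∈ A, a * b = b * a) {N : ℕ} (hN : (N : K) ≠ 0) (hAN : ∀ a ∈ A, a ^ N = 1)

include hA hN hAN in
omit [A.Normal] in
theorem finite_wts : Finite (Wts ρ A) ∧ Nat.card (Wts ρ A) ≤ finrank K V := by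
  have h1 := indep_wt ρ hA hN hAN
  let _ : Fintype {χ : A → K // wt ρ A χ ≠ ⊥} := h1.fintypeNeBotOfFiniteDimensional
  have h2 := h1.subtype_ne_bot_le_finrank
  let f : Wts ρ A → {χ : A → K // wt ρ A χ ≠ ⊥} := fun χ => ⟨χ.1, χ.2.1⟩
  have hf : Function.Injective f := fun a b h => Subtype.ext (congrArg (fun z => z.1) h)
  refine ⟨Finite.of_injective f hf, ?_⟩
  refine le_trans (Nat.card_le_card_of_injective f hf) ?_
  rw [Nat.card_eq_fintype_card]
  exact h2

include hA hN hAN in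
/-- an element acting freely on `A` acts freely on the nontrivial weights -/
theorem dvd_card_wts [Finite G] {x : G} {ℓ : ℕ} (hℓ : ℓ.Prime) (hx : orderOf x = ℓ)
    (fx : ∀ a ∈ A, x * a = a * x → a = 1) : ℓ ∣ Nat.card (Wts ρ A) := by
  have := Fact.mk hℓ
  have hfin := (finite_wts ρ hA hN hAN).1
  have hP : IsPGroup ℓ (Subgroup.zpowers x) := IsPGroup.of_card (n := 1) (by rw [Nat.card_zpowers, hx, pow_one])
  have h1 := hP.card_modEq_card_fixedPoints (Wts ρ A)
  have h2 : IsEmpty (MulAction.fixedPoints (Subgroup.zpowers x) (Wts ρ A)) := by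
    refine ⟨fun ⟨χ, hχ⟩ => ?_⟩
    have h3 : x⁻¹ • χ = χ := hχ ⟨x⁻¹, inv_mem (Subgroup.mem_zpowers x)⟩
    have h4 : tw A x⁻¹ χ.1 = χ.1 := congrArg Subtype.val h3
    obtain ⟨b, hb⟩ := χ.2.2
    -- `a ↦ a⁻¹ a^x` is surjective on `A`
    let g : A → A := fun a => ⟨(a : G)⁻¹ * (x * a * x⁻¹), mul_mem (inv_mem a.2) ((inferInstance : A.Normal).conj_mem a a.2 x)⟩
    have hg : Function.Injective g := by
      intro a a' h
      have h5 : (a : G)⁻¹ * (x * a * x⁻¹) = (a' : G)⁻¹ * (x * a' * x⁻¹) := congrArg Subtype.val h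
      have ha1 : (x * a * x⁻¹ : G) ∈ A := (inferInstance : A.Normal).conj_mem a a.2 x
      have ha2 : (x * a' * x⁻¹ : G) ∈ A := (inferInstance : A.Normal).conj_mem a' a'.2 x
      have h6 : x * ((a' : G) * (a : G)⁻¹) * x⁻¹ = (a' : G) * (a : G)⁻¹ := by
        have h7 : (a' : G) * ((a : G)⁻¹ * (x * a * x⁻¹)) * (x * a * x⁻¹)⁻¹ = x * a' * x⁻¹ * (x * a * x⁻¹)⁻¹ := by
          rw [h5]; group
        have h8 : (a' : G) * ((a : G)⁻¹ * (x * a * x⁻¹)) * (x * a * x⁻¹)⁻¹ = (a' : G) * (a : G)⁻¹ := by group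
        have h9 : x * a' * x⁻¹ * (x * a * x⁻¹)⁻¹ = x * ((a' : G) * (a : G)⁻¹) * x⁻¹ := by group
        rw [← h9, ← h7, h8]
      have h10 : (a' : G) * (a : G)⁻¹ = 1 := by
        refine fx _ (mul_mem a'.2 (inv_mem a.2)) ?_
        have := congrArg (fun z => z * x) h6
        simpa [mul_assoc] using this
      exact Subtype.ext (mul_inv_eq_one.1 h10).symm
    obtain ⟨a, ha⟩ := (Finite.surjective_of_injective hg) b
    apply hb
    have h11 : χ.1 b = χ.1 (a⁻¹ * ⟨x * a * x⁻¹, (inferInstance : A.Normal).conj_mem a a.2 x⟩) := by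
      rw [← ha]; rfl
    rw [h11, wt_mul ρ χ.2.1]
    have h12 : χ.1 ⟨x * a * x⁻¹, (inferInstance : A.Normal).conj_mem a a.2 x⟩ = χ.1 a := by
      have h13 := congrFun h4 a
      rw [← h13]
      exact congrArg χ.1 (Subtype.ext (by simp))
    rw [h12, ← wt_mul ρ χ.2.1, inv_mul_cancel, wt_one ρ χ.2.1]
  have h3 : Nat.card (MulAction.fixedPoints (Subgroup.zpowers x) (Wts ρ A)) = 0 := Nat.card_of_isEmpty
  rw [h3] at h1
  exact (Nat.modEq_zero_iff_dvd).1 h1

include hA hN hAN in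
/-- **The weights lemma.** -/
theorem eq_one_of_free [Finite G] [IsAlgClosed K] {x y : G} {ℓ ℓ' : ℕ} (hℓ : ℓ.Prime) (hℓ' : ℓ'.Prime) (hne : ℓ ≠ ℓ')
    (hx : orderOf x = ℓ) (hy : orderOf y = ℓ') (fx : ∀ a ∈ A, x * a = a * x → a = 1)
    (fy : ∀ a ∈ A, y * a = a * y → a = 1) (hn : finrank K V < ℓ * ℓ') : ∀ a ∈ A, ρ a = 1 := by
  have h1 := dvd_card_wts ρ hA hN hAN hℓ hx fx
  have h2 := dvd_card_wts ρ hA hN hAN hℓ' hy fy
  have h3 : ℓ * ℓ' ∣ Nat.card (Wts ρ A) := ((Nat.coprime_primes hℓ hℓ').2 hne).mul_dvd_of_dvd_of_dvd h1 h2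
  obtain ⟨hfin, hle⟩ := finite_wts ρ hA hN hAN
  have h4 : Nat.card (Wts ρ A) = 0 := by
    by_contra h0
    have := Nat.le_of_dvd (Nat.pos_of_ne_zero h0) h3
    omega
  have h5 : IsEmpty (Wts ρ A) := by
    rcases Nat.card_eq_zero.1 h4 with h | h
    · exact h
    · exact absurd hfin (not_finite_iff_infinite.2 h)
  intro a ha
  by_contra hne'
  obtain ⟨χ, hχ, hχa⟩ := exists_wt ρ hA hN hAN (c := ⟨a, ha⟩) hne'
  exact h5.false ⟨χ, hχ, ⟨_, hχa⟩⟩

end Free

section Lin

variable {F : Type*} [Field F] {ι : Type*} [Fintype ι] [DecidableEq ι] {G : Type*} [Group G] [Finite G]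

/-- a matrix representation over the algebraic closure -/
noncomputable def cl (τ : G →* GL ι F) : G →* Module.End (AlgebraicClosure F) (ι → AlgebraicClosure F) where
  toFun g := Matrix.toLin' ((algebraMap F (AlgebraicClosure F)).mapMatrix (τ g : Matrix ι ι F))
  map_one' := by
    rw [map_one, Units.val_one, map_one, Matrix.toLin'_one]
    rfl
  map_mul' g h := by
    rw [map_mul, Units.val_mul, map_mul, Matrix.toLin'_mul]
    rfl

omit [Finite G] in
theorem cl_injective {τ : G →* GL ι F} (hτ : Function.Injective τ) {g : G} (h : cl τ g = 1) : g = 1 := by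
  apply hτ
  rw [map_one]
  have h1 : (algebraMap F (AlgebraicClosure F)).mapMatrix (τ g : Matrix ι ι F) = 1 := by
    apply (Matrix.toLin' (R := AlgebraicClosure F) (n := ι) (m := ι)).injective
    rw [Matrix.toLin'_one]
    exact h
  have h2 : (τ g : Matrix ι ι F) = 1 := by
    have h3 : Function.Injective ((algebraMap F (AlgebraicClosure F)).mapMatrix (m := ι)) :=
      Matrix.map_injective (algebraMap F (AlgebraicClosure F)).injective
    exact h3 (h1.trans (map_one _).symm)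
  exact Units.ext h2

/-- **The weights lemma for linear groups.** -/
theorem eq_bot_of_free {p : ℕ} [CharP F p] {τ : G →* GL ι F} (hτ : Function.Injective τ) {A : Subgroup G} [A.Normal]
    (hA : ∀ a ∈ A, ∀ b ∈ A, a * b = b * a) (hp : ¬ p ∣ Nat.card A) {x y : G} {ℓ ℓ' : ℕ} (hℓ : ℓ.Prime)
    (hℓ' : ℓ'.Prime) (hne : ℓ ≠ ℓ') (hx : orderOf x = ℓ) (hy : orderOf y = ℓ')
    (fx : ∀ a ∈ A, x * a = a * x → a = 1) (fy : ∀ a ∈ A, y * a = a * y → a = 1)
    (hn : Fintype.card ι < ℓ * ℓ') : A = ⊥ := by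
  have : CharP (AlgebraicClosure F) p := charP_of_injective_algebraMap (algebraMap F _).injective p
  have hN : ((Nat.card A : ℕ) : AlgebraicClosure F) ≠ 0 := by
    intro h
    exact hp ((CharP.cast_eq_zero_iff (AlgebraicClosure F) p _).1 h)
  have h1 := eq_one_of_free (cl τ) hA hN (fun a ha => by
    have := pow_card_eq_one' (x := (⟨a, ha⟩ : A))
    exact congrArg Subtype.val this) hℓ hℓ' hne hx hy fx fy (by simpa using hn)
  rw [eq_bot_iff]
  intro a ha
  exact Subgroup.mem_bot.2 (cl_injective hτ (h1 a ha))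

end Lin

end Cfsg.Agent.H290.ElWt
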