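import Cfsg.Agent.H563.KG.Tab
import Cfsg.Agent.H325.Same.ExcTw

/-!
# Numerics for the overgroups of the tori of order `Φ₁₂(q)` in `²F₄(q)` (helper290)

* `le_cross`, `le_spor` : in cross characteristic, degree at most `n`, and in sporadic groups `ncl e q ≤ 2701`;
* `charp_tf4_12` : in the same characteristic only `²F₄(q)` and `U₃(q²)` are left.
-/

set_option autoImplicit false
set_option exponentiation.threshold 700

namespace Cfsg.Agent.H290.KTF4

open Cfsg Cfsg.Agent Cfsg.Agent.OrdDiv Cfsg.Agent.H436 Cfsg.Agent.H902 Cfsg.Agent.H290.ElReg Cfsg.Agent.H290.ElTab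
  Cfsg.Agent.H290.ElCross Cfsg.Agent.H563.KG Cfsg.Agent.H915.GN Cfsg.Agent.H264.GN Cfsg.Agent.H264.FKS Cfsg.Agent.H325.Same

theorem bndR_52_12 : bndR 52 12 = true := by decide +kernel
theorem bndS_12 : bndS 12 = true := by decide +kernel

theorem cls12 : Cls 12 := by
  unfold Cls
  omega

variable {n e₀ q : ℕ}

/-- **Cross characteristic.** -/
theorem le_cross (hn : n ≤ 248) (hb : bndR n e₀ = true) (he₀ : Cls e₀) (hq : 2 ≤ q) {X : Art.Sh} {l a N : ℕ}
    (hR : Art.Real X l a N) (hlb : lb X (l ^ a) ≤ n) (hcls : ncl e₀ q ∣ N) : ncl e₀ q ≤ 2701 := by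
  obtain ⟨hl, ha, hokX, heq⟩ := hR
  have hreg := mem_reg hn hl ha hokX hlb
  have hs' : smooth (NA X l a) = true :=
    List.all_eq_true.1 smooth_reg (X, (l, a)) (mem_reg le_rfl hl ha hokX (hlb.trans hn))
  have hsS : smooth (NS X l a) = true := by
    have h1 : NS X l a ∣ NA X l a := Dvd.intro_left _ rfl
    have h2 : NA X l a ∣ prs.prod ^ 100 := Nat.dvd_of_mod_eq_zero (by simpa [smooth] using hs')
    simpa [smooth] using Nat.mod_eq_zero_of_dvd (h1.trans h2)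
  have hM : OL X (l ^ a) = Art.dd X (l ^ a) * N := by unfold OL; rw [numL_eq]; exact heq.symm
  have hNM : N ∣ OL X (l ^ a) := Dvd.intro_left _ hM.symm
  have hNS : ∀ r, r.Prime → r ∣ N → r ∣ NS X l a := by
    intro r hr h
    unfold NS
    have h1 : r ∣ (l ^ a) ^ Art.NN X * numL X (l ^ a) := h.trans hNM
    rcases hr.dvd_mul.1 h1 with h2 | h2
    · exact (hr.dvd_of_dvd_pow (hr.dvd_of_dvd_pow h2)).mul_right _
    · exact h2.mul_left _
  have hb' := List.all_eq_true.1 hb (X, (l, a)) hreg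
  simp only [Bool.and_eq_true, Nat.ble_eq, Nat.blt_eq] at hb'
  have hM0 : OL X (l ^ a) ≠ 0 := by
    intro h0
    have h3 : l ^ a ≠ 0 := pow_ne_zero _ hl.ne_zero
    have h4 : NS X l a ≠ 0 := by
      intro h5
      have h6 : NS X l a ∣ prs.prod ^ 100 := Nat.dvd_of_mod_eq_zero (by simpa [smooth] using hsS)
      rw [h5] at h6
      have h7 := Nat.eq_zero_of_zero_dvd h6
      have h8 : prs.prod ≠ 0 := by decide +kernel
      exact pow_ne_zero 100 h8 h7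
    apply h4
    unfold OL at h0
    rcases Nat.mul_eq_zero.1 h0 with h5 | h5
    · exact absurd h5 (pow_ne_zero _ h3)
    · unfold NS
      rw [h5, mul_zero]
  have h1 : ncl e₀ q ∣ De (pd (NS X l a)) (OL X (l ^ a)) e₀ := by
    refine dvd_De hM0 hb'.2 (hcls.trans hNM) fun r hr hrd => ?_
    have hprim := prim_of_dvd he₀ (by omega) hr hrd
    exact ⟨mem_pd hsS hr (hNS r hr (hrd.trans hcls)), mod_of_prim hq (by
      unfold Cls at he₀
      omega) hprim⟩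
  have h3 : De (pd (NS X l a)) (OL X (l ^ a)) e₀ ≠ 0 := by
    unfold De
    intro h4
    rw [List.prod_eq_zero_iff, List.mem_map] at h4
    obtain ⟨r, -, h5⟩ := h4
    exact hM0 (Nat.eq_zero_of_gcd_eq_zero_left h5)
  exact (Nat.le_of_dvd (Nat.pos_of_ne_zero h3) h1).trans hb'.1

/-- **Sporadic groups.** -/
theorem le_spor (hb : bndS e₀ = true) (he₀ : Cls e₀) (hq : 2 ≤ q) {x : Cfsg.Agent.OrdDiv.Grp × ℕ}
    (hx : x ∈ Cfsg.Agent.OrdDiv.spor) (hcls : ncl e₀ q ∣ x.2) : ncl e₀ q ≤ 2701 := by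
  have hs' : smooth x.2 = true := List.all_eq_true.1 smooth_spor x hx
  have hb' := List.all_eq_true.1 hb x hx
  simp only [Bool.and_eq_true, Nat.ble_eq, Nat.blt_eq] at hb'
  have hM0 : x.2 ≠ 0 := by
    have : ∀ x ∈ Cfsg.Agent.OrdDiv.spor, x.2 ≠ 0 := by decide +kernel
    exact this x hx
  have h1 : ncl e₀ q ∣ De (pd x.2) x.2 e₀ := by
    refine dvd_De hM0 hb'.2 hcls fun r hr hrd => ?_
    have hprim := prim_of_dvd he₀ (by omega) hr hrd
    exact ⟨mem_pd hs' hr (hrd.trans hcls), mod_of_prim hq (by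
      unfold Cls at he₀
      omega) hprim⟩
  have h3 : De (pd x.2) x.2 e₀ ≠ 0 := by
    unfold De
    intro h4
    rw [List.prod_eq_zero_iff, List.mem_map] at h4
    obtain ⟨r, -, h5⟩ := h4
    exact hM0 (Nat.eq_zero_of_gcd_eq_zero_left h5)
  exact (Nat.le_of_dvd (Nat.pos_of_ne_zero h3) h1).trans hb'.1

/-! ### the same characteristic -/

section same

variable {p f c : ℕ} {g : Grp}

/-- **`²F_4(q)`, class 12.** -/
theorem charp_tf4_12 (hp : p.Prime) (hf : 1 ≤ f) (hT : Cond (.tf4 (p ^ f))) (hg : Cond g) (hch : HasChar p g)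
    (hc : den g * c = num g) (hdvd : c ∣ num (.tf4 (p ^ f))) (hs : HT p f 12 g c) :
    g = .tf4 (p ^ f) ∨ g = .psu 3 (p ^ (f * 2)) := by
  obtain ⟨f₁, hf₁, hfl, hK, hY⟩ := kd_all hp hg hch hc
  obtain ⟨i, hi, hei, hfM, h2, h1, h3, hYc⟩ := compP hp hf hg hch hf₁ hfl hK hY (td_tf4 hp hf hdvd)
    (by norm_num) (by norm_num) (by norm_num) (fun i hi hei s hs h5 => by
      have hi' : i ∈ [1, 6, 4, 12] := hi
      refine hpr_aux ?_ hs (by omega)
      simp only [List.mem_cons, List.not_mem_nil, or_false] at hi' ⊢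
      omega) hs hs
  have hq : 2 ≤ p ^ f := hp.two_le.trans (Nat.le_self_pow (by omega) _)
  obtain ⟨m, hm, hqm⟩ : ∃ m, 1 ≤ m ∧ p ^ f = 2 ^ (2 * m + 1) := hT
  have hp2 : p = 2 := by
    have h4 : p ∣ 2 ^ (2 * m + 1) := by
      rw [← hqm]
      exact dvd_pow_self p (by omega)
    exact (Nat.prime_dvd_prime_iff_eq hp Nat.prime_two).1 (hp.dvd_of_dvd_pow h4)
  subst hp2
  have hfm : f = 2 * m + 1 := Nat.pow_right_injective (le_refl 2) hqm
  obtain ⟨s, hs3⟩ := exists_prim (q := 2 ^ f) (e := 3) hq (by norm_num) (by omega)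
  have hn : ¬ s ∣ c := fun h => not_dvd_tf4 hs3 (h.trans hdvd)
  rcases elimP_tf4_12_12 hg hch hi hei h2 h1 h3 hYc with ⟨rfl, q, rfl⟩ | ⟨rfl, q, rfl⟩ | ⟨rfl, q, rfl⟩ |
    ⟨rfl, q, rfl⟩ | ⟨rfl, q, rfl⟩ | ⟨rfl, q, rfl⟩ | ⟨rfl, q, rfl⟩ | ⟨rfl, q, rfl⟩ | ⟨rfl, q, rfl⟩
  · exfalso
    obtain rfl : q = 2 ^ f₁ := hfl
    have h5 : f₁ * 2 = f * 12 := hfM
    obtain rfl : f₁ = f * 6 := by omega
    exact hn (psl2_dvd hp hf (by norm_num) (by norm_num) hs3 (by norm_num) hc)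
  · exfalso
    obtain rfl : q = 2 ^ f₁ := hfl
    have h5 : f₁ * 3 = f * 12 := hfM
    obtain rfl : f₁ = f * 4 := by omega
    have h6 := Cfsg.Agent.H425.Chr.prim_quot (f := 4) (by norm_num) hs3
    rw [← pow_mul] at h6
    exact hn (psl_prim (e := 3) le_rfl le_rfl hc h6)
  · exfalso
    obtain rfl : q = 2 ^ f₁ := hfl
    have h5 : f₁ * (2 * 2) = f * 12 := hfM
    obtain rfl : f₁ = f * 3 := by omega
    exact hn (mq_dvd' hs3 (by norm_num) (psp_mq le_rfl hc))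
  · right
    obtain rfl : q = 2 ^ f₁ := hfl
    have h5 : f₁ * 6 = f * 12 := hfM
    obtain rfl : f₁ = f * 2 := by omega
    rfl
  · exfalso
    obtain rfl : q = 2 ^ f₁ := hfl
    have h5 : f₁ * 6 = f * 12 := hfM
    obtain rfl : f₁ = f * 2 := by omega
    have h7 : 1 * c = (2 ^ (f * 2)) ^ 6 * (((2 ^ (f * 2)) ^ 2 - 1) * ((2 ^ (f * 2)) ^ 6 - 1)) := hc
    rw [one_mul] at h7
    apply hn
    rw [h7]
    have h8 : s ∣ (2 ^ (f * 2)) ^ 6 - 1 := by
      rw [pow_mul, ← pow_mul (2 ^ f)]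
      exact hs3.dvd (by norm_num)
    exact (h8.mul_left _).mul_left _
  · exfalso
    obtain rfl : q = 2 ^ f₁ := hfl
    obtain rfl := same_fld (M := 12) (by norm_num) hfM
    have h7 : 1 * c = (2 ^ f₁) ^ 12 * (((2 ^ f₁) ^ 2 - 1) * ((2 ^ f₁) ^ 6 - 1) * ((2 ^ f₁) ^ 8 + (2 ^ f₁) ^ 4 + 1)) := hc
    rw [one_mul] at h7
    apply hn
    rw [h7]
    exact (((hs3.dvd (m := 6) (by norm_num)).mul_left _).mul_right _).mul_left _
  · left
    obtain rfl : q = 2 ^ f₁ := hfl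
    rw [same_fld (M := 12) (by norm_num) hfM]
  · exfalso
    obtain rfl : q = 2 ^ f₁ := hfl
    have h5 : f₁ * 4 = f * 12 := hfM
    obtain rfl : f₁ = f * 3 := by omega
    have h7 : 1 * c = (2 ^ (f * 3)) ^ 2 * ((2 ^ (f * 3) - 1) * ((2 ^ (f * 3)) ^ 2 + 1)) := hc
    rw [one_mul] at h7
    apply hn
    rw [h7]
    have h8 : s ∣ 2 ^ (f * 3) - 1 := by
      rw [pow_mul]
      exact hs3.dvd dvd_rfl
    exact (h8.mul_right _).mul_left _
  · exfalso
    obtain rfl : q = 2 ^ f₁ := hfl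
    obtain ⟨m', -, hm'⟩ : ∃ m, 1 ≤ m ∧ 2 ^ f₁ = 3 ^ (2 * m + 1) := hg
    have h3 : 3 ∣ 2 ^ f₁ := by
      rw [hm']
      exact dvd_pow_self 3 (by omega)
    have := Nat.prime_three.dvd_of_dvd_pow h3
    omega

end same

end Cfsg.Agent.H290.KTF4
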