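import Mathlib

/-!
# The part of `2^(12 f) - 1` at the primes dividing `f` (helper290)
-/

set_option autoImplicit false

namespace Cfsg.Agent.H290.KTF4

theorem sum_lt_prod (s : Finset ℕ) (h : ∀ r ∈ s, 1 ≤ r) : (∑ r ∈ s, (r - 1)) + 1 ≤ ∏ r ∈ s, r := by
  classical
  induction s using Finset.induction_on with
  | empty => simp
  | insert a s ha ih =>
    rw [Finset.sum_insert ha, Finset.prod_insert ha]
    have h1 := ih fun r hr => h r (Finset.mem_insert_of_mem hr)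
    have h2 : 1 ≤ a := h a (Finset.mem_insert_self a s)
    obtain ⟨b, rfl⟩ := Nat.exists_eq_add_of_le' h2
    rw [Nat.add_sub_cancel]
    have h3 : b * 1 ≤ b * ∏ r ∈ s, r := Nat.mul_le_mul_left _ (by omega)
    have h4 : (b + 1) * ∏ r ∈ s, r = b * (∏ r ∈ s, r) + ∏ r ∈ s, r := by ring
    rw [h4]
    omega

/-- a split into the parts prime to `f` and at the primes of `f` -/
theorem exists_split (f : ℕ) : ∀ N : ℕ, N ≠ 0 → ∃ a b, N = a * b ∧ (∀ r, r.Prime → r ∣ a → ¬ r ∣ f) ∧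
    ∀ r, r.Prime → r ∣ b → r ∣ f := by
  intro N
  induction N using Nat.recOnMul with
  | zero => intro h; exact absurd rfl h
  | one => exact fun _ => ⟨1, 1, rfl, fun r hr h => absurd (Nat.dvd_one.1 h) hr.one_lt.ne',
      fun r hr h => absurd (Nat.dvd_one.1 h) hr.one_lt.ne'⟩
  | prime p hp =>
    intro _
    by_cases h : p ∣ f
    · exact ⟨1, p, (one_mul _).symm, fun r hr h => absurd (Nat.dvd_one.1 h) hr.one_lt.ne', fun r hr h1 => by
        rwa [(Nat.prime_dvd_prime_iff_eq hr hp).1 h1]⟩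
    · exact ⟨p, 1, (mul_one _).symm, fun r hr h1 => by
        rwa [(Nat.prime_dvd_prime_iff_eq hr hp).1 h1], fun r hr h => absurd (Nat.dvd_one.1 h) hr.one_lt.ne'⟩
  | mul x y hx hy =>
    intro h
    obtain ⟨a, b, h1, h2, h3⟩ := hx (left_ne_zero_of_mul h)
    obtain ⟨a', b', h1', h2', h3'⟩ := hy (right_ne_zero_of_mul h)
    refine ⟨a * a', b * b', by rw [h1, h1']; ring, fun r hr hd => ?_, fun r hr hd => ?_⟩
    · rcases hr.dvd_mul.1 hd with h4 | h4
      · exact h2 r hr h4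
      · exact h2' r hr h4
    · rcases hr.dvd_mul.1 hd with h4 | h4
      · exact h3 r hr h4
      · exact h3' r hr h4

theorem pow_fac_le {f r D : ℕ} (hf : 1 ≤ f) (hD0 : D ≠ 0) (hD : D ∣ 2 ^ (12 * f) - 1) (hr : r.Prime) (hrD : r ∣ D)
    (h12 : ¬ r ∣ 12) : r ^ D.factorization r ≤ 2 ^ (r - 1) * r ^ f.factorization r := by
  have := Fact.mk hr
  have h1 : 1 ≤ 2 ^ (12 * f) := Nat.one_le_two_pow
  have hN0 : 2 ^ (12 * f) - 1 ≠ 0 := by
    have : 2 ^ 1 ≤ 2 ^ (12 * f) := Nat.pow_le_pow_right (by norm_num) (by omega)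
    omega
  have hr2 : r ≠ 2 := by
    rintro rfl
    have h2 := (hrD.trans hD)
    have h3 : 2 ∣ 2 ^ (12 * f) := dvd_pow_self 2 (by omega)
    have h4 := (Nat.dvd_sub h3 h2)
    rw [Nat.sub_sub_self h1] at h4
    exact absurd h4 (by norm_num)
  have hodd : Odd r := hr.odd_of_ne_two hr2
  have hfer : r ∣ 2 ^ (r - 1) - 1 := by
    have hcop : Nat.Coprime 2 r := (Nat.coprime_primes Nat.prime_two hr).2 hr2.symm
    have h2 := Nat.ModEq.pow_totient hcop
    rw [Nat.totient_prime hr] at h2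
    exact (Nat.modEq_iff_dvd' Nat.one_le_two_pow).1 h2.symm
  have hr1 : 1 ≤ r - 1 := by have := hr.two_le; omega
  have hlt : 1 < 2 ^ (r - 1) := Nat.one_lt_two_pow (by omega)
  have hlte := padicValNat.pow_sub_pow (p := r) (x := 2 ^ (r - 1)) (y := 1) hodd hlt hfer (by
    intro h
    exact hr2 ((Nat.prime_dvd_prime_iff_eq hr Nat.prime_two).1 (hr.dvd_of_dvd_pow h))) (n := 12 * f) (by omega)
  rw [one_pow, ← pow_mul] at hlte
  have hdvd : 2 ^ (12 * f) - 1 ∣ 2 ^ ((r - 1) * (12 * f)) - 1 := by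
    have e : 2 ^ ((r - 1) * (12 * f)) = (2 ^ (12 * f)) ^ (r - 1) := by rw [← pow_mul, mul_comm (r - 1)]
    rw [e]
    have := Nat.sub_dvd_pow_sub_pow (2 ^ (12 * f)) 1 (r - 1)
    rwa [one_pow] at this
  have hne : 2 ^ ((r - 1) * (12 * f)) - 1 ≠ 0 := by
    have : 2 ^ 1 ≤ 2 ^ ((r - 1) * (12 * f)) := Nat.pow_le_pow_right (by norm_num) (by nlinarith)
    omega
  have h2 : D.factorization r ≤ padicValNat r (2 ^ (r - 1) - 1) + padicValNat r (12 * f) := by
    rw [← hlte, ← Nat.factorization_def _ hr]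
    exact (Nat.factorization_le_iff_dvd hD0 hne).2 (hD.trans hdvd) r
  have h3 : padicValNat r (12 * f) = f.factorization r := by
    rw [padicValNat.mul (by norm_num) (by omega), padicValNat.eq_zero_of_not_dvd h12, zero_add,
      Nat.factorization_def _ hr]
  have h4 : r ^ padicValNat r (2 ^ (r - 1) - 1) ≤ 2 ^ (r - 1) := by
    have h5 : r ^ padicValNat r (2 ^ (r - 1) - 1) ∣ 2 ^ (r - 1) - 1 := pow_padicValNat_dvd
    exact (Nat.le_of_dvd (by omega) h5).trans (Nat.sub_le _ _)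
  calc r ^ D.factorization r ≤ r ^ (padicValNat r (2 ^ (r - 1) - 1) + padicValNat r (12 * f)) :=
        Nat.pow_le_pow_right hr.pos h2
    _ = r ^ padicValNat r (2 ^ (r - 1) - 1) * r ^ f.factorization r := by rw [pow_add, h3]
    _ ≤ _ := Nat.mul_le_mul_right _ h4

/-- **The part at the primes of `f`.** -/
theorem fpart_le {f D : ℕ} (hf : 1 ≤ f) (hD : D ∣ 2 ^ (12 * f) - 1) (h : ∀ r, r.Prime → r ∣ D → r ∣ f ∧ ¬ r ∣ 12) :
    D ≤ 2 ^ (f - 1) * f := by
  have h1 : 1 ≤ 2 ^ (12 * f) := Nat.one_le_two_pow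
  have hN0 : 2 ^ (12 * f) - 1 ≠ 0 := by
    have : 2 ^ 1 ≤ 2 ^ (12 * f) := Nat.pow_le_pow_right (by norm_num) (by omega)
    omega
  have hD0 : D ≠ 0 := fun h0 => hN0 (Nat.eq_zero_of_zero_dvd (h0 ▸ hD))
  have hsub : D.primeFactors ⊆ f.primeFactors := fun r hr => by
    rw [Nat.mem_primeFactors] at hr ⊢
    exact ⟨hr.1, (h r hr.1 hr.2.1).1, by omega⟩
  have e1 : D = ∏ r ∈ D.primeFactors, r ^ D.factorization r := (Nat.prod_factorization_pow_eq_self hD0).symm
  have e2 : ∏ r ∈ f.primeFactors, r ^ f.factorization r = f := Nat.prod_factorization_pow_eq_self (by omega)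
  have h2 : ∏ r ∈ D.primeFactors, r ^ D.factorization r ≤
      ∏ r ∈ D.primeFactors, (2 ^ (r - 1) * r ^ f.factorization r) := Finset.prod_le_prod' fun r hr => by
    rw [Nat.mem_primeFactors] at hr
    exact pow_fac_le hf hD0 hD hr.1 hr.2.1 (h r hr.1 hr.2.1).2
  have h3 : ∏ r ∈ D.primeFactors, (2 ^ (r - 1) * r ^ f.factorization r) ≤
      ∏ r ∈ f.primeFactors, (2 ^ (r - 1) * r ^ f.factorization r) :=
    Finset.prod_le_prod_of_subset_of_one_le' hsub fun r hr _ => by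
      rw [Nat.mem_primeFactors] at hr
      exact Nat.one_le_iff_ne_zero.2 (Nat.mul_ne_zero (by positivity) (pow_ne_zero _ hr.1.ne_zero))
  have h4 : ∑ r ∈ f.primeFactors, (r - 1) ≤ f - 1 := by
    have h5 := sum_lt_prod f.primeFactors fun r hr => (Nat.mem_primeFactors.1 hr).1.one_lt.le
    have h6 := Nat.le_of_dvd (by omega) (Nat.prod_primeFactors_dvd f)
    omega
  calc D = ∏ r ∈ D.primeFactors, r ^ D.factorization r := e1
    _ ≤ _ := h2
    _ ≤ _ := h3
    _ = 2 ^ (∑ r ∈ f.primeFactors, (r - 1)) * f := by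
      rw [Finset.prod_mul_distrib, e2, Finset.prod_pow_eq_pow_sum]
    _ ≤ 2 ^ (f - 1) * f := Nat.mul_le_mul_right _ (Nat.pow_le_pow_right (by norm_num) h4)

end Cfsg.Agent.H290.KTF4
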