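import Cfsg.Agent.H290.KTF4g
import Cfsg.Agent.H57.BG.Gap

/-!
# `H57.BG.Row` for `²F₄(q)` (helper290, for S3561)
-/

set_option autoImplicit false

namespace Cfsg.Agent.H290.KTF4

open Cfsg Cfsg.Agent.OrdDiv Cfsg.Agent.H436 Cfsg.Agent.H56.Exc

universe u

/-- **`²F₄(q)`** -/
theorem row_tf4 (tb : OrderTable.{0}) (hcyc : CycFixSolv.{0})
    (hcf : ∀ (S : Type) [Group S] [Finite S] [IsSimpleGroup S], IsKnownSimple' S) {T : Type u} [Group T] [Finite T]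
    [IsSimpleGroup T] (hna : ¬ ∀ a b : T, a * b = b * a) {q : ℕ} (hT : IsNamed (.tf4 q) T) : H57.BG.Row T :=
  H57.BG.row_of_iGap (H57.BG.center_eq_bot hna) fun _ hM => iGap_tf4 tb hcyc hcf hna hM.1 hT

end Cfsg.Agent.H290.KTF4
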