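import Mathlib
import Cfsg.Prelude.Def_ClassificationK
import Cfsg.Agent.TwoGenCore.Basic
import Cfsg.Agent.CharDeep.QuatSylowBasic

/-!
# Doubly transitive groups of odd degree whose two-point stabilisers have 2-rank at most one: first facts
-/

set_option autoImplicit false

namespace Cfsg.Agent.H290.TwoTr

open Subgroup MulAction Cfsg Cfsg.Agent.TwoGenCore

/-- a group with cyclic or quaternion Sylow 2-subgroups has no two distinct commuting involutions -/
theorem no_four {K : Type*} [Group K] [Finite K]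
    (hS : ∀ S : Sylow 2 K, IsCyclic ↥(S : Subgroup K) ∨
      ∃ n : ℕ, Nonempty (↥(S : Subgroup K) ≃* QuaternionGroup (2 ^ (n + 1))))
    (x y : K) (hx : x ≠ 1) (hy : y ≠ 1) (hxy : x ≠ y) (hx2 : x * x = 1) (hy2 : y * y = 1)
    (hc : x * y = y * x) : False := by
  have hV : IsPGroup 2 (fourSub x y hx2 hy2 hc) := by
    rintro ⟨g, hg⟩
    refine ⟨1, ?_⟩
    apply Subtype.ext
    have e5 : x * y * (x * y) = 1 := by
      calc x * y * (x * y) = x * y * (y * x) := by rw [hc]
        _ = x * (y * y) * x := by group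
        _ = 1 := by rw [hy2, mul_one, hx2]
    show g ^ 2 ^ 1 = 1
    rw [pow_one, sq]
    rcases hg with rfl | rfl | rfl | rfl
    · simp
    · exact hx2
    · exact hy2
    · exact e5
  obtain ⟨S, hSV⟩ := hV.exists_le_sylow
  have hxS : x ∈ (S : Subgroup K) := hSV (Or.inr (Or.inl rfl))
  have hyS : y ∈ (S : Subgroup K) := hSV (Or.inr (Or.inr (Or.inl rfl)))
  have ox : orderOf x = 2 := orderOf_eq_prime (by rw [sq, hx2]) hx
  have oy : orderOf y = 2 := orderOf_eq_prime (by rw [sq, hy2]) hy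
  rcases hS S with hcyc | ⟨n, ⟨e⟩⟩
  · classical
    have : Fintype (S : Subgroup K) := Fintype.ofFinite _
    have h1 := IsCyclic.card_pow_eq_one_le (α := (S : Subgroup K)) (n := 2) (by norm_num)
    have h2 : ({1, ⟨x, hxS⟩, ⟨y, hyS⟩} : Finset (S : Subgroup K)) ⊆
        Finset.univ.filter (fun a : (S : Subgroup K) => a ^ 2 = 1) := by
      intro a ha
      simp only [Finset.mem_insert, Finset.mem_singleton] at ha
      simp only [Finset.mem_filter, Finset.mem_univ, true_and]
      rcases ha with rfl | rfl | rfl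
      · simp
      · apply Subtype.ext; show x ^ 2 = 1; rw [sq, hx2]
      · apply Subtype.ext; show y ^ 2 = 1; rw [sq, hy2]
    have h3 : ({1, ⟨x, hxS⟩, ⟨y, hyS⟩} : Finset (S : Subgroup K)).card = 3 := by
      rw [Finset.card_insert_of_notMem, Finset.card_insert_of_notMem, Finset.card_singleton]
      · intro h
        rw [Finset.mem_singleton] at h
        exact hxy (congrArg Subtype.val h)
      · intro h
        simp only [Finset.mem_insert, Finset.mem_singleton] at h
        rcases h with h | h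
        · exact hx (congrArg Subtype.val h).symm
        · exact hy (congrArg Subtype.val h).symm
    have h4 := Finset.card_le_card h2
    omega
  · exact hxy (Cfsg.Agent.CharDeep.QuatSylowBasic.unique_of_equiv e x y hxS hyS ox oy)

/-- no four-subgroup fixes two points -/
def FourFix (G Ω : Type*) [Group G] [MulAction G Ω] : Prop :=
  ∀ a b : Ω, a ≠ b → ∀ x y : G, x ≠ 1 → y ≠ 1 → x ≠ y → x * x = 1 → y * y = 1 → x * y = y * x →
    x • a = a → x • b = b → y • a = a → y • b = b → False

theorem fourFix {G Ω : Type*} [Group G] [Finite G] [MulAction G Ω]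
    (h2t : ∀ a b c d : Ω, a ≠ b → c ≠ d → ∃ g : G, g • a = c ∧ g • b = d)
    (a b : Ω) (hab : a ≠ b)
    (hS : ∀ S : Sylow 2 ↥(MulAction.stabilizer G a ⊓ MulAction.stabilizer G b),
      IsCyclic ↥(S : Subgroup ↥(MulAction.stabilizer G a ⊓ MulAction.stabilizer G b)) ∨
        ∃ n : ℕ, Nonempty (↥(S : Subgroup ↥(MulAction.stabilizer G a ⊓ MulAction.stabilizer G b)) ≃*
          QuaternionGroup (2 ^ (n + 1)))) : FourFix G Ω := by
  intro c d hcd x y hx hy hxy hx2 hy2 hc hxc hxd hyc hyd
  obtain ⟨g, hga, hgb⟩ := h2t c d a b hcd hab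
  have key : ∀ z : G, z • c = c → z • d = d →
      g * z * g⁻¹ ∈ MulAction.stabilizer G a ⊓ MulAction.stabilizer G b := by
    intro z hzc hzd
    refine mem_inf.mpr ⟨?_, ?_⟩
    · rw [MulAction.mem_stabilizer_iff, ← hga, mul_smul, mul_smul, inv_smul_smul, hzc]
    · rw [MulAction.mem_stabilizer_iff, ← hgb, mul_smul, mul_smul, inv_smul_smul, hzd]
  refine no_four hS ⟨_, key x hxc hxd⟩ ⟨_, key y hyc hyd⟩ ?_ ?_ ?_ ?_ ?_ ?_
  · intro h
    have := congrArg Subtype.val h
    exact hx (by simpa using this)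
  · intro h
    have := congrArg Subtype.val h
    exact hy (by simpa using this)
  · intro h
    have := congrArg Subtype.val h
    exact hxy (by simpa using this)
  · apply Subtype.ext
    show g * x * g⁻¹ * (g * x * g⁻¹) = 1
    calc g * x * g⁻¹ * (g * x * g⁻¹) = g * (x * x) * g⁻¹ := by group
      _ = 1 := by rw [hx2]; group
  · apply Subtype.ext
    show g * y * g⁻¹ * (g * y * g⁻¹) = 1
    calc g * y * g⁻¹ * (g * y * g⁻¹) = g * (y * y) * g⁻¹ := by group
      _ = 1 := by rw [hy2]; group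
  · apply Subtype.ext
    show g * x * g⁻¹ * (g * y * g⁻¹) = g * y * g⁻¹ * (g * x * g⁻¹)
    calc g * x * g⁻¹ * (g * y * g⁻¹) = g * (x * y) * g⁻¹ := by group
      _ = g * (y * x) * g⁻¹ := by rw [hc]
      _ = _ := by group

variable {L Ω : Type*} [Group L] [MulAction L Ω]

/-- the normaliser of a subgroup of 2-rank at least 2 fixing `a` fixes `a` -/
theorem normalizer_le_stabilizer (hf : FourFix L Ω) {Q : Subgroup L} (hQ : Four Q) {a : Ω}
    (hQa : ∀ q ∈ Q, q • a = a) : normalizer (Q : Set L) ≤ stabilizer L a := by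
  intro g hg
  by_contra hga
  have hga' : a ≠ g • a := fun h => hga h.symm
  have h1 : ∀ q ∈ Q, q • g • a = g • a := by
    intro q hq
    have h2 : g⁻¹ * q * g ∈ Q := by
      have := (Subgroup.mem_normalizer_iff.1 (inv_mem hg) q).1 hq
      simpa using this
    have h3 := hQa _ h2
    rw [mul_smul, mul_smul, inv_smul_eq_iff] at h3
    exact h3
  obtain ⟨x, hx, y, hy, hx1, hy1, hxy, hx2, hy2, hc⟩ := hQ
  exact hf a (g • a) hga' x y hx1 hy1 hxy hx2 hy2 hc (hQa x hx) (h1 x hx) (hQa y hy) (h1 y hy)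

/-- a 2-group acting on a set of odd size has a fixed point -/
theorem exists_fixed [Finite L] [Fintype Ω] (hodd : Odd (Fintype.card Ω)) {S : Subgroup L} (hS : IsPGroup 2 S) :
    ∃ a : Ω, ∀ s ∈ S, s • a = a := by
  have : Fact (Nat.Prime 2) := ⟨Nat.prime_two⟩
  have h1 := hS.card_modEq_card_fixedPoints Ω
  have h2 : Nat.card (fixedPoints S Ω) ≠ 0 := by
    intro h
    rw [h, Nat.card_eq_fintype_card] at h1
    have h3 : 2 ∣ Fintype.card Ω := (Nat.modEq_zero_iff_dvd).1 h1
    exact (Nat.not_even_iff_odd.2 hodd) (even_iff_two_dvd.2 h3)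
  obtain ⟨⟨a, ha⟩⟩ := (Nat.card_ne_zero.1 h2).1
  exact ⟨a, fun s hs => ha ⟨s, hs⟩⟩

theorem stabilizer_ne_top [IsPretransitive L Ω] [Fintype Ω] (h2 : 2 ≤ Fintype.card Ω) (a : Ω) :
    stabilizer L a ≠ ⊤ := by
  intro h
  have h1 : (stabilizer L a).index = Nat.card Ω := MulAction.index_stabilizer_of_transitive L a
  rw [h, Subgroup.index_top, Nat.card_eq_fintype_card] at h1
  omega

theorem hasProperTwoGeneratedCore [Finite L] [IsPretransitive L Ω] [Fintype Ω]
    (hodd : Odd (Fintype.card Ω)) (h2 : 2 ≤ Fintype.card Ω) (hf : FourFix L Ω)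
    (hr : ¬ PRankLE 2 1 L) : HasProperTwoGeneratedCore L := by
  refine ⟨hr, default, ?_⟩
  obtain ⟨a, ha⟩ := exists_fixed hodd (S := ((default : Sylow 2 L) : Subgroup L)) (default : Sylow 2 L).isPGroup'
  intro h
  apply stabilizer_ne_top (L := L) h2 a
  rw [eq_top_iff, ← h]
  refine iSup_le ?_
  rintro ⟨Q, hQS, hQ⟩
  exact normalizer_le_stabilizer hf (not_pRankLE_one_iff.1 hQ) (fun q hq => ha q (hQS hq))

end Cfsg.Agent.H290.TwoTr
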