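import Cfsg.Agent.H290.TwoTr
import Cfsg.Agent.CpQuot.Congr
import Cfsg.Agent.LieRecognition.RankOneBasic
import Cfsg.Agent.UGT.End.PSLTwoFacts
import Cfsg.Agent.SuzukiRankOne.SzModel
import Cfsg.Prelude.Def_Sz

/-!
# The degree of an action of a Bender group in which no four-subgroup fixes two points
-/

set_option autoImplicit false

namespace Cfsg.Agent.H290.TwoTrBender

open Subgroup MulAction Cfsg Cfsg.Agent.TwoGenCore Cfsg.Agent.H290.TwoTr
open Cfsg.Agent.LieRecognition

theorem four_of_sylow {Y : Type*} [Group Y] [Finite Y] (hr : ¬ PRankLE 2 1 Y) (S : Sylow 2 Y) :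
    Four (S : Subgroup Y) := by
  have h1 : Four (⊤ : Subgroup Y) := by
    rw [← not_pRankLE_one_iff]
    intro h
    exact hr ((Cfsg.Agent.CpQuot.Congr.prankLE_iff Subgroup.topEquiv 2 1).1 h)
  obtain ⟨x, -, y, -, hx1, hy1, hxy, hx2, hy2, hc⟩ := h1
  have hV := fourSub_isPGroup hx2 hy2 hc
  obtain ⟨T, hT⟩ := hV.exists_le_sylow
  have h2 : Four (T : Subgroup Y) :=
    ⟨x, hT (left_mem_fourSub hx2 hy2 hc), y, hT (right_mem_fourSub hx2 hy2 hc), hx1, hy1, hxy, hx2,
      hy2, hc⟩
  obtain ⟨g, hg⟩ := MulAction.exists_smul_eq Y T S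
  rw [← hg]
  exact h2.conj g

/-- the index of a proper overgroup of the normaliser of `Q` in a rank one set-up -/
theorem index_of_setup {Y Ω' : Type*} [Group Y] [Finite Y] [MulAction Y Ω'] {a : Ω'} {t : Y}
    {Q : Subgroup Y} (hS : IsRankOneSetup Y Ω' a t Q) {M : Subgroup Y}
    (hM : normalizer (Q : Set Y) ≤ M) (hne : M ≠ ⊤) : M.index = Nat.card Q + 1 := by
  have h1 : stabilizer Y a ≤ M := (RankOneBasic.stabilizer_le_normalizer hS).trans hM
  have hpre : IsPreprimitive Y Ω' := isPreprimitive_of_is_two_pretransitive hS.two_transitive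
  have hnt : Nontrivial Ω' := ⟨t • a, a, RankOneBasic.t_smul_ne hS⟩
  have hco : IsCoatom (stabilizer Y a) := IsPreprimitive.isCoatom_stabilizer_of_isPreprimitive Y a
  have h2 : M = stabilizer Y a := by
    rcases hco.le_iff.1 h1 with h | h
    · exact absurd h hne
    · exact h
  rw [h2, MulAction.index_stabilizer_of_transitive, RankOneBasic.card_points hS]

/-- an overgroup of the normaliser of a 2-group of rank 2, of index the degree -/
theorem exists_overgroup {L Ω : Type*} [Group L] [Finite L] [Fintype Ω] [MulAction L Ω]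
    [IsPretransitive L Ω] (hodd : Odd (Fintype.card Ω)) (h2 : 2 ≤ Fintype.card Ω)
    (hf : FourFix L Ω)
    {Y : Type*} [Group Y] (e : L ≃* Y) {Q : Subgroup Y} (hQ : IsPGroup 2 Q) (hfour : Four Q) :
    ∃ M : Subgroup Y, normalizer (Q : Set Y) ≤ M ∧ M ≠ ⊤ ∧ M.index = Fintype.card Ω := by
  -- a fixed point
  have hQL : IsPGroup 2 (Q.comap e.toMonoidHom) := by
    rintro ⟨g, hg⟩
    obtain ⟨k, hk⟩ := hQ ⟨e g, hg⟩
    refine ⟨k, ?_⟩
    apply Subtype.ext
    apply e.injective
    have h9 : (e g) ^ 2 ^ k = 1 := congrArg Subtype.val hk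
    rw [← map_pow] at h9
    show e (g ^ 2 ^ k) = e 1
    rw [h9, map_one]
  obtain ⟨b, hb⟩ := exists_fixed hodd hQL
  have hfourL : Four (Q.comap e.toMonoidHom) := by
    obtain ⟨x, hx, y, hy, hx1, hy1, hxy, hx2, hy2, hc⟩ := hfour
    refine ⟨e.symm x, ?_, e.symm y, ?_, ?_, ?_, ?_, ?_, ?_, ?_⟩
    · show e (e.symm x) ∈ Q
      rwa [e.apply_symm_apply]
    · show e (e.symm y) ∈ Q
      rwa [e.apply_symm_apply]
    · intro h; exact hx1 (by simpa using h)
    · intro h; exact hy1 (by simpa using h)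
    · intro h; exact hxy (e.symm.injective h)
    · rw [← map_mul, hx2, map_one]
    · rw [← map_mul, hy2, map_one]
    · rw [← map_mul, hc, map_mul]
  have hN := normalizer_le_stabilizer hf hfourL hb
  refine ⟨(stabilizer L b).map e.toMonoidHom, ?_, ?_, ?_⟩
  · intro g hg
    refine ⟨e.symm g, hN ?_, by simp⟩
    rw [Subgroup.mem_normalizer_iff] at hg ⊢
    intro x
    have := hg (e x)
    show e x ∈ Q ↔ e (e.symm g * x * (e.symm g)⁻¹) ∈ Q
    rw [map_mul, map_mul, map_inv, e.apply_symm_apply]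
    exact this
  · intro h
    apply stabilizer_ne_top (L := L) h2 b
    rw [eq_top_iff]
    intro x _
    have h3 : e x ∈ (stabilizer L b).map e.toMonoidHom := by rw [h]; trivial
    obtain ⟨y, hy, hyx⟩ := h3
    rwa [← e.injective hyx]
  · have h4 : ((stabilizer L b).map e.toMonoidHom).index = (stabilizer L b).index :=
      Subgroup.index_map_equiv (stabilizer L b) e
    rw [h4, MulAction.index_stabilizer_of_transitive, Nat.card_eq_fintype_card]

theorem card_of_setup {L Ω : Type*} [Group L] [Finite L] [Fintype Ω] [MulAction L Ω]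
    [IsPretransitive L Ω] (hodd : Odd (Fintype.card Ω)) (h2 : 2 ≤ Fintype.card Ω)
    (hf : FourFix L Ω) (hr : ¬ PRankLE 2 1 L)
    {Y Ω' : Type*} [Group Y] [MulAction Y Ω'] (e : L ≃* Y) {a : Ω'} {t : Y}
    {Q : Subgroup Y} (hS : IsRankOneSetup Y Ω' a t Q) (hQ : IsPGroup 2 Q) :
    Fintype.card Ω = Nat.card Q + 1 := by
  have : Finite Y := Finite.of_equiv L e.toEquiv
  have : Fact (Nat.Prime 2) := ⟨Nat.prime_two⟩
  have hrY : ¬ PRankLE 2 1 Y := fun h => hr ((Cfsg.Agent.CpQuot.Congr.prankLE_iff e 2 1).2 h)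
  -- `Q` is a Sylow subgroup
  have hidx : ¬ 2 ∣ Q.index := by
    have : MulAction.IsPretransitive Y Ω' := ⟨RankOneBasic.exists_smul_eq' hS⟩
    have : Finite Ω' := RankOneBasic.finite_points hS
    have hle : Q ≤ stabilizer Y a := hS.le
    have h1 : Q.relIndex (stabilizer Y a) * (stabilizer Y a).index = Q.index :=
      Subgroup.relIndex_mul_index hle
    have h3 : (stabilizer Y a).index = Nat.card Ω' := MulAction.index_stabilizer_of_transitive Y a
    have h4 := RankOneBasic.odd_card_points hS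
    have h5 : Q.relIndex (stabilizer Y a) ∣ Nat.card ↥(stabilizer Y a ⊓ stabilizer Y (t • a)) := by
      set D := stabilizer Y a ⊓ stabilizer Y (t • a) with hD
      have hDle : D ≤ stabilizer Y a := inf_le_left
      have hnorm : (Q.subgroupOf (stabilizer Y a)).Normal :=
        ⟨fun n hn g => hS.conj_mem g g.2 n hn⟩
      have h6 : D.subgroupOf (stabilizer Y a) ⊔ Q.subgroupOf (stabilizer Y a) = ⊤ := by
        rw [← Subgroup.subgroupOf_sup hDle hle, sup_comm, hS.sup_eq, Subgroup.subgroupOf_self]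
      have h7 := Subgroup.relIndex_sup_right (D.subgroupOf (stabilizer Y a))
        (Q.subgroupOf (stabilizer Y a))
      rw [h6, Subgroup.relIndex_top_right] at h7
      have h8 : (Q.subgroupOf (stabilizer Y a)).index = Q.relIndex (stabilizer Y a) := rfl
      rw [← h8, h7]
      refine (Subgroup.relIndex_dvd_card _ _).trans ?_
      exact (Nat.card_congr (Subgroup.subgroupOfEquivOfLe hDle).toEquiv).dvd
    intro h
    rw [← h1] at h
    rcases (Nat.Prime.dvd_mul Nat.prime_two).1 h with h | h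
    · exact (Nat.not_even_iff_odd.2 hS.odd_card) (even_iff_two_dvd.2 (h.trans h5))
    · rw [h3] at h
      exact (Nat.not_even_iff_odd.2 h4) (even_iff_two_dvd.2 h)
  have hfour : Four Q := four_of_sylow hrY (hQ.toSylow hidx)
  obtain ⟨M, hNM, hMne, hM⟩ := exists_overgroup hodd h2 hf e hQ hfour
  rw [← index_of_setup hS hNM hMne, hM]

section families

variable {L Ω : Type*} [Group L] [Finite L] [Fintype Ω] [MulAction L Ω]
    [IsPretransitive L Ω] (hodd : Odd (Fintype.card Ω)) (h2 : 2 ≤ Fintype.card Ω)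
    (hf : FourFix L Ω) (hr : ¬ PRankLE 2 1 L)

include hodd h2 hf hr

theorem psl {F : Type} [Field F] [Fintype F] [CharP F 2]
    (e : L ≃* Matrix.ProjectiveSpecialLinearGroup (Fin 2) F) :
    Fintype.card Ω = Fintype.card F + 1 := by
  obtain ⟨e2⟩ := Cfsg.Agent.UGT.End.PSLTwoFacts.exists_equiv (F := F)
  have hF := Cfsg.Agent.UGT.End.PSLTwoFacts.facts (F := F)
  rw [card_of_setup hodd h2 hf hr (e.trans e2) hF.base ?_, Cfsg.Agent.UGT.End.PSLTwoFacts.card_uni,
    Nat.card_eq_fintype_card]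
  rintro ⟨x, hx⟩
  refine ⟨2, ?_⟩
  apply Subtype.ext
  have := hF.sq x hx
  show x ^ 2 ^ 2 = 1
  rw [← this, show (2 : ℕ) ^ 2 = 4 from rfl, pow_succ, pow_succ, pow_succ, pow_one, mul_assoc (x * x)]

theorem sz {F : Type} [Field F] [Fintype F] {m : ℕ}
    (hF : Fintype.card F = 2 ^ (2 * m + 1)) (e : L ≃* ↥(Cfsg.Lie.Sz F (2 ^ (m + 1)))) :
    Fintype.card Ω = Fintype.card F ^ 2 + 1 := by
  have H := Cfsg.Agent.LieRecognition.SzMatrix.good hF
  have hcF : Nat.card F = 2 ^ (2 * m + 1) := by rw [Nat.card_eq_fintype_card, hF]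
  have hcu : Nat.card H.unip = (2 ^ (2 * m + 1)) ^ 2 := by rw [H.card_unip, hcF]
  rw [card_of_setup hodd h2 hf hr e (Cfsg.Agent.SuzukiRankOne.SzModel.setup H) ?_, hcu, hF]
  apply IsPGroup.of_card (n := (2 * m + 1) * 2)
  rw [hcu, ← pow_mul]

theorem psu {F : Type} [Field F] [Fintype F] {n : ℕ} (hn : 1 ≤ n)
    (hF : Fintype.card F = (2 ^ n) ^ 2) (e : L ≃* Cfsg.PSU 3 F (2 ^ n)) :
    Fintype.card Ω = (2 ^ n) ^ 3 + 1 := by
  have : Fact (Nat.Prime 2) := ⟨Nat.prime_two⟩
  have hF0 : Nat.card F = (2 ^ n) ^ 2 := by rw [Nat.card_eq_fintype_card, hF]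
  have hF' : Fintype.card F = 2 ^ (n * 2) := by rw [hF, pow_mul]
  have hch : CharP F 2 := charP_of_card_eq_prime_pow hF'
  have hσ : Fact (∀ x, iterateFrobenius F 2 n (iterateFrobenius F 2 n x) = x) := by
    refine ⟨fun x => ?_⟩
    rw [iterateFrobenius_def, iterateFrobenius_def, ← pow_mul, ← pow_two, ← hF,
      FiniteField.pow_card]
  have hq : 1 < 2 ^ n := Nat.one_lt_two_pow (by omega)
  obtain ⟨H, S, w, ψ, hfaith, hsetup, -, -⟩ :=
    Cfsg.Agent.SuzukiRankOne.PSUModel.exists_model (σ := iterateFrobenius F 2 n) hn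
      (fun x => iterateFrobenius_def 2 n x) hF0
  have hcard : Nat.card S = (2 ^ n) ^ 3 := by
    rw [← Nat.card_congr ψ.toEquiv]
    exact HermHeis.card_heis hq (fun x => iterateFrobenius_def 2 n x) hF0
  rw [card_of_setup hodd h2 hf hr e hsetup ?_, hcard]
  exact IsPGroup.of_card (n := n * 3) (by rw [hcard, ← pow_mul])

end families

end Cfsg.Agent.H290.TwoTrBender
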