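import Cfsg.Agent.H290.TwoTrBender
import Cfsg.Agent.Lib.ModFour

/-!
# No simple group of order 168 acts on 7 points so that no four-subgroup fixes two points
-/

set_option autoImplicit false

namespace Cfsg.Agent.H290.TwoTrSeven

open Subgroup MulAction Cfsg Cfsg.Agent.TwoGenCore Cfsg.Agent.H290.TwoTr
open Cfsg.Agent.H290.TwoTrBender

/-- a permutation of order 4 of 7 points fixing two points is odd -/
theorem sign_eq {Ω : Type*} [Fintype Ω] [DecidableEq Ω] (h7 : Fintype.card Ω = 7)
    (σ : Equiv.Perm Ω) (h4 : orderOf σ = 4) {a b : Ω} (hab : a ≠ b) (ha : σ a = a) (hb : σ b = b) :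
    Equiv.Perm.sign σ = -1 := by
  have h1 : σ.support.card ≤ 5 := by
    have h2 : σ.support ⊆ (Finset.univ.erase a).erase b := by
      intro x hx
      rw [Equiv.Perm.mem_support] at hx
      refine Finset.mem_erase.2 ⟨?_, Finset.mem_erase.2 ⟨?_, Finset.mem_univ _⟩⟩
      · rintro rfl; exact hx hb
      · rintro rfl; exact hx ha
    have h3 := Finset.card_le_card h2
    rw [Finset.card_erase_of_mem (Finset.mem_erase.2 ⟨hab.symm, Finset.mem_univ _⟩),
      Finset.card_erase_of_mem (Finset.mem_univ _), Finset.card_univ, h7] at h3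
    exact h3
  have h2 : σ.cycleType.sum ≤ 5 := by rw [Equiv.Perm.sum_cycleType]; exact h1
  have h3 : σ.cycleType.lcm = 4 := by rw [Equiv.Perm.lcm_cycleType, h4]
  -- a part equal to 4
  have h5 : 4 ∈ σ.cycleType := by
    by_contra hn
    have h6 : ∀ k ∈ σ.cycleType, k ∣ 2 := by
      intro k hk
      have h7 : k ∣ 4 := h3 ▸ Multiset.dvd_lcm hk
      have h8 : k ≠ 4 := fun h => hn (h ▸ hk)
      have h9 : k ≤ 4 := Nat.le_of_dvd (by norm_num) h7
      interval_cases k <;> first | omega | norm_num
    have h7 := Multiset.lcm_dvd.2 h6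
    rw [h3] at h7
    revert h7
    decide
  obtain ⟨s, hs⟩ := Multiset.exists_cons_of_mem h5
  have h6 : s = 0 := by
    rw [hs, Multiset.sum_cons] at h2
    by_contra hne
    obtain ⟨k, hk⟩ := Multiset.exists_mem_of_ne_zero hne
    have h7 : 2 ≤ k := Equiv.Perm.two_le_of_mem_cycleType (σ := σ) (by rw [hs]; exact Multiset.mem_cons_of_mem hk)
    have h8 : k ≤ s.sum := Multiset.le_sum_of_mem hk
    omega
  rw [Equiv.Perm.sign_of_cycleType, hs, h6]
  decide

theorem not_seven {L Ω : Type*} [Group L] [Finite L] [IsSimpleGroup L] (hna : ¬ IsMulCommutative L)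
    [Fintype Ω] [MulAction L Ω] [FaithfulSMul L Ω] [IsPretransitive L Ω]
    (h7 : Fintype.card Ω = 7) (hf : FourFix L Ω) (hr : ¬ PRankLE 2 1 L) (a : Ω)
    (h24 : Nat.card (stabilizer L a) = 24) : False := by
  classical
  have : Fact (Nat.Prime 2) := ⟨Nat.prime_two⟩
  let P : Sylow 2 (stabilizer L a) := default
  have hP : Nat.card P = 8 := by
    rw [Sylow.card_eq_multiplicity, h24]
    have : (24 : ℕ).factorization 2 = 3 := by
      rw [show (24 : ℕ) = 2 ^ 3 * 3 by norm_num, Nat.factorization_mul (by norm_num) (by norm_num),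
        Finsupp.add_apply, Nat.Prime.factorization_pow Nat.prime_two, Finsupp.single_eq_same,
        Nat.factorization_eq_zero_of_not_dvd (by norm_num : ¬ 2 ∣ 3)]
    rw [this]
    norm_num
  set Q : Subgroup L := (P : Subgroup (stabilizer L a)).map (stabilizer L a).subtype with hQ
  have hQ8 : Nat.card Q = 8 := by
    rw [← hP]
    exact (Nat.card_congr ((P : Subgroup (stabilizer L a)).equivMapOfInjective _
      (stabilizer L a).subtype_injective).toEquiv).symm
  have hQa : Q ≤ stabilizer L a := by
    rw [hQ]; exact Subgroup.map_subtype_le _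
  have hQ2 : IsPGroup 2 Q := IsPGroup.of_card (n := 3) (by rw [hQ8]; norm_num)
  have hidxa : (stabilizer L a).index = 7 := by
    rw [MulAction.index_stabilizer_of_transitive, Nat.card_eq_fintype_card, h7]
  have hcard : Nat.card L = 168 := by
    rw [← Subgroup.card_mul_index (stabilizer L a), h24, hidxa]
  have hQi : Q.index = 21 := by
    have := Subgroup.card_mul_index Q
    rw [hQ8, hcard] at this
    omega
  have hfour : Four Q := four_of_sylow hr (hQ2.toSylow (by rw [hQi]; norm_num))
  -- an orbit of length 2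
  obtain ⟨b, hab, hb⟩ : ∃ b : Ω, a ≠ b ∧ (stabilizer Q b).index ≤ 2 := by
    by_contra hcon
    push Not at hcon
    let X : SubMulAction Q Ω := ⟨{x | x ≠ a}, by
      intro g x hx h
      apply hx
      have h1 : g • x = g • a := h.trans (hQa g.2).symm
      exact smul_left_cancel g h1⟩
    have h1 : 4 ∣ Nat.card X := by
      apply Cfsg.Agent.Lib.ModFour.four_dvd_card hQ2
      intro x
      rw [SubMulAction.stabilizer_of_subMul]
      exact hcon x.1 (Ne.symm x.2)
    have h2 : Nat.card X = 6 := by
      have h3 : Nat.card X = Fintype.card {x : Ω // x ≠ a} := by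
        rw [← Nat.card_eq_fintype_card]
        exact Nat.card_congr (Equiv.refl _)
      rw [h3, Fintype.card_subtype_compl, h7]
      simp
    rw [h2] at h1
    revert h1; decide
  -- the stabiliser `R`
  set R : Subgroup L := (stabilizer Q b).map Q.subtype with hR
  have hRQ : R ≤ Q := Subgroup.map_subtype_le _
  have hRb : ∀ g ∈ R, g • b = b := by
    rintro _ ⟨g, hg, rfl⟩
    exact hg
  have hRa : ∀ g ∈ R, g • a = a := fun g hg => hQa (hRQ hg)
  have hRcard : 4 ≤ Nat.card R := by
    have h1 : Nat.card R = Nat.card (stabilizer Q b) :=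
      (Nat.card_congr ((stabilizer Q b).equivMapOfInjective _ Q.subtype_injective).toEquiv).symm
    have h2 := Subgroup.card_mul_index (stabilizer Q b)
    rw [hQ8] at h2
    rw [h1]
    by_contra hc
    push Not at hc
    nlinarith
  have hRfour : ¬ Four R := by
    rintro ⟨x, hx, y, hy, hx1, hy1, hxy, hx2, hy2, hc⟩
    exact hf a b hab x y hx1 hy1 hxy hx2 hy2 hc (hRa x hx) (hRb x hx) (hRa y hy) (hRb y hy)
  -- an element of order 4
  have hord : ∃ t ∈ R, orderOf t = 4 := by
    by_contra hcon
    push Not at hcon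
    have hsq : ∀ t ∈ R, t * t = 1 := by
      intro t ht
      obtain ⟨k, hk⟩ := (Nat.dvd_prime_pow Nat.prime_two).1
        ((Subgroup.orderOf_dvd_natCard Q (hRQ ht)).trans (by rw [hQ8]; norm_num : Nat.card Q ∣ 2 ^ 3))
      obtain ⟨hk3, hk⟩ := hk
      interval_cases k
      · rw [pow_zero, orderOf_eq_one_iff] at hk
        rw [hk, one_mul]
      · have := pow_orderOf_eq_one t
        rwa [hk, pow_one, sq] at this
      · exact absurd hk (hcon t ht)
      · exfalso
        apply hcon (t ^ 2) (pow_mem ht 2)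
        rw [orderOf_pow, hk]
        decide
    have hle : PRankLE 2 1 R := by
      by_contra h
      exact hRfour (not_pRankLE_one_iff.1 h)
    have h1 := hle ⊤ ?_ ?_
    · rw [Subgroup.card_top] at h1
      omega
    · refine ⟨⟨?_⟩⟩
      rintro ⟨⟨x, hx⟩, -⟩ ⟨⟨y, hy⟩, -⟩
      apply Subtype.ext
      apply Subtype.ext
      show x * y = y * x
      have e1 := hsq _ hx
      have e2 := hsq _ hy
      have e3 := hsq _ (mul_mem hx hy)
      calc x * y = x * (x * y * (x * y)) * y := by rw [e3, mul_one]
        _ = (x * x) * (y * x) * (y * y) := by group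
        _ = y * x := by rw [e1, e2, one_mul, mul_one]
    · rintro ⟨x, hx⟩ -
      apply Subtype.ext
      show x ^ 2 = 1
      rw [sq, hsq x hx]
  obtain ⟨t, htR, ht4⟩ := hord
  -- the sign
  have hsign : ∀ g : L, Equiv.Perm.sign (MulAction.toPermHom L Ω g) = 1 := by
    let φ : L →* ℤˣ := (Equiv.Perm.sign).comp (MulAction.toPermHom L Ω)
    rcases IsSimpleGroup.eq_bot_or_eq_top_of_normal φ.ker inferInstance with h | h
    · exfalso
      apply hna
      have hinj : Function.Injective φ := (MonoidHom.ker_eq_bot_iff φ).1 h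
      refine ⟨⟨fun x y => hinj ?_⟩⟩
      rw [map_mul, map_mul, mul_comm]
    · intro g
      have : g ∈ φ.ker := by rw [h]; trivial
      exact this
  have h1 := sign_eq h7 (MulAction.toPermHom L Ω t) ?_ hab (hRa t htR) (hRb t htR)
  · rw [hsign t] at h1
    exact absurd h1 (by decide)
  · rw [orderOf_injective _ MulAction.toPerm_injective, ht4]

end Cfsg.Agent.H290.TwoTrSeven
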