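import Cfsg.Agent.H290.TwoTrPSL
import Cfsg.Agent.H290.TwoTrSeven
import Cfsg.Agent.SignalizersComponents.BalMain
import Cfsg.Agent.SignalizersComponents.IntrinsicDiag
import Cfsg.Agent.S0205
import Cfsg.Agent.S0252
import Cfsg.Agent.S0253
import Cfsg.Agent.S1728

/-!
# The simple normal subgroup and the degree
-/

set_option autoImplicit false

namespace Cfsg.Agent.H290.TwoTrDegree

open Subgroup MulAction Cfsg Cfsg.Agent.TwoGenCore Cfsg.Agent.H290.TwoTr
open Cfsg.Agent.H290.TwoTrBender

theorem center_eq_bot {L : Type*} [Group L] [IsSimpleGroup L] (hna : ¬ IsMulCommutative L) :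
    center L = ⊥ := by
  rcases IsSimpleGroup.eq_bot_or_eq_top_of_normal (center L) inferInstance with h | h
  · exact h
  · exfalso
    apply hna
    refine ⟨⟨fun x y => ?_⟩⟩
    have : y ∈ center L := by rw [h]; trivial
    exact Subgroup.mem_center_iff.1 this x

theorem not_pRankLE_one {L : Type*} [Group L] [Finite L] [IsSimpleGroup L]
    (hna : ¬ IsMulCommutative L) : ¬ PRankLE 2 1 L := by
  apply Cfsg.Agent.SignalizersComponents.BalMain.not_pRankLE_one
    (Cfsg.Agent.SignalizersComponents.IntrinsicDiag.quasisimple_of_simple inferInstance hna)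
    (center_eq_bot hna)
  by_contra h
  rw [Nat.not_even_iff_odd] at h
  have hs := Cfsg.Agent.S0205.result h
  apply hna
  have := IsSimpleGroup.comm_iff_isSolvable.2 hs
  exact ⟨⟨this⟩⟩

theorem degree {L Ω : Type*} [Group L] [Finite L] [IsSimpleGroup L] (hna : ¬ IsMulCommutative L)
    [Fintype Ω] [MulAction L Ω] [FaithfulSMul L Ω] [IsPretransitive L Ω]
    (hodd : Odd (Fintype.card Ω)) (h2 : 2 ≤ Fintype.card Ω) (hf : FourFix L Ω)
    (hdiv : Fintype.card Ω * (Fintype.card Ω - 1) ∣ Nat.card (MulAut L)) :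
    (∃ (F : Type) (_ : Field F) (_ : Fintype F), ringChar F = 2 ∧ Fintype.card Ω = Fintype.card F + 1 ∧
        Nonempty (L ≃* Matrix.ProjectiveSpecialLinearGroup (Fin 2) F)) ∨
      (∃ (F : Type) (_ : Field F) (_ : Fintype F) (m : ℕ), 1 ≤ m ∧ Fintype.card F = 2 ^ (2 * m + 1) ∧
        Fintype.card Ω = Fintype.card F ^ 2 + 1 ∧ Nonempty (L ≃* ↥(Cfsg.Lie.Sz F (2 ^ (m + 1))))) ∨
      (∃ (F : Type) (_ : Field F) (_ : Fintype F) (q : ℕ), Even q ∧ Fintype.card F = q ^ 2 ∧
        Fintype.card Ω = q ^ 3 + 1 ∧ Nonempty (L ≃* Cfsg.PSU 3 F q)) ∨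
      (Fintype.card Ω = 11 ∧ ((∃ (F : Type) (_ : Field F) (_ : Fintype F), Fintype.card F = 11 ∧
          Nonempty (L ≃* Matrix.ProjectiveSpecialLinearGroup (Fin 2) F)) ∨ Cfsg.Spor.IsoM11 L)) := by
  have hr := not_pRankLE_one hna
  have hn3 : 3 ≤ Fintype.card Ω := by
    obtain ⟨u, hu⟩ := hodd
    omega
  have hS := Cfsg.Agent.S1728.result hna (hasProperTwoGeneratedCore hodd h2 hf hr)
  rcases hS with ⟨F, _, _, h3, ⟨e⟩⟩ | ⟨F, _, _, m, hm, hF, ⟨e⟩⟩ | ⟨F, _, _, n, hn, hF, ⟨e⟩⟩ | hM | hJ
  · rcases Nat.even_or_odd (Fintype.card F) with hev | hod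
    · -- characteristic 2
      left
      have hchar : CharP F 2 := by
        obtain ⟨p, hc, k, hp, hk⟩ := FiniteField.card' F
        rw [hk] at hev
        have : p = 2 := by
          have h4 := (Nat.even_pow.1 hev).1
          exact (Nat.Prime.even_iff hp).1 h4
        rwa [this] at hc
      exact ⟨F, inferInstance, inferInstance, ringChar.eq_iff.2 hchar, psl hodd h2 hf hr e, ⟨e⟩⟩
    · by_cases hF3 : Fintype.card F = 3
      · exfalso
        -- order 12
        have h4 := Cfsg.Agent.ClassicalGeometry.PSL2Basic.card_PSL2_odd (F := F) hod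
        rw [hF3] at h4
        have h5 : Nat.card L = 12 := by
          rw [Nat.card_congr e.toEquiv]; omega
        obtain ⟨a⟩ : Nonempty Ω := Fintype.card_pos_iff.1 (by omega)
        have h6 := Subgroup.card_mul_index (stabilizer L a)
        rw [MulAction.index_stabilizer_of_transitive, Nat.card_eq_fintype_card (α := Ω), h5] at h6
        have h7 : Fintype.card Ω ∣ 12 := ⟨_, by rw [← h6, mul_comm]⟩
        have h8 : Fintype.card Ω ≤ 12 := Nat.le_of_dvd (by norm_num) h7
        have h9 : Nat.card L ∣ (Fintype.card Ω).factorial := TwoTrSpor.card_dvd_factorial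
        rw [h5] at h9
        revert h7 h8 h9 hodd hn3
        generalize Fintype.card Ω = c
        intro hodd hn3 h7 h8 h9
        interval_cases c <;> revert h7 h9 hodd <;> decide
      · have h5 : 5 ≤ Fintype.card F := by
          obtain ⟨u, hu⟩ := hod
          omega
        obtain ⟨a⟩ : Nonempty Ω := Fintype.card_pos_iff.1 (by omega)
        have h6 : ((stabilizer L a).map e.toMonoidHom).index = Fintype.card Ω := by
          rw [← Nat.card_eq_fintype_card, ← MulAction.index_stabilizer_of_transitive L a]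
          exact Subgroup.index_map_equiv (stabilizer L a) e
        have h7 : Nat.card (MulAut L) =
            Nat.card (MulAut (Matrix.ProjectiveSpecialLinearGroup (Fin 2) F)) :=
          Nat.card_congr (MulAut.congr e).toEquiv
        have h8 := TwoTrPSL.main hod hodd hn3 h5 _ h6 (h7 ▸ hdiv)
        rcases h8 with ⟨h9, h10⟩ | ⟨h9, h10, h11⟩ | ⟨h9, h10⟩
        · left
          obtain ⟨e5⟩ := Cfsg.Agent.S0253.result h9
          let _ : Fintype (GaloisField 2 2) := Fintype.ofFinite _
          have hK : Fintype.card (GaloisField 2 2) = 4 := by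
            rw [← Nat.card_eq_fintype_card, GaloisField.card 2 2 (by norm_num)]
            norm_num
          obtain ⟨e4⟩ := Cfsg.Agent.S0252.result (F := GaloisField 2 2) hK
          refine ⟨GaloisField 2 2, inferInstance, inferInstance, ringChar.eq_iff.2 inferInstance, ?_,
            ⟨e.trans (e5.trans e4.symm)⟩⟩
          rw [hK, h10]
        · exfalso
          refine TwoTrSeven.not_seven hna h10 hf hr a ?_
          rw [← h11]
          exact Nat.card_congr ((stabilizer L a).equivMapOfInjective _ e.injective).toEquiv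
        · right; right; right
          exact ⟨h10, Or.inl ⟨F, inferInstance, inferInstance, h9, ⟨e⟩⟩⟩
  · right; left
    exact ⟨F, inferInstance, inferInstance, m, hm, hF, sz hodd h2 hf hr hF e, ⟨e⟩⟩
  · right; right; left
    exact ⟨F, inferInstance, inferInstance, 2 ^ n, (Nat.even_pow' (by omega)).2 even_two, hF,
      psu hodd h2 hf hr hn hF e, ⟨e⟩⟩
  · right; right; right
    exact ⟨TwoTrSpor.mEleven hodd h2 hM hdiv, Or.inr hM⟩
  · exact (TwoTrSpor.jOne hodd h2 hf hJ hdiv).elim

end Cfsg.Agent.H290.TwoTrDegree
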