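import Cfsg.Agent.H290.TwoTrSpor
import Cfsg.Agent.H290.TwoTrNum
import Cfsg.Agent.S0799
import Cfsg.Agent.ClassicalGeometry.AutPSL.Main
import Cfsg.Agent.ClassicalGeometry.PSL2Solvable

/-!
# The degree of an action of `PSL(2, q)`, `q` odd, contained in a doubly transitive group
-/

set_option autoImplicit false

namespace Cfsg.Agent.H290.TwoTrPSL

open Subgroup MulAction Cfsg Cfsg.Agent.H290.TwoTr
open Cfsg.Agent.ClassicalGeometry Cfsg.Agent.ClassicalGeometry.PSL2Basic
  Cfsg.Agent.ClassicalGeometry.PSL2Solvable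

/-- The order of the automorphism group of a field of order `p ^ n` is at most `n`. -/
theorem card_ringEquiv_le {F : Type*} [Field F] [Finite F] {p n : ℕ} (hp1 : p.Prime)
    (hn : Nat.card F = p ^ n) : Nat.card (F ≃+* F) ≤ n := by
  have hp : Fact p.Prime := ⟨hp1⟩
  let _ := Fintype.ofFinite F
  have hn' := hn
  rw [Nat.card_eq_fintype_card] at hn
  have hchar : CharP F p := by
    obtain ⟨p', hpc⟩ := CharP.exists F
    obtain ⟨k, hp', hk⟩ := FiniteField.card F p'
    have h1 : p' ∣ p ^ n := by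
      rw [← hn, hk]; exact dvd_pow_self _ k.ne_zero
    have h3 := hp'.dvd_of_dvd_pow h1
    rw [← (Nat.prime_dvd_prime_iff_eq hp' hp1).1 h3]
    exact hpc
  let _ : Algebra (ZMod p) F := ZMod.algebra F p
  have hcomm : ∀ (ρ : F ≃+* F) (r : ZMod p), ρ (algebraMap (ZMod p) F r) = algebraMap (ZMod p) F r := by
    intro ρ r
    obtain ⟨n, rfl⟩ := ZMod.natCast_zmod_surjective r
    rw [map_natCast, map_natCast]
  let f : (F ≃+* F) → (F ≃ₐ[ZMod p] F) := fun ρ => AlgEquiv.ofRingEquiv (f := ρ) (hcomm ρ)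
  have hf : Function.Injective f := by
    intro a b hab
    ext x
    exact DFunLike.congr_fun hab x
  have h1 := Nat.card_le_card_of_injective f hf
  have h3 := Nat.card_congr (Equiv.ofBijective _ (FiniteField.bijective_frobeniusAlgEquivOfAlgebraic_pow (ZMod p) F))
  rw [Nat.card_fin] at h3
  have h5 : Module.finrank (ZMod p) F = n := by
    have h6 := Module.card_eq_pow_finrank (K := ZMod p) (V := F)
    rw [ZMod.card, hn] at h6
    exact (Nat.pow_right_injective hp1.two_le h6).symm
  rw [← h3, h5] at h1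
  exact h1

section

variable {F : Type*} [Field F] [Fintype F]

/-- the index of the Borel subgroup of `SL(2, q)` is `q + 1` -/
theorem index_borel : (borel F).index = Fintype.card F + 1 := by
  have h1 : Nat.card (borel F) = Nat.card (Fˣ × F) := by
    apply Nat.card_congr
    refine
      { toFun := fun c => (⟨c.1 0 0, c.1 1 1, ?_, ?_⟩, c.1 0 1)
        invFun := fun x => ⟨⟨!![(x.1 : F), x.2; 0, ((x.1⁻¹ : Fˣ) : F)], by
          simp [Matrix.det_fin_two]⟩, mem_borel_iff.2 rfl⟩
        left_inv := ?_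
        right_inv := ?_ }
    · have h := c.1.2
      rw [Matrix.det_fin_two] at h
      have h0 : c.1 1 0 = 0 := mem_borel_iff.1 c.2
      have h0' : (c.1.1) 1 0 = 0 := h0
      rw [h0', mul_zero, sub_zero] at h
      exact h
    · have h := c.1.2
      rw [Matrix.det_fin_two] at h
      have h0 : c.1 1 0 = 0 := mem_borel_iff.1 c.2
      have h0' : (c.1.1) 1 0 = 0 := h0
      rw [h0', mul_zero, sub_zero, mul_comm] at h
      exact h
    · intro c
      apply Subtype.ext
      apply Subtype.ext
      have h0 : c.1 1 0 = 0 := mem_borel_iff.1 c.2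
      ext i j
      fin_cases i <;> fin_cases j
      · rfl
      · rfl
      · exact h0.symm
      · rfl
    · rintro ⟨x, y⟩
      refine Prod.ext (Units.ext ?_) ?_
      · rfl
      · rfl
  have h2 := Subgroup.card_mul_index (borel F)
  rw [h1, Nat.card_prod, Nat.card_units, Nat.card_eq_fintype_card] at h2
  have h3 : Nat.card (Matrix.SpecialLinearGroup (Fin 2) F) = Fintype.card F * (Fintype.card F ^ 2 - 1) :=
    card_SL2 F
  rw [h3] at h2
  have hq : 1 < Fintype.card F := Fintype.one_lt_card
  obtain ⟨u, hu⟩ : ∃ u, Fintype.card F = u + 1 := ⟨Fintype.card F - 1, by omega⟩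
  rw [hu] at h2 ⊢
  have h4 : (u + 1) ^ 2 - 1 = u * (u + 2) := by
    have : (u + 1) ^ 2 = u * (u + 2) + 1 := by ring
    omega
  rw [h4, Nat.add_sub_cancel] at h2
  have hu1 : 0 < u := by omega
  have hu0 : 0 < u * (u + 1) := by positivity
  have h5 : u * (u + 1) * (borel F).index = u * (u + 1) * (u + 2) := by
    rw [h2]; ring
  exact Nat.eq_of_mul_eq_mul_left hu0 h5

local notation "PSL2" => Matrix.ProjectiveSpecialLinearGroup (Fin 2) F

/-- the index of a subgroup of the normaliser of a Sylow `p`-subgroup is a multiple of `q + 1` -/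
theorem dvd_index (p : ℕ) [Fact p.Prime] [CharP F p] (P : Sylow p PSL2)
    {K : Subgroup PSL2} (hK : K ≤ normalizer ((P : Subgroup PSL2) : Set PSL2)) :
    Fintype.card F + 1 ∣ K.index := by
  obtain ⟨g, hg⟩ := exists_le_map_borel p P
  have h1 := Subgroup.index_dvd_of_le (hK.trans hg)
  have h2 : (((borel F).map (QuotientGroup.mk' (center (Matrix.SpecialLinearGroup (Fin 2) F)))).map
      (MulAut.conj g).toMonoidHom).index = Fintype.card F + 1 := by
    rw [← index_borel (F := F)]
    have h3 : ((borel F).map (QuotientGroup.mk' (center (Matrix.SpecialLinearGroup (Fin 2) F)))).index =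
        (borel F).index := by
      apply Subgroup.index_map_eq
      · exact QuotientGroup.mk'_surjective _
      · rw [QuotientGroup.ker_mk']
        intro c hc
        rw [mem_borel_iff]
        rcases mem_center_SL2_iff.1 hc with h | h
        · rw [h]; rfl
        · rw [h]
          show (-(1 : Matrix (Fin 2) (Fin 2) F)) 1 0 = 0
          simp
    rw [← h3]
    exact Subgroup.index_map_equiv _ (MulAut.conj g)
  rwa [h2] at h1

theorem main (hq : Odd (Fintype.card F)) {n : ℕ} (hn : Odd n) (hn3 : 3 ≤ n) (h5 : 5 ≤ Fintype.card F)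
    (H : Subgroup PSL2) (hH : H.index = n) (hdiv : n * (n - 1) ∣ Nat.card (MulAut PSL2)) :
    (Fintype.card F = 5 ∧ n = 5) ∨ (Fintype.card F = 7 ∧ n = 7 ∧ Nat.card H = 24) ∨
      (Fintype.card F = 11 ∧ n = 11) := by
  obtain ⟨p, hchar, k, hp, hk⟩ := FiniteField.card' F
  have hpf : Fact p.Prime := ⟨hp⟩
  obtain ⟨q, hqq⟩ : ∃ q, Fintype.card F = q := ⟨_, rfl⟩
  have hGL := card_PGL2 (F := F)
  have hAut := AutPSL.Main.card_two (F := F) p
  have hPSL := card_PSL2_odd (F := F) hq
  have hdick := Cfsg.Agent.S0799.result hqq p H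
  have hfle : Nat.card (F ≃+* F) ≤ k := card_ringEquiv_le hp (by rw [Nat.card_eq_fintype_card, hk])
  have hfpos : 1 ≤ Nat.card (F ≃+* F) := by
    have : Finite (F ≃+* F) := Finite.of_injective (fun x => (x : F → F)) (fun a b h => by
      ext x; exact congrFun h x)
    exact Nat.card_pos
  have hidx := Subgroup.card_mul_index H
  rw [hH] at hidx
  rw [hAut, hGL, hqq] at hdiv
  rw [hqq] at hPSL hq h5 hk ⊢
  generalize Nat.card (F ≃+* F) = f at *
  have hf3 : 3 ^ f ≤ q := by
    have hp3 : 3 ≤ p := by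
      have h2 := hp.two_le
      rcases Nat.lt_or_ge 2 p with h | h
      · exact h
      · exfalso
        have : p = 2 := by omega
        rw [this] at hk
        rw [hk] at hq
        exact (Nat.not_odd_iff_even.2 (even_two.pow_of_ne_zero k.ne_zero)) hq
    calc 3 ^ f ≤ 3 ^ (k : ℕ) := Nat.pow_le_pow_right (by norm_num) hfle
      _ ≤ p ^ (k : ℕ) := Nat.pow_le_pow_left hp3 _
      _ = q := hk.symm
  -- `2 n h = q (q² - 1)`
  set h := Nat.card H with hh
  have hh0 : 0 < h := Nat.card_pos
  have h1 : 2 * n * h = q * (q ^ 2 - 1) := by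
    rw [← hPSL, ← hidx]; ring
  have h2 : n - 1 ∣ 2 * h * f := by
    have h3 : n * (n - 1) ∣ n * (2 * h * f) := by
      have h4 : n * (2 * h * f) = q * (q ^ 2 - 1) * f := by rw [← h1]; ring
      rw [h4]; exact hdiv
    exact (Nat.mul_dvd_mul_iff_left (by omega)).1 h3
  have hgcd : Nat.gcd 2 (q - 1) = 2 := by
    apply Nat.gcd_eq_left
    exact even_iff_two_dvd.1 (Nat.Odd.sub_odd hq odd_one)
  rw [hgcd] at hdick
  rcases hdick with ⟨k', hk', hc⟩ | ⟨P, K, hKP, ⟨e⟩⟩ | ⟨⟨e⟩⟩ | ⟨⟨e⟩⟩ | ⟨⟨e⟩⟩ | ⟨K, _, _, m, hm, hc⟩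
  · exfalso
    have hk2 : 2 * k' ≤ q + 1 := by
      rcases hk' with h3 | h3
      · have := Nat.le_of_dvd (Nat.div_pos (by omega) (by norm_num)) h3
        omega
      · have := Nat.le_of_dvd (Nat.div_pos (by omega) (by norm_num)) h3
        omega
    have hle : h ≤ q + 1 := by
      rcases hc with ⟨-, h3⟩ | ⟨⟨e⟩⟩
      · omega
      · rw [hh, Nat.card_congr e.toEquiv, DihedralGroup.nat_card]
        exact hk2
    exact TwoTrNum.numA hq h5 hf3 h1 hle h2 hfpos hn hn3
  · exfalso
    have h3 := dvd_index p P hKP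
    have h4 : K.index = H.index := by
      have h5 := Subgroup.card_mul_index K
      have h6 := Subgroup.card_mul_index H
      rw [Nat.card_congr e.toEquiv] at h6
      exact Nat.eq_of_mul_eq_mul_left Nat.card_pos (h5.trans h6.symm)
    rw [h4, hH, hqq] at h3
    have h5 : Even (q + 1) := hq.add_one
    exact (Nat.not_even_iff_odd.2 hn) (h5.trans_dvd h3)
  · have h3 : h = 12 := by
      rw [hh, Nat.card_congr e.toEquiv, Nat.card_eq_fintype_card]
      decide +kernel
    rw [h3] at h1 h2
    left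
    exact (TwoTrNum.numC hq h5 hf3 hfpos hn hn3).1 (by rw [← h1]; ring) h2
  · have h3 : h = 24 := by
      rw [hh, Nat.card_congr e.toEquiv, Nat.card_eq_fintype_card]
      decide +kernel
    rw [h3] at h1 h2
    right; left
    obtain ⟨h4, h5⟩ := (TwoTrNum.numC hq h5 hf3 hfpos hn hn3).2.1 (by rw [← h1]; ring) h2
    exact ⟨h4, h5, h3⟩
  · have h3 : h = 60 := by
      rw [hh, Nat.card_congr e.toEquiv, Nat.card_eq_fintype_card]
      decide +kernel
    rw [h3] at h1 h2
    right; right
    exact (TwoTrNum.numC hq h5 hf3 hfpos hn hn3).2.2 (by rw [← h1]; ring) h2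
  · exfalso
    obtain ⟨r, hr⟩ : ∃ r, Fintype.card K = r := ⟨_, rfl⟩
    have hm0 : m ≠ 0 := by
      rintro rfl
      rw [pow_zero] at hm
      omega
    rw [hr] at hm
    have hrodd : Odd r := by
      by_contra h3
      rw [Nat.not_odd_iff_even] at h3
      rw [← hm] at hq
      exact (Nat.not_odd_iff_even.2 (h3.pow_of_ne_zero hm0)) hq
    have hr3 : 3 ≤ r := by
      have : 1 < Fintype.card K := Fintype.one_lt_card
      rw [hr] at this
      obtain ⟨u, rfl⟩ := hrodd
      omega
    have hr2 : 0 < r ^ 2 - 1 := by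
      have : 9 ≤ r ^ 2 := by nlinarith
      omega
    rcases hc with ⟨⟨e⟩⟩ | ⟨⟨e⟩⟩
    · have h3 := card_PSL2_odd (F := K) (by rw [hr]; exact hrodd)
      rw [← Nat.card_congr e.toEquiv, ← hh, hr] at h3
      rcases Nat.lt_or_ge 1 m with hm2 | hm1
      · exact TwoTrNum.numD1 hrodd hr3 hm2 hm hf3 hfpos (by rw [← h3, ← h1]; ring)
          (by rw [← h3, mul_comm h 2]; exact h2) hn hn3
      · have : m = 1 := by omega
        rw [this, pow_one] at hm
        rw [hm, ← h1] at h3
        have h4 : h * 2 * 1 = h * 2 * n := by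
          rw [mul_one]
          calc h * 2 = 2 * n * h := h3
            _ = h * 2 * n := by ring
        have := Nat.eq_of_mul_eq_mul_left (by omega) h4
        omega
    · have h3 := card_PGL2 (F := K)
      rw [← Nat.card_congr e.toEquiv, ← hh, hr] at h3
      rcases Nat.lt_or_ge 1 m with hm2 | hm1
      · exact TwoTrNum.numD2 hr3 hm2 hm hf3 hfpos (by rw [← h3, ← h1])
          (by rw [← h3]; exact h2) hn3
      · have : m = 1 := by omega
        rw [this, pow_one] at hm
        rw [hm, ← h1] at h3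
        have h4 : h * 1 = h * (2 * n) := by
          rw [mul_one]
          calc h = 2 * n * h := h3
            _ = h * (2 * n) := by ring
        have := Nat.eq_of_mul_eq_mul_left (by omega) h4
        omega

end

end Cfsg.Agent.H290.TwoTrPSL
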