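import Cfsg.Agent.H290.TwoTrBender
import Cfsg.Agent.OddHalf.D4.Spor.J1Out
import Cfsg.Agent.UGT.End.MEleven
import Cfsg.Agent.SporadicA.M11Sylow

/-!
# The degree of an action of `M₁₁` or `J₁` in which no four-subgroup fixes two points
-/

set_option autoImplicit false

namespace Cfsg.Agent.H290.TwoTrSpor

open Subgroup MulAction Cfsg Cfsg.Agent.TwoGenCore Cfsg.Agent.H290.TwoTr
open Cfsg.Agent.H290.TwoTrBender

theorem card_dvd_factorial {L Ω : Type*} [Group L] [Finite L] [Fintype Ω] [MulAction L Ω]
    [FaithfulSMul L Ω] : Nat.card L ∣ (Fintype.card Ω).factorial := by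
  classical
  have h1 : Nat.card L ∣ Nat.card (Equiv.Perm Ω) :=
    Subgroup.card_dvd_of_injective (MulAction.toPermHom L Ω) MulAction.toPerm_injective
  rwa [Nat.card_perm, Nat.card_eq_fintype_card (α := Ω)] at h1

theorem card_mulAut_dvd {L : Type*} [Group L] (h : ∀ φ : MulAut L, ∃ g : L, φ = MulAut.conj g) :
    Nat.card (MulAut L) ∣ Nat.card L := by
  apply Subgroup.card_dvd_of_surjective (MulAut.conj : L →* MulAut L)
  intro φ
  obtain ⟨g, hg⟩ := h φ
  exact ⟨g, hg.symm⟩

theorem num_eleven {m : ℕ} (hodd : Odd m) (h2 : 2 ≤ m) (h : m * (m - 1) ∣ 7920) :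
    m < 11 ∨ m = 11 ∨ m = 45 := by
  have h1 : m * (m - 1) ≤ 7920 := Nat.le_of_dvd (by norm_num) h
  have h3 : m < 91 := by
    by_contra hc
    push Not at hc
    have : 91 * 90 ≤ m * (m - 1) := Nat.mul_le_mul hc (by omega)
    omega
  interval_cases m <;> first | omega | (exfalso; revert h; decide) | (exfalso; revert hodd; decide)

theorem not_dvd_factorial {p m : ℕ} (hp : p.Prime) (hm : m < p) {N : ℕ} (hN : p ∣ N)
    (h : N ∣ m.factorial) : False := by
  have := (hp.dvd_factorial).1 (hN.trans h)
  omega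

section

variable {L Ω : Type*} [Group L] [Finite L] [Fintype Ω] [MulAction L Ω] [FaithfulSMul L Ω]
    [IsPretransitive L Ω] (hodd : Odd (Fintype.card Ω)) (h2 : 2 ≤ Fintype.card Ω)

include hodd h2

theorem mEleven (h : Spor.IsoM11 L)
    (hdiv : Fintype.card Ω * (Fintype.card Ω - 1) ∣ Nat.card (MulAut L)) : Fintype.card Ω = 11 := by
  have hM := Cfsg.Agent.UGT.End.MEleven.isM11 h
  have hcard : Nat.card L = 7920 := hM.2
  have h1 := hdiv.trans (card_mulAut_dvd (Cfsg.Agent.UGT.End.MEleven.inner h))
  rw [hcard] at h1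
  rcases num_eleven hodd h2 h1 with h3 | h3 | h3
  · exfalso
    exact not_dvd_factorial (p := 11) (by norm_num) h3 (N := 7920) (by norm_num)
      (hcard ▸ card_dvd_factorial)
  · exact h3
  · exfalso
    obtain ⟨a⟩ : Nonempty Ω := Fintype.card_pos_iff.1 (by omega)
    have h4 : (stabilizer L a).index = 45 := by
      rw [MulAction.index_stabilizer_of_transitive, Nat.card_eq_fintype_card, h3]
    have h5 : Nat.card (stabilizer L a) = 176 := by
      have := Subgroup.card_mul_index (stabilizer L a)
      rw [h4, hcard] at this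
      omega
    have hp : Fact (Nat.Prime 11) := ⟨by norm_num⟩
    obtain ⟨x, hx⟩ := exists_prime_orderOf_dvd_card' (G := stabilizer L a) 11 (by rw [h5]; norm_num)
    let P : Sylow 11 (stabilizer L a) := default
    have hP : Nat.card P = 11 := by
      rw [Sylow.card_eq_multiplicity, h5]
      have : (176 : ℕ).factorization 11 = 1 := by
        rw [show (176 : ℕ) = 11 * 16 by norm_num, Nat.factorization_mul (by norm_num) (by norm_num),
          Finsupp.add_apply, Nat.Prime.factorization_self (by norm_num),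
          Nat.factorization_eq_zero_of_not_dvd (by norm_num : ¬ 11 ∣ 16)]
      rw [this, pow_one]
    have hidx : (P : Subgroup (stabilizer L a)).index = 16 := by
      have := Subgroup.card_mul_index (P : Subgroup (stabilizer L a))
      rw [h5] at this
      have h6 : Nat.card (P : Subgroup (stabilizer L a)) = 11 := hP
      rw [h6] at this
      omega
    have h6 : Nat.card (Sylow 11 (stabilizer L a)) ∣ 16 := hidx ▸ P.card_dvd_index
    have h7 := card_sylow_modEq_one 11 (stabilizer L a)
    have h8 : Nat.card (Sylow 11 (stabilizer L a)) = 1 := by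
      have h9 : Nat.card (Sylow 11 (stabilizer L a)) ≤ 16 := Nat.le_of_dvd (by norm_num) h6
      revert h6 h7 h9
      generalize Nat.card (Sylow 11 (stabilizer L a)) = k
      intro h6 h7 h9
      interval_cases k <;> first | rfl | (exfalso; revert h6; decide) | (exfalso; revert h7; decide)
    have hn : (P : Subgroup (stabilizer L a)).Normal := by
      have : Subsingleton (Sylow 11 (stabilizer L a)) :=
        (Nat.card_eq_one_iff_unique.1 h8).1
      exact Sylow.normal_of_subsingleton P
    -- transfer to `L`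
    have hxP : x ∈ (P : Subgroup (stabilizer L a)) := by
      have h9 : IsPGroup 11 (zpowers x) := IsPGroup.of_card (n := 1) (by rw [Nat.card_zpowers, hx, pow_one])
      obtain ⟨Q, hQ⟩ := h9.exists_le_sylow
      have : Q = P := (Nat.card_eq_one_iff_unique.1 h8).1.elim _ _
      rw [← this]
      exact hQ (mem_zpowers x)
    have hz : zpowers x = (P : Subgroup (stabilizer L a)) := by
      apply Subgroup.eq_of_le_of_card_ge
      · rw [zpowers_le]; exact hxP
      · rw [Nat.card_zpowers, hx]
        exact hP.le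
    have ho : orderOf (x : L) = 11 := by rw [Subgroup.orderOf_coe, hx]
    have h10 := (Cfsg.Agent.SporadicA.M11Sylow.data_eleven hM ho).2.1
    have h11 : stabilizer L a ≤ normalizer ((zpowers (x : L) : Subgroup L) : Set L) := by
      intro g hg
      have h12 : ∀ g ∈ stabilizer L a, ∀ y ∈ zpowers (x : L), g * y * g⁻¹ ∈ zpowers (x : L) := by
        rintro g hg _ ⟨k, rfl⟩
        have h13 : (⟨g, hg⟩ : stabilizer L a) * x ^ k * (⟨g, hg⟩)⁻¹ ∈ zpowers x := by
          rw [hz]
          exact hn.conj_mem _ (by rw [← hz]; exact ⟨k, rfl⟩) _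
        obtain ⟨l, hl⟩ := h13
        refine ⟨l, ?_⟩
        have := congrArg Subtype.val hl
        simpa using this
      rw [Subgroup.mem_normalizer_iff]
      intro y
      constructor
      · exact h12 g hg y
      · intro hy
        have := h12 g⁻¹ (inv_mem hg) _ hy
        simpa [mul_assoc] using this
    have h12 := Subgroup.card_dvd_of_le h11
    rw [h5, h10] at h12
    revert h12
    decide

open Cfsg.Agent.OddHalf.D4.Spor Cfsg.Agent.OddHalf.D4.Spor.J1Out Cfsg.Agent.SporadicB.J1.Mat
  Cfsg.Agent.SporadicB.J1.Main Cfsg.Agent.SporadicB.J1.Data Cfsg.Agent.SporadicB.KTab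
  Cfsg.Agent.SignalizersComponents.BalEndJ1 in
theorem jOne (hf : FourFix L Ω) (h : Spor.IsoJ1 L)
    (hdiv : Fintype.card Ω * (Fintype.card Ω - 1) ∣ Nat.card (MulAut L)) : False := by
  obtain ⟨e⟩ := h
  have hcJ : Nat.card Spor.J1 = 175560 := Cfsg.Agent.SignalizersComponents.BalEndJ1.card_J1
  have hcard : Nat.card L = 175560 := by rw [Nat.card_congr e.toEquiv, hcJ]
  have h1 : Nat.card (MulAut L) ∣ 175560 := by
    rw [← hcJ, Nat.card_congr (MulAut.congr e).toEquiv]
    exact card_mulAut_dvd J1Out.inn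
  have hE2 : IsPGroup 2 EE := IsPGroup.of_card (n := 3) (by rw [card_EE]; norm_num)
  have hE4 : Four EE := by
    refine ⟨f 1, ⟨1, rfl⟩, f 2, ⟨2, rfl⟩, ?_, ?_, ?_, f_sq 1, f_sq 2, f_comm 1 2⟩
    · intro h; rw [← f_zero] at h; exact absurd (f_inj h) (by decide)
    · intro h; rw [← f_zero] at h; exact absurd (f_inj h) (by decide)
    · intro h; exact absurd (f_inj h) (by decide)
  obtain ⟨M, hNM, -, hM⟩ := exists_overgroup hodd h2 hf e hE2 hE4
  have hnorm : ∀ (g : Spor.J1) (τ : Fin 8 → Fin 8), (∀ i, g * f i * g⁻¹ = f (τ i)) →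
      g ∈ normalizer (EE : Set Spor.J1) := by
    intro g τ hg
    have : Finite (EE : Set Spor.J1) := inferInstanceAs (Finite EE)
    apply Subgroup.mem_normalizer_fintype
    rintro _ ⟨i, rfl⟩
    exact ⟨τ i, (hg i).symm⟩
  have hn7 : 7 ∣ Nat.card M := by
    have h7 : orderOf nn = 7 := by
      have : Fact (Nat.Prime 7) := ⟨by norm_num⟩
      apply orderOf_eq_prime
      · exact (rep_nn.pow 7).eq Rep.one (by decide +kernel)
      · intro h
        have h3 := nn_conj 1
        rw [h, one_mul, inv_one, mul_one] at h3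
        exact absurd (f_inj h3) (by decide)
    have h9 := Subgroup.orderOf_dvd_natCard M (hNM (hnorm nn pn nn_conj))
    exact (dvd_of_eq h7.symm).trans h9
  have hn3 : 3 ∣ Nat.card M := by
    have h7 : orderOf r = 3 := by
      have : Fact (Nat.Prime 3) := ⟨by norm_num⟩
      apply orderOf_eq_prime
      · exact (rep_r.pow 3).eq Rep.one (by decide +kernel)
      · intro h
        have h3 := r_conj 1
        rw [h, one_mul, inv_one, mul_one] at h3
        exact absurd (f_inj h3) (by decide)
    have h9 := Subgroup.orderOf_dvd_natCard M (hNM (hnorm r pr r_conj))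
    exact (dvd_of_eq h7.symm).trans h9
  have hn8 : 8 ∣ Nat.card M := by
    rw [← card_EE]
    exact Subgroup.card_dvd_of_le (le_normalizer.trans hNM)
  have h168 : 168 ∣ Nat.card M := by
    have h3 : Nat.Coprime 8 21 := by norm_num
    have h4 : 21 ∣ Nat.card M := Nat.Coprime.mul_dvd_of_dvd_of_dvd (by norm_num : Nat.Coprime 3 7) hn3 hn7
    exact Nat.Coprime.mul_dvd_of_dvd_of_dvd h3 hn8 h4
  have h3 := Subgroup.card_mul_index M
  rw [hM, hcJ] at h3
  have h4 : Fintype.card Ω ∣ 1045 := by
    obtain ⟨k, hk⟩ := h168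
    rw [hk] at h3
    exact ⟨k, by nlinarith⟩
  have h5 := hdiv.trans h1
  have h6 : ¬ Fintype.card Ω < 19 := fun h =>
    not_dvd_factorial (p := 19) (by norm_num) h (N := 175560) (by norm_num)
      (hcard ▸ card_dvd_factorial)
  have h7 : Fintype.card Ω ≤ 1045 := Nat.le_of_dvd (by norm_num) h4
  have h8 : Fintype.card Ω ∈ Nat.divisors 1045 := Nat.mem_divisors.2 ⟨h4, by norm_num⟩
  rw [show Nat.divisors 1045 = {1, 5, 11, 19, 55, 95, 209, 1045} by decide +kernel] at h8
  simp only [Finset.mem_insert, Finset.mem_singleton] at h8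
  rcases h8 with h8 | h8 | h8 | h8 | h8 | h8 | h8 | h8 <;> rw [h8] at h5 h6 <;>
    first | omega | (revert h5; decide)

end

end Cfsg.Agent.H290.TwoTrSpor
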