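import Mathlib
import Cfsg.Prelude.Def_Local
import Cfsg.Prelude.Def_LieTypeChar
import Cfsg.Agent.H290.UnbA
import Cfsg.Agent.FixBN.LOAll
import Cfsg.Agent.FixBN.FixSplit
import Cfsg.Agent.FixBN.ReeSplit
import Cfsg.Agent.FixBN.HeStab
import Cfsg.Agent.CTwoTab.Kinds
import Cfsg.Agent.Cit.Assembly
import Cfsg.Agent.Cit.PieceEnd
import Cfsg.Agent.ClassificationK.PCompTransport
import Cfsg.Agent.SignalizersComponents.EvenComponent
import Cfsg.Agent.Lib.ComponentSolvable
import Cfsg.Agent.Lib.Cores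
import Cfsg.Agent.H284.StdRed
import Cfsg.Agent.Schreier.Basic
import Cfsg.Agent.S0892
/-!
Reduction of the odd alternating unbalancing triples (S3123) to the exclusion of alternating components of
centralizers of automorphisms of order two of groups of Lie type of characteristic at least five.
-/

set_option autoImplicit false

open Subgroup Cfsg

universe u

namespace Cfsg.Agent.H290.UnbRed

open scoped commutatorElement

/-- `card A_k`. -/
theorem two_mul_card_alt {k : ℕ} (hk : 2 ≤ k) : 2 * Nat.card (alternatingGroup (Fin k)) = Nat.factorial k := by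
  have : Nontrivial (Fin k) := Fin.nontrivial_iff_two_le.2 hk
  rw [Nat.card_eq_fintype_card]
  have h := two_mul_card_alternatingGroup (α := Fin k)
  rwa [Fintype.card_perm, Fintype.card_fin] at h

section Component

variable {G : Type*} [Group G] [Finite G] {a : G} {J : Subgroup ↥(centralizer ({a} : Set G))}

/-- 2-components are components. -/
theorem isComponent (hodd : ∀ D : Subgroup ↥(centralizer ({a} : Set G)), Odd (Nat.card D) → Group.IsSolvable D)
    (hB : pLayer 2 ↥(centralizer ({a} : Set G)) = layer ↥(centralizer ({a} : Set G)))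
    (hJ : IsPComponent 2 J) : IsComponent J := by
  apply ClassificationK.PCompTransport.isComponent_of_isPComponent 2 hJ
  rw [commutator_eq_bot_iff_le_centralizer]
  have h1 : J ≤ pLayer 2 ↥(centralizer ({a} : Set G)) := le_sSup hJ
  rw [hB] at h1
  have h2 : (pPrimeCore 2 ↥(centralizer ({a} : Set G))).Normal := Lib.Cores.pPrimeCore_normal 2
  have h3 := Lib.Cores.pPrimeCore_coprime (G := ↥(centralizer ({a} : Set G))) 2
  exact h1.trans (Lib.ComponentSolvable.layer_le_centralizer_of_normal_solvable h2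
    (hodd _ (Nat.coprime_two_right.1 h3)))

/-- A quasisimple group with `J/O(J) ≅ A_k`, `k ≥ 8`, is `A_k`. -/
theorem exists_equiv_alt {J : Type*} [Group J] [Finite J] (hq : IsQuasisimple J) {k : ℕ} (hk : 8 ≤ k)
    (e : J ⧸ oddCore J ≃* alternatingGroup (Fin k)) : oddCore J = ⊥ ∧ Nonempty (J ≃* alternatingGroup (Fin k)) := by
  have hn1 : (oddCore J).Normal := Lib.Cores.pPrimeCore_normal 2
  have h2 : Even (Nat.card (alternatingGroup (Fin k))) := by
    have h1 := two_mul_card_alt (k := k) (by omega)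
    have h3 : 4 ∣ Nat.factorial k := (Nat.dvd_factorial (by norm_num) (by omega)).trans dvd_rfl
    obtain ⟨c, hc⟩ := h3
    exact ⟨c, by omega⟩
  have h3 : Even (Nat.card J) := by
    rw [even_iff_two_dvd] at h2 ⊢
    rw [← Nat.card_congr e.toEquiv] at h2
    exact h2.trans (Subgroup.card_quotient_dvd_card _)
  have hO := H284.StdRed.oddCore_le_center hq h3
  have h4 := S0892.result k (by omega) (by omega) (by omega) (oddCore J) hO
    (by rw [hq.1.commutator_eq_top]; exact le_top) e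
  have h5 := Lib.Cores.pPrimeCore_coprime (G := J) 2
  have h6 : Odd (Nat.card (oddCore J)) := Nat.coprime_two_right.1 h5
  have h7 : 0 < Nat.card (oddCore J) := Nat.card_pos
  have h8 : Nat.card (oddCore J) = 1 := by
    rcases h6 with ⟨c, hc⟩
    omega
  have h9 : oddCore J = ⊥ := Subgroup.card_eq_one.1 h8
  exact ⟨h9, ⟨((QuotientGroup.quotientMulEquivOfEq h9).trans QuotientGroup.quotientBot).symm.trans e⟩⟩

end Component

section Triple

variable {G : Type*} [Group G]

/-- Perfect subgroups are contained in a normal subgroup with trivial centralizer and the Schreier property. -/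
theorem le_of_sch {L J : Subgroup G} [L.Normal] (hC : centralizer (L : Set G) = ⊥)
    (hS : Schreier.Basic.Sch L) (hJ : ⁅J, J⁆ = J) : J ≤ L := by
  intro j hj
  obtain ⟨l, hl⟩ := hS _ (Schreier.Basic.map_perfect (MulAut.conjNormal : G →* MulAut L) hJ)
    (mem_map_of_mem _ hj)
  have h3 : (l : G)⁻¹ * j ∈ centralizer (L : Set G) := by
    rw [mem_centralizer_iff]
    intro y hy
    have h4 := congrArg (fun f : MulAut L => ((f ⟨y, hy⟩ : L) : G)) hl
    simp only [MulAut.conj_apply, MulAut.conjNormal_apply, coe_mul, coe_inv] at h4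
    have h5 : (l : G) * y * (l : G)⁻¹ = j * y * j⁻¹ := h4
    calc y * ((l : G)⁻¹ * j) = (l : G)⁻¹ * (l * y * (l : G)⁻¹) * j := by group
      _ = (l : G)⁻¹ * (j * y * j⁻¹) * j := by rw [h5]
      _ = (l : G)⁻¹ * j * y := by group
  rw [hC, mem_bot, inv_mul_eq_one] at h3
  rw [← h3]
  exact l.2

/-- The three-element in `J ∩ O(C(x))`. -/
theorem three_mem [Finite G] {a x : G} {J : Subgroup G} (hx : orderOf x = 2)
    (hJa : J ≤ centralizer ({a} : Set G)) (hJx : ∀ l ∈ J, x * l * x⁻¹ ∈ J)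
    (hJu : J = ⁅J, centralizerPPrimeCore 2 x ⊓ centralizer ({a} : Set G)⁆)
    {k : ℕ} (hk : 7 ≤ k) (e : J ≃* alternatingGroup (Fin k)) :
    ∃ t ∈ J, t ∈ centralizerPPrimeCore 2 x ∧ t ≠ 1 ∧ t ^ 3 = 1 := by
  set D : Subgroup G := centralizerPPrimeCore 2 x ⊓ centralizer ({a} : Set G) with hD
  have hxx : x * x = 1 := by rw [← sq, ← hx, pow_orderOf_eq_one]
  have hxi : x⁻¹ = x := inv_eq_of_mul_eq_one_left hxx
  have hodd : Odd (Nat.card ↥(centralizerPPrimeCore 2 x)) := by
    have h1 := Lib.Cores.pPrimeCore_coprime (G := ↥(centralizer ({x} : Set G))) 2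
    have h2 : Nat.card ↥(centralizerPPrimeCore 2 x) = Nat.card ↥(pPrimeCore 2 ↥(centralizer ({x} : Set G))) :=
      Nat.card_congr (Subgroup.equivMapOfInjective _ _ (subtype_injective _)).symm.toEquiv
    rw [h2]
    exact Nat.coprime_two_right.1 h1
  have hcore : ∀ g : G, x * g = g * x → ∀ d ∈ centralizerPPrimeCore 2 x, g * d * g⁻¹ ∈ centralizerPPrimeCore 2 x := by
    rintro g hg _ ⟨d, hd, rfl⟩
    have hn : (pPrimeCore 2 ↥(centralizer ({x} : Set G))).Normal := Lib.Cores.pPrimeCore_normal 2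
    have hg' : g ∈ centralizer ({x} : Set G) := by
      rw [mem_centralizer_singleton_iff]; exact hg.symm
    exact ⟨⟨g, hg'⟩ * d * ⟨g, hg'⟩⁻¹, hn.conj_mem d hd _, rfl⟩
  have hdx : ∀ d ∈ centralizerPPrimeCore 2 x, x * d = d * x := by
    rintro _ ⟨d, hd, rfl⟩
    exact (mem_centralizer_singleton_iff.1 d.2).symm
  have hJx' : ∀ j, j ∈ J ↔ x * j * x⁻¹ ∈ J := fun j => ⟨hJx j, fun h => by
    have h1 := hJx _ h
    have h2 : x * (x * j * x⁻¹) * x⁻¹ = (x * x) * j * (x * x)⁻¹ := by group
    rw [h2, hxx, one_mul, inv_one, mul_one] at h1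
    exact h1⟩
  have hDJ1 : ∀ d ∈ D, ∀ j ∈ J, d * j * d⁻¹ ∈ J := by
    intro d hd j hj
    have h1 : ⁅j, d⁆ ∈ J := by
      rw [hJu]
      exact commutator_mem_commutator hj hd
    have h2 : d * j * d⁻¹ = ⁅j, d⁆⁻¹ * j := by rw [commutatorElement_def]; group
    rw [h2]
    exact mul_mem (inv_mem h1) hj
  obtain ⟨t, ht, htD, h1, h3⟩ := UnbA.three_mem (D := D) hk e hxx hJx'
    (hodd.of_dvd_nat (Subgroup.card_dvd_of_le inf_le_left)) (fun d hd => hdx d hd.1)
    (fun d hd j => ⟨hDJ1 d hd j, fun h => by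
      have h1 := hDJ1 d⁻¹ (inv_mem hd) _ h
      have h2 : d⁻¹ * (d * j * d⁻¹) * d⁻¹⁻¹ = j := by group
      rwa [h2] at h1⟩)
    (fun j hj hxj d hd => ⟨hcore j hxj d hd.1,
      Subgroup.mul_mem _ (Subgroup.mul_mem _ (hJa hj) hd.2) (Subgroup.inv_mem _ (hJa hj))⟩) (by
      by_contra hcon
      push Not at hcon
      have h1 : ⁅J, D⁆ = ⊥ := by
        rw [commutator_eq_bot_iff_le_centralizer]
        intro j hj
        rw [mem_centralizer_iff]
        exact fun d hd => hcon d hd j hj
      rw [h1] at hJu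
      have h2 : Nat.card J = 1 := by rw [hJu]; exact Subgroup.card_bot
      have h3 := two_mul_card_alt (k := k) (by omega)
      rw [← Nat.card_congr e.toEquiv, h2] at h3
      have h4 : Nat.factorial 7 ≤ Nat.factorial k := Nat.factorial_le hk
      have h5 : Nat.factorial 7 = 5040 := rfl
      omega)
  exact ⟨t, ht, htD.1, h1, h3⟩

/-- The simple groups of Lie type of characteristic three have a split (B,N)-pair. -/
theorem hasSplit_three {L : Type*} [Group L] [IsSimpleGroup L] (h : IsLieTypeChar 3 L) : FixBN.HasSplit 3 L := by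
  rcases FixBN.exists_good_model (by norm_num) h with ⟨K, _, _, _, _, hK, ⟨e⟩⟩ | h
  · exact FixBN.Transport.hasSplit_congr e.symm hK.hasSplit
  · exact FixBN.ReeSplit.hasSplit_of_isoRee h

/-- The core of the centralizer of an involution of a group of Lie type of characteristic three has order prime
to three. -/
theorem not_three [Finite G] {L : Subgroup G} [L.Normal] (hs : IsSimpleGroup L) (h : IsLieTypeChar 3 L) {x : G}
    (hx : orderOf x = 2) {t : G} (htL : t ∈ L) (ht : t ∈ centralizerPPrimeCore 2 x) (h1 : t ≠ 1)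
    (h3 : t ^ 3 = 1) : False := by
  have hxx : x * x = 1 := by rw [← sq, ← hx, pow_orderOf_eq_one]
  have hodd : Odd (Nat.card ↥(centralizerPPrimeCore 2 x)) := by
    have h1 := Lib.Cores.pPrimeCore_coprime (G := ↥(centralizer ({x} : Set G))) 2
    have h2 : Nat.card ↥(centralizerPPrimeCore 2 x) = Nat.card ↥(pPrimeCore 2 ↥(centralizer ({x} : Set G))) :=
      Nat.card_congr (Subgroup.equivMapOfInjective _ _ (subtype_injective _)).symm.toEquiv
    rw [h2]
    exact Nat.coprime_two_right.1 h1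
  have hcore : ∀ g : G, x * g = g * x → ∀ d ∈ centralizerPPrimeCore 2 x, g * d * g⁻¹ ∈ centralizerPPrimeCore 2 x := by
    rintro g hg _ ⟨d, hd, rfl⟩
    have hn : (pPrimeCore 2 ↥(centralizer ({x} : Set G))).Normal := Lib.Cores.pPrimeCore_normal 2
    have hg' : g ∈ centralizer ({x} : Set G) := by
      rw [mem_centralizer_singleton_iff]; exact hg.symm
    exact ⟨⟨g, hg'⟩ * d * ⟨g, hg'⟩⁻¹, hn.conj_mem d hd _, rfl⟩
  have hdx : ∀ d ∈ centralizerPPrimeCore 2 x, x * d = d * x := by
    rintro _ ⟨d, hd, rfl⟩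
    exact (mem_centralizer_singleton_iff.1 d.2).symm
  let τ : L ≃* L := MulAut.conjNormal x
  have hτc : ∀ g : L, ((τ g : L) : G) = x * g * x⁻¹ := fun g => rfl
  have hτ : ∀ g, τ (τ g) = g := by
    intro g
    apply Subtype.ext
    rw [hτc, hτc]
    have h2 : x * (x * (g : G) * x⁻¹) * x⁻¹ = (x * x) * g * (x * x)⁻¹ := by group
    rw [h2, hxx, one_mul, inv_one, mul_one]
  have hfact : Fact (Nat.Prime 3) := ⟨Nat.prime_three⟩
  have key := (FixBN.fix_of_hasSplit (p := 3) (by norm_num) (hasSplit_three h) τ hτ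
    (X := (centralizerPPrimeCore 2 x).subgroupOf L) (fun y hy => by
      apply Subtype.ext
      rw [hτc, hdx y (mem_subgroupOf.1 hy), mul_inv_cancel_right])
    (fun g hg y hy => by
      rw [mem_subgroupOf] at hy ⊢
      have h2 : x * (g : G) * x⁻¹ = g := by rw [← hτc, hg]
      exact hcore g (mul_inv_eq_iff_eq_mul.1 h2) y hy)
    (hodd.of_dvd_nat (Subgroup.card_comap_dvd_of_injective _ _ (subtype_injective L)))).1
  apply key
  have h4 : orderOf (⟨⟨t, htL⟩, ht⟩ : (centralizerPPrimeCore 2 x).subgroupOf L) = 3 :=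
    orderOf_eq_prime (Subtype.ext (Subtype.ext h3)) (fun h5 => h1 (congrArg
      (fun y : (centralizerPPrimeCore 2 x).subgroupOf L => ((y : L) : G)) h5))
  rw [← h4]
  exact orderOf_dvd_natCard _

end Triple

/-- The exclusion of the alternating components of the centralizers of automorphisms of order two of the groups of
Lie type of characteristic at least five. -/
def NoAlt : Prop :=
  ∀ (p : ℕ) [Fact p.Prime], 5 ≤ p → ∀ (L : Type u) [Group L] [Finite L] [IsSimpleGroup L], IsLieTypeChar p L →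
    ∀ τ : L ≃* L, (∀ g, τ (τ g) = g) → ∀ m : ℕ, 9 ≤ m → ∀ J : Subgroup ↥(FixBN.Reduce.fixSub τ), IsPComponent 2 J →
      Nonempty (↥J ⧸ oddCore ↥J ≃* alternatingGroup (Fin m)) → False

/-- Transport to the automorphism induced by `a` on `L`. -/
theorem no_lie (hN : NoAlt.{u}) {G : Type u} [Group G] [Finite G] {L : Subgroup G} [L.Normal]
    (hs : IsSimpleGroup L) {p : ℕ} [Fact p.Prime] (hp : 5 ≤ p) (h : IsLieTypeChar p L) {a : G}
    (ha : orderOf a = 2) {J : Subgroup ↥(centralizer ({a} : Set G))} (hJ : IsComponent J)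
    (hJL : J.map (centralizer ({a} : Set G)).subtype ≤ L) {k : ℕ} (hk : 9 ≤ k)
    (e : J ≃* alternatingGroup (Fin k)) : False := by
  have haa : a * a = 1 := by rw [← sq, ← ha, pow_orderOf_eq_one]
  let τ : L ≃* L := MulAut.conjNormal a
  have hτc : ∀ g : L, ((τ g : L) : G) = a * g * a⁻¹ := fun g => rfl
  have hτ : ∀ g, τ (τ g) = g := by
    intro g
    apply Subtype.ext
    rw [hτc, hτc]
    have h2 : a * (a * (g : G) * a⁻¹) * a⁻¹ = (a * a) * g * (a * a)⁻¹ := by group
    rw [h2, haa, one_mul, inv_one, mul_one]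
  have hmem : ∀ y : ↥(FixBN.Reduce.fixSub τ), ((y : L) : G) ∈ centralizer ({a} : Set G) := by
    intro y
    have h1 : a * ((y : L) : G) * a⁻¹ = ((y : L) : G) := by rw [← hτc, FixBN.Reduce.mem_fixSub.1 y.2]
    rw [mem_centralizer_singleton_iff]
    exact (mul_inv_eq_iff_eq_mul.1 h1).symm
  let φ : ↥(FixBN.Reduce.fixSub τ) →* ↥(centralizer ({a} : Set G)) :=
    { toFun := fun y => ⟨((y : L) : G), hmem y⟩
      map_one' := rfl
      map_mul' := fun _ _ => rfl }
  have hφ : Function.Injective φ := fun y z hyz =>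
    Subtype.ext (Subtype.ext (congrArg (fun w : ↥(centralizer ({a} : Set G)) => (w : G)) hyz))
  have hr : ∀ j ∈ J, ∃ y, φ y = j := by
    intro j hj
    have h1 : (j : G) ∈ L := hJL (mem_map_of_mem _ hj)
    have h2 : (⟨(j : G), h1⟩ : L) ∈ FixBN.Reduce.fixSub τ := by
      rw [FixBN.Reduce.mem_fixSub]
      apply Subtype.ext
      rw [hτc]
      change a * (j : G) * a⁻¹ = j
      rw [← mem_centralizer_singleton_iff.1 j.2, mul_inv_cancel_right]
    exact ⟨⟨⟨(j : G), h1⟩, h2⟩, rfl⟩
  let f : ↥(J.comap φ) →* ↥J :=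
    { toFun := fun y => (⟨φ y, y.2⟩ : J)
      map_one' := Subtype.ext (map_one φ)
      map_mul' := fun _ _ => Subtype.ext (map_mul φ _ _) }
  let e1 : ↥(J.comap φ) ≃* ↥J := MulEquiv.ofBijective f
    ⟨fun y z hyz => Subtype.ext (hφ (congrArg (fun w : J => (w : ↥(centralizer ({a} : Set G)))) hyz)), fun j => by
      obtain ⟨y, hy⟩ := hr j j.2
      exact ⟨⟨y, by rw [mem_comap, hy]; exact j.2⟩, Subtype.ext hy⟩⟩
  have hq : IsQuasisimple ↥(J.comap φ) :=
    (SignalizersComponents.Components.isQuasisimple_congr e1).2 hJ.2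
  have hcard : Nat.card ↥(J.comap φ) = Nat.card (alternatingGroup (Fin k)) := Nat.card_congr (e1.trans e).toEquiv
  have hc2 := two_mul_card_alt (k := k) (by omega)
  have h4 : 4 ∣ Nat.factorial k := (Nat.dvd_factorial (by norm_num) (by omega)).trans dvd_rfl
  have h2 : 2 ∣ Nat.card ↥(J.comap φ) := by
    rw [hcard]
    omega
  have hcomp : IsComponent (J.comap φ) := ⟨hJ.1.comap φ, hq⟩
  have hp2 : Fact (Nat.Prime 2) := ⟨Nat.prime_two⟩
  have hpc := SignalizersComponents.EvenComponent.isPComponent_of_isComponent (p := 2) hcomp h2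
  have hsimp : IsSimpleGroup ↥(J.comap φ) := by
    have h5 : IsSimpleGroup (alternatingGroup (Fin k)) :=
      alternatingGroup.isSimpleGroup (by rw [Nat.card_fin]; omega)
    exact (e1.trans e).isSimpleGroup
  have hO := H284.StdRed.oddCore_le_center hq (even_iff_two_dvd.2 h2)
  have hZ : center ↥(J.comap φ) = ⊥ := by
    rcases (inferInstance : (center ↥(J.comap φ)).Normal).eq_bot_or_eq_top with h5 | h5
    · exact h5
    · exact absurd h5 (Lib.ComponentSolvable.quasisimple_center_ne_top hq)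
  have hO' : oddCore ↥(J.comap φ) = ⊥ := by rw [eq_bot_iff, ← hZ]; exact hO
  exact hN p hp L h τ hτ k hk (J.comap φ) hpc
    ⟨((QuotientGroup.quotientMulEquivOfEq hO').trans QuotientGroup.quotientBot).trans (e1.trans e)⟩

theorem lt_of_card_lt {k m : ℕ} (hk : 2 ≤ k) (hm : 2 ≤ m)
    (h : Nat.card (alternatingGroup (Fin k)) < Nat.card (alternatingGroup (Fin m))) : k < m := by
  by_contra hcon
  have h1 := two_mul_card_alt hk
  have h2 := two_mul_card_alt hm
  have h3 : Nat.factorial m ≤ Nat.factorial k := Nat.factorial_le (by omega)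
  omega

/-- **The reduction of S3123 to `NoAlt`.** -/
theorem main (hN : NoAlt.{u}) {G : Type u} [Group G] [Finite G]
    (hF : IsSimpleGroup ↥(generalizedFittingSubgroup G)) (hF' : ¬ IsMulCommutative ↥(generalizedFittingSubgroup G))
    (a x : G) (ha : orderOf a = 2) (hx : orderOf x = 2)
    (hodd : ∀ D : Subgroup ↥(centralizer ({a} : Set G)), Odd (Nat.card D) → Group.IsSolvable D)
    (hB : pLayer 2 ↥(centralizer ({a} : Set G)) = layer ↥(centralizer ({a} : Set G)))
    (hsch : (∃ p : ℕ, p.Prime ∧ p ≠ 2 ∧ IsLieTypeChar p ↥(generalizedFittingSubgroup G)) ∨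
      (∃ n : ℕ, Odd n ∧ 7 ≤ n ∧ Nonempty (↥(generalizedFittingSubgroup G) ≃* ↥(alternatingGroup (Fin n)))) ∨
      (∃ (F : Type) (_ : Field F) (_ : Fintype F), Fintype.card F = 4 ∧
        Nonempty (↥(generalizedFittingSubgroup G) ≃* Matrix.ProjectiveSpecialLinearGroup (Fin 3) F)) ∨
      Spor.IsoHe ↥(generalizedFittingSubgroup G) → Schreier.Basic.Sch ↥(generalizedFittingSubgroup G))
    (hcases : centralizerPPrimeCore 2 x ≠ ⊥ →
      (∃ p : ℕ, p.Prime ∧ p ≠ 2 ∧ IsLieTypeChar p ↥(generalizedFittingSubgroup G)) ∨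
      (∃ n : ℕ, Odd n ∧ 7 ≤ n ∧ Nonempty (↥(generalizedFittingSubgroup G) ≃* ↥(alternatingGroup (Fin n)))) ∨
      (∃ (F : Type) (_ : Field F) (_ : Fintype F), Fintype.card F = 4 ∧
        Nonempty (↥(generalizedFittingSubgroup G) ≃* Matrix.ProjectiveSpecialLinearGroup (Fin 3) F)) ∨
      Spor.IsoHe ↥(generalizedFittingSubgroup G))
    (J : Subgroup ↥(centralizer ({a} : Set G))) (hJ : IsPComponent 2 J)
    (hJx : ∀ l ∈ J.map (centralizer ({a} : Set G)).subtype, x * l * x⁻¹ ∈ J.map (centralizer ({a} : Set G)).subtype)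
    (hJu : J.map (centralizer ({a} : Set G)).subtype =
      (oddCore ↥J).map ((centralizer ({a} : Set G)).subtype.comp J.subtype) ⊔
        ⁅J.map (centralizer ({a} : Set G)).subtype, centralizerPPrimeCore 2 x ⊓ centralizer ({a} : Set G)⁆)
    (n : ℕ) (hn : 4 ≤ n) (hJA : Nonempty ((↥J ⧸ oddCore ↥J) ≃* ↥(alternatingGroup (Fin (2 * n + 1))))) :
    ∃ m : ℕ, n < m ∧ Nonempty (↥(generalizedFittingSubgroup G) ≃* ↥(alternatingGroup (Fin (2 * m + 1)))) := by
  obtain ⟨e0⟩ := hJA
  have hJc := isComponent hodd hB hJ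
  obtain ⟨hO, ⟨e⟩⟩ := exists_equiv_alt hJc.2 (k := 2 * n + 1) (by omega) e0
  have hcent := Cit.PieceEnd.centralizer_fstar hF hF'
  have hnorm : (generalizedFittingSubgroup G).Normal := Lib.GenFitting.genFitting_normal
  set L := generalizedFittingSubgroup G with hL
  set J0 := J.map (centralizer ({a} : Set G)).subtype with hJ0
  have e1 : J0 ≃* alternatingGroup (Fin (2 * n + 1)) :=
    (Subgroup.equivMapOfInjective J _ (subtype_injective _)).symm.trans e
  rw [hO, Subgroup.map_bot, bot_sup_eq] at hJu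
  have hJa : J0 ≤ centralizer ({a} : Set G) := by
    rintro _ ⟨j, _, rfl⟩
    exact j.2
  have hJ1 : J0 ≠ ⊥ := by
    intro h1
    have h2 : Nat.card J0 = 1 := by rw [h1]; exact Subgroup.card_bot
    rw [Nat.card_congr e1.toEquiv] at h2
    have h3 := two_mul_card_alt (k := 2 * n + 1) (by omega)
    have h4 : Nat.factorial 9 ≤ Nat.factorial (2 * n + 1) := Nat.factorial_le (by omega)
    have h5 : Nat.factorial 9 = 362880 := rfl
    omega
  have hcore : centralizerPPrimeCore 2 x ≠ ⊥ := by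
    intro h1
    rw [h1, bot_inf_eq, commutator_bot_right] at hJu
    exact hJ1 hJu
  have hperf : ⁅J0, J0⁆ = J0 := by
    have h1 : ⁅J, J⁆ = J := ClassificationK.PCompTransport.isPComponent_perfect 2 hJ
    rw [hJ0, ← map_commutator, h1]
  have hJL : J0 ≤ L := le_of_sch hcent (hsch (hcases hcore)) hperf
  have hne : J0 ≠ L := by
    intro h1
    have h2 : a ∈ centralizer (L : Set G) := by
      rw [mem_centralizer_iff]
      intro y hy
      rw [← h1] at hy
      exact mem_centralizer_singleton_iff.1 (hJa hy)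
    rw [hcent, mem_bot] at h2
    rw [h2, orderOf_one] at ha
    omega
  have hlt : Nat.card J0 < Nat.card L := by
    refine lt_of_le_of_ne (Nat.le_of_dvd Nat.card_pos (Subgroup.card_dvd_of_le hJL)) ?_
    intro h1
    exact hne (Subgroup.eq_of_le_of_card_ge hJL h1.ge)
  have hdvd : Nat.card J0 ∣ Nat.card L := Subgroup.card_dvd_of_le hJL
  have hc0 := two_mul_card_alt (k := 2 * n + 1) (by omega)
  rw [← Nat.card_congr e1.toEquiv] at hc0
  have h9 : Nat.factorial 9 ∣ Nat.factorial (2 * n + 1) := Nat.factorial_dvd_factorial (by omega)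
  have h9' : Nat.factorial 9 = 362880 := rfl
  rw [h9'] at h9
  rcases hcases hcore with ⟨p, hp, hp2, h⟩ | ⟨m', hm', hm7, ⟨eL⟩⟩ | ⟨F, _, _, hF4, ⟨eL⟩⟩ | hHe
  · exfalso
    have hpf : Fact p.Prime := ⟨hp⟩
    obtain ⟨t, htJ, htO, ht1, ht3⟩ := three_mem hx hJa hJx hJu (k := 2 * n + 1) (by omega) e1
    have hp3 : p ≠ 3 := by
      rintro rfl
      exact not_three hF h hx (hJL htJ) htO ht1 ht3
    have hp5 : 5 ≤ p := by
      have h2 := hp.two_le
      have h4 : p ≠ 4 := by rintro rfl; exact absurd hp (by norm_num)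
      omega
    exact no_lie hN hF hp5 h ha hJc hJL (k := 2 * n + 1) (by omega) e
  · obtain ⟨m, rfl⟩ := hm'
    refine ⟨m, ?_, ⟨eL⟩⟩
    rw [Nat.card_congr e1.toEquiv, Nat.card_congr eL.toEquiv] at hlt
    have h1 := lt_of_card_lt (by omega) (by omega) hlt
    omega
  · exfalso
    have h1 := CTwoTab.card_L34 hF4 eL
    rw [h1] at hlt
    have h2 : 362880 ≤ Nat.factorial (2 * n + 1) := Nat.le_of_dvd (Nat.factorial_pos _) h9
    omega
  · exfalso
    obtain ⟨eL⟩ := hHe
    have h1 : Nat.card L = 4030387200 := by rw [Nat.card_congr eL.toEquiv, FixBN.HeStab.card_he]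
    rw [h1] at hdvd
    rw [← hc0] at h9
    have h2 : 181440 ∣ Nat.card J0 := by omega
    have h3 := h2.trans hdvd
    norm_num at h3

end Cfsg.Agent.H290.UnbRed
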